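import Mathlib.GroupTheory.Transfer

/-!
The transfer at an element all of whose relevant conjugates have the same image.
-/

set_option autoImplicit false

namespace Cfsg.Lib.McLLocal

open Subgroup Function MulAction

universe u v

variable {G : Type u} [Group G] {H : Subgroup G} {A : Type v} [CommGroup A] (ϕ : H →* A)

/-- The transfer is the power by the index when conjugate powers in the subgroup have equal images. -/
theorem transfer_eq_index [H.FiniteIndex] {g : G} (hg : g ∈ H)
    (key : ∀ (k : ℕ) (g₀ : G) (hk : g₀⁻¹ * g ^ k * g₀ ∈ H), ϕ ⟨g₀⁻¹ * g ^ k * g₀, hk⟩ = ϕ ⟨g, hg⟩ ^ k) :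
    MonoidHom.transfer ϕ g = ϕ ⟨g, hg⟩ ^ H.index := by
  classical
  let := H.fintypeQuotientOfFiniteIndex
  rw [MonoidHom.transfer_eq_prod_quotient_orbitRel_zpowers_quot, index_eq_sum_minimalPeriod H g,
    ← Finset.prod_pow_eq_pow_sum]
  exact Finset.prod_congr rfl fun q _ => key _ _ _

end Cfsg.Lib.McLLocal
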