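import Cfsg.Agent.Components.PxQ
import Cfsg.Agent.Components.Cores
import Cfsg.Agent.Coprime.Sylow
import Cfsg.Agent.Classical.Misc.SLTwoTori
import Mathlib.GroupTheory.SpecificGroups.Alternating
import Cfsg.Prelude.Def_Transfer

/-!
The two three-local subgroups of a group with the three-local structure of the McLaughlin group.
-/

set_option autoImplicit false
set_option linter.unusedSectionVars false

namespace Cfsg.Lib.McLLocal

open Subgroup
open scoped commutatorElement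

universe u

/-- The three-local data. -/
structure Data (G : Type u) [Group G] where
  S : Sylow 3 G
  Z : Subgroup G
  J : Subgroup G
  M₀ : Subgroup G
  L₀ : Subgroup G
  Q : Subgroup G
  hZ : Z = (S : Subgroup G) ⊓ centralizer ((S : Subgroup G) : Set G)
  hJS : J ≤ S
  hJcomm : IsMulCommutative J
  hJexp : ∀ a ∈ J, a ^ 3 = 1
  hJcard : Nat.card J = 81
  hM₀ : M₀ = closure {g : G | g ∈ normalizer (J : Set G) ∧ ∃ k : ℕ, orderOf g = 3 ^ k}
  hJM : J ≤ M₀
  φ : M₀ →* alternatingGroup (Fin 6)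
  φ_surj : Function.Surjective φ
  φ_ker : φ.ker = J.subgroupOf M₀
  hL₀ : L₀ = closure {g : G | g ∈ normalizer (Z : Set G) ∧ ∃ k : ℕ, orderOf g = 3 ^ k}
  hQ : Q = (Cfsg.pCore 3 (normalizer (Z : Set G))).map (normalizer (Z : Set G)).subtype
  hQex : Cfsg.IsExtraspecial 3 Q
  hQcard : Nat.card Q = 243
  hQexp : ∀ a ∈ Q, a ^ 3 = 1
  hQL : Q ≤ L₀
  ψ : L₀ →* Matrix.SpecialLinearGroup (Fin 2) (ZMod 5)
  ψ_surj : Function.Surjective ψ
  ψ_ker : ψ.ker = Q.subgroupOf L₀
  hCQ : centralizer (Q : Set G) ≤ Q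

variable {G : Type u} [Group G] [Finite G]

theorem fact_three : Fact (Nat.Prime 3) := ⟨Nat.prime_three⟩

/-- A three-group normalised by a Sylow subgroup lies in it. -/
theorem le_sylow_of_normalized (S : Sylow 3 G) {A : Subgroup G} (hA : IsPGroup 3 A)
    (h : (S : Subgroup G) ≤ normalizer (A : Set G)) : A ≤ S :=
  le_sup_right.trans (S.3 (S.2.to_sup_of_normal_right' hA h) le_sup_left).le

theorem mem_normalizer_of_map_mem {N : Subgroup G} {g : G} (h : ∀ x ∈ N, g * x * g⁻¹ ∈ N) :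
    g ∈ normalizer (N : Set G) := by
  have hle : N.map (MulAut.conj g).toMonoidHom ≤ N := by
    rintro _ ⟨x, hx, rfl⟩
    exact h x hx
  rw [mem_normalizer_iff_map_conj_eq]
  exact eq_of_le_of_card_ge hle
    (Nat.card_congr (N.equivMapOfInjective _ (MulAut.conj g).injective).toEquiv).le

theorem card_of_hom {H : Subgroup G} {K : Type*} [Group K] (f : H →* K) (hf : Function.Surjective f)
    {N : Subgroup G} (hN : N ≤ H) (hk : f.ker = N.subgroupOf H) :
    Nat.card H = Nat.card K * Nat.card N := by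
  rw [card_eq_card_quotient_mul_card_subgroup f.ker,
    Nat.card_congr (QuotientGroup.quotientKerEquivOfSurjective f hf).toEquiv, hk,
    Nat.card_congr (subgroupOfEquivOfLe hN).toEquiv]

namespace Data

variable (D : Data G)

/-- The normaliser of the central subgroup. -/
abbrev L : Subgroup G := normalizer (D.Z : Set G)

/-- The normaliser of the abelian subgroup. -/
abbrev M : Subgroup G := normalizer (D.J : Set G)

/-- The intersection. -/
def W : Subgroup G := D.J ⊓ D.Q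

theorem Z_le_S : D.Z ≤ D.S := D.hZ ▸ inf_le_left

theorem S_le_cent : (D.S : Subgroup G) ≤ centralizer (D.Z : Set G) := by
  rw [le_centralizer_iff, D.hZ]
  exact inf_le_right

theorem S_le_L : (D.S : Subgroup G) ≤ D.L := D.S_le_cent.trans (centralizer_le_normalizer _)

theorem Q_le_L : D.Q ≤ D.L := D.hQ ▸ map_subtype_le _

theorem L_le_norm_Q : D.L ≤ normalizer (D.Q : Set G) := by
  intro g hg
  rw [D.hQ, mem_normalizer_iff]
  intro x
  have hn : (Cfsg.pCore 3 D.L).Normal := inferInstance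
  constructor
  · rintro ⟨y, hy, rfl⟩
    exact ⟨⟨g, hg⟩ * y * (⟨g, hg⟩ : D.L)⁻¹, hn.conj_mem y hy _, rfl⟩
  · rintro ⟨y, hy, e⟩
    refine ⟨(⟨g, hg⟩ : D.L)⁻¹ * y * ⟨g, hg⟩, ?_, ?_⟩
    · simpa using hn.conj_mem y hy (⟨g, hg⟩ : D.L)⁻¹
    · show g⁻¹ * (y : G) * g = x
      rw [show (y : G) = g * x * g⁻¹ from e]
      group

theorem pgroup_Q : IsPGroup 3 D.Q := by
  haveI := fact_three
  exact IsPGroup.of_card (n := 5) D.hQcard

theorem Q_le_S : D.Q ≤ D.S := le_sylow_of_normalized D.S D.pgroup_Q (D.S_le_L.trans D.L_le_norm_Q)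

theorem Z_le_Q : D.Z ≤ D.Q := by
  have hn : (D.Z.subgroupOf D.L).Normal := normal_subgroupOf_of_le_normalizer le_rfl
  have hp : IsPGroup 3 (D.Z.subgroupOf D.L) :=
    ((D.S.2.to_le D.Z_le_S).of_equiv (subgroupOfEquivOfLe (le_normalizer)).symm)
  intro z hz
  rw [D.hQ]
  exact ⟨⟨z, le_normalizer hz⟩, Cfsg.Lib.Components.le_pCore hp hz, rfl⟩

theorem center_card : Nat.card ((center D.Q).map D.Q.subtype) = 3 := by
  rw [Nat.card_congr (equivMapOfInjective (center D.Q) D.Q.subtype D.Q.subtype_injective).toEquiv.symm]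
  exact D.hQex.2

theorem Z_eq : D.Z = (center D.Q).map D.Q.subtype := by
  haveI := fact_three
  have hle : D.Z ≤ (center D.Q).map D.Q.subtype := by
    intro z hz
    refine ⟨⟨z, D.Z_le_Q hz⟩, mem_center_iff.2 fun q => Subtype.ext ?_, rfl⟩
    exact (mem_centralizer_iff.1 (D.S_le_cent (D.Q_le_S q.2)) z hz).symm
  refine eq_of_le_of_card_ge hle ?_
  rw [D.center_card]
  have hpos : Nontrivial (D.S : Subgroup G) := by
    have h := card_le_of_le D.Q_le_S
    rw [D.hQcard] at h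
    exact Finite.one_lt_card_iff_nontrivial.1 (by omega)
  haveI := hpos
  haveI := IsPGroup.center_nontrivial D.S.2
  obtain ⟨c, hc⟩ := exists_ne (1 : center (D.S : Subgroup G))
  have hcZ : ((c : (D.S : Subgroup G)) : G) ∈ D.Z := by
    rw [D.hZ]
    refine ⟨(c : (D.S : Subgroup G)).2, mem_centralizer_iff.2 fun s hs => ?_⟩
    exact congrArg Subtype.val (mem_center_iff.1 c.2 ⟨s, hs⟩)
  have hne : D.Z ≠ ⊥ := fun h => hc (by
    rw [h, mem_bot] at hcZ
    exact Subtype.ext (Subtype.ext hcZ))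
  obtain ⟨n, hn⟩ := (D.S.2.to_le D.Z_le_S).exists_card_eq
  have h1 : 1 < Nat.card D.Z := (one_lt_card_iff_ne_bot _).2 hne
  rcases n with _ | n
  · omega
  · rw [hn, pow_succ]
    exact Nat.le_mul_of_pos_left 3 (pow_pos (by norm_num) n)

theorem card_Z : Nat.card D.Z = 3 := D.Z_eq ▸ D.center_card

theorem commutator_Q {a b : G} (ha : a ∈ D.Q) (hb : b ∈ D.Q) : a * b * a⁻¹ * b⁻¹ ∈ D.Z := by
  rw [D.Z_eq, ← D.hQex.1.2.2]
  exact ⟨⁅(⟨a, ha⟩ : D.Q), (⟨b, hb⟩ : D.Q)⁆, commutator_mem_commutator (mem_top _) (mem_top _), rfl⟩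

theorem mem_L₀ {g : G} (hg : g ∈ D.L) {k : ℕ} (hk : orderOf g = 3 ^ k) : g ∈ D.L₀ := by
  rw [D.hL₀]
  exact subset_closure ⟨hg, k, hk⟩

theorem mem_M₀ {g : G} (hg : g ∈ D.M) {k : ℕ} (hk : orderOf g = 3 ^ k) : g ∈ D.M₀ := by
  rw [D.hM₀]
  exact subset_closure ⟨hg, k, hk⟩

theorem L₀_le_L : D.L₀ ≤ D.L := D.hL₀ ▸ (closure_le _).2 fun _ h => h.1

/-- Three-elements of the normaliser fix the centre. -/
theorem three_mem_centralizer {g : G} (hg : g ∈ D.L) {k : ℕ} (hk : orderOf g = 3 ^ k) :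
    g ∈ centralizer (D.Z : Set G) := by
  refine mem_centralizer_iff.2 fun z hz => ?_
  by_cases hz1 : z = 1
  · rw [hz1, one_mul, mul_one]
  haveI := fact_three
  have ho : orderOf z = 3 :=
    orderOf_eq_prime (D.hQexp z (D.Z_le_Q hz)) hz1
  have hzp : zpowers z = D.Z := eq_of_le_of_card_ge (zpowers_le.2 hz) (by rw [Nat.card_zpowers, ho, D.card_Z])
  have hc : g * z * g⁻¹ ∈ zpowers z := hzp.symm ▸ (mem_normalizer_iff.1 hg z).1 hz
  obtain ⟨i, hi, he⟩ : ∃ i, i < 3 ∧ g * z * g⁻¹ = z ^ i := by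
    obtain ⟨n, hn⟩ := mem_zpowers_iff.1 hc
    refine ⟨(n % 3).toNat, by omega, ?_⟩
    rw [← hn, ← zpow_natCast, Int.toNat_of_nonneg (Int.emod_nonneg _ (by norm_num)),
      show (3 : ℤ) = ((orderOf z : ℕ) : ℤ) by rw [ho]; norm_num, zpow_mod_orderOf]
  interval_cases i
  · rw [pow_zero, mul_inv_eq_one, mul_eq_left] at he
    exact absurd he hz1
  · rw [pow_one] at he
    exact (mul_inv_eq_iff_eq_mul.1 he).symm
  · have h2 : Commute (g ^ 2) z := by
      refine mul_inv_eq_iff_eq_mul.1 ?_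
      calc g ^ 2 * z * (g ^ 2)⁻¹ = g * (g * z * g⁻¹) * g⁻¹ := by rw [pow_two]; group
        _ = g * (z * z) * g⁻¹ := by rw [he, pow_two]
        _ = g * z * g⁻¹ * (g * z * g⁻¹) := by group
        _ = z ^ 3 * z := by rw [he]; group
        _ = z := by rw [D.hQexp z (D.Z_le_Q hz), one_mul]
    obtain ⟨m, hm⟩ : Odd (3 ^ k) := (by decide : Odd 3).pow
    have hgm : g = (g ^ 2) ^ (m + 1) := by
      rw [← pow_mul, show 2 * (m + 1) = 3 ^ k + 1 by omega, pow_succ, ← hk, pow_orderOf_eq_one, one_mul]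
    rw [hgm]
    exact (h2.pow_left (m + 1)).eq.symm

theorem L₀_le_centralizer : D.L₀ ≤ centralizer (D.Z : Set G) := by
  rw [D.hL₀, closure_le]
  rintro g ⟨hg, k, hk⟩
  exact D.three_mem_centralizer hg hk

theorem M₀_le_M : D.M₀ ≤ D.M := D.hM₀ ▸ (closure_le _).2 fun _ h => h.1

theorem pow_three_mem {g : G} (hg : g ∈ D.S) : ∃ k : ℕ, orderOf g = 3 ^ k := by
  haveI := fact_three
  obtain ⟨k, hk⟩ := IsPGroup.iff_orderOf.1 D.S.2 ⟨g, hg⟩
  exact ⟨k, by rw [← hk]; exact (orderOf_coe (⟨g, hg⟩ : (D.S : Subgroup G))).symm ▸ rfl⟩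

theorem S_le_L₀ : (D.S : Subgroup G) ≤ D.L₀ := fun g hg =>
  (D.pow_three_mem hg).elim fun _ hk => D.mem_L₀ (D.S_le_L hg) hk

theorem card_L₀ : Nat.card D.L₀ = 120 * 243 := by
  rw [card_of_hom D.ψ D.ψ_surj D.hQL D.ψ_ker, D.hQcard]
  haveI : Fact (Nat.Prime 5) := ⟨by norm_num⟩
  rw [Cfsg.Lib.Classical.SLTwoTori.card_SL2, ZMod.card]
  norm_num

theorem card_S : Nat.card (D.S : Subgroup G) = 729 := by
  haveI := fact_three
  have h1 : Nat.card (D.S : Subgroup G) ∣ 729 := by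
    have h := card_dvd_of_le D.S_le_L₀
    rw [D.card_L₀] at h
    obtain ⟨n, hn⟩ := D.S.2.exists_card_eq
    rw [hn] at h ⊢
    have hn6 : n ≤ 6 := by
      by_contra hc
      have := (pow_dvd_pow 3 (show 7 ≤ n by omega)).trans h
      norm_num at this
    exact pow_dvd_pow 3 hn6
  have h2 : 3 ^ 6 ∣ Nat.card G := by
    refine Dvd.dvd.trans ?_ (card_subgroup_dvd_card D.L₀)
    rw [D.card_L₀]
    norm_num
  exact Nat.dvd_antisymm h1 ((show (729 : ℕ) = 3 ^ 6 by norm_num) ▸ D.S.pow_dvd_card_of_pow_dvd_card h2)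

/-- Abelian subgroups of the extraspecial subgroup have order at most twenty-seven. -/
theorem abelian_le {A : Subgroup G} (hA : A ≤ D.Q) (hc : ∀ a ∈ A, ∀ b ∈ A, a * b = b * a) :
    Nat.card A ≤ 27 := by
  haveI := fact_three
  by_contra hlt
  obtain ⟨n, hn⟩ := (D.pgroup_Q.to_le hA).exists_card_eq
  have h4 : 4 ≤ n := by
    by_contra hc4
    have := Nat.pow_le_pow_right (show 0 < 3 by norm_num) (show n ≤ 3 by omega)
    omega
  have hne : ¬ D.Q ≤ centralizer (A : Set G) := by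
    intro h
    have hA' : A ≤ D.Z := by
      rw [D.Z_eq]
      intro a ha
      exact ⟨⟨a, hA ha⟩, mem_center_iff.2 fun q => Subtype.ext (mem_centralizer_iff.1 (h q.2) a ha).symm, rfl⟩
    have := card_le_of_le hA'
    rw [D.card_Z] at this
    omega
  obtain ⟨q, hq, hqc⟩ := SetLike.not_le_iff_exists.1 hne
  let f : A → D.Z := fun a => ⟨q * a * q⁻¹ * (a : G)⁻¹, D.commutator_Q hq (hA a.2)⟩
  have hfib : ∀ a b : A, f a = f b → (b : G)⁻¹ * a ∈ centralizer ({q} : Set G) := by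
    intro a b h
    have h' : q * a * q⁻¹ * (a : G)⁻¹ = q * b * q⁻¹ * (b : G)⁻¹ := congrArg Subtype.val h
    rw [mem_centralizer_singleton_iff]
    have e : q * ((b : G)⁻¹ * a) * q⁻¹ = (b : G)⁻¹ * a := by
      calc q * ((b : G)⁻¹ * a) * q⁻¹ = (q * b * q⁻¹ * (b : G)⁻¹ * b)⁻¹ * (q * a * q⁻¹ * (a : G)⁻¹ * a) := by group
        _ = (b : G)⁻¹ * a := by rw [h']; group
    calc (b : G)⁻¹ * a * q = q * ((b : G)⁻¹ * a) * q⁻¹ * q := by rw [e]
      _ = q * ((b : G)⁻¹ * a) := by group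
  have hcount : Nat.card A ≤ 3 * Nat.card ↥(A ⊓ centralizer ({q} : Set G)) := by
    classical
    have : ∀ z : D.Z, ∃ b : A, ∀ a, f a = z → (b : G)⁻¹ * a ∈ centralizer ({q} : Set G) := fun z => by
      by_cases h : ∃ b, f b = z
      · obtain ⟨b, hb⟩ := h
        exact ⟨b, fun a ha => hfib a b (ha.trans hb.symm)⟩
      · exact ⟨1, fun a ha => absurd ⟨a, ha⟩ h⟩
    choose rep hrep using this
    let F : A → D.Z × ↥(A ⊓ centralizer ({q} : Set G)) := fun a =>
      (f a, (⟨(rep (f a) : G)⁻¹ * a, mem_inf.2 ⟨mul_mem (inv_mem (rep (f a)).2) a.2, hrep _ a rfl⟩⟩ : ↥(A ⊓ centralizer ({q} : Set G))))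
    have hinj : Function.Injective F := fun a b h => by
      have h1 := congrArg Prod.fst h
      have h2 := congrArg Subtype.val (congrArg Prod.snd h)
      simp only [F] at h1 h2
      rw [h1] at h2
      exact Subtype.ext (mul_left_cancel h2)
    have := Nat.card_le_card_of_injective F hinj
    rwa [Nat.card_prod, D.card_Z] at this
  -- the part commuting with the element is central
  have hB : A ⊓ centralizer ({q} : Set G) ≤ D.Z := by
    have hgen : D.Q ≤ A ⊔ zpowers q := by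
      have hlt2 : A < A ⊔ zpowers q := by
        refine lt_of_le_of_ne le_sup_left fun e => hqc ?_
        have hqA : q ∈ A := e ▸ mem_sup_right (mem_zpowers q)
        exact mem_centralizer_iff.2 fun a ha => hc a ha q hqA
      have hle : A ⊔ zpowers q ≤ D.Q := sup_le hA (zpowers_le.2 hq)
      have hlt' : Nat.card A < Nat.card ↥(A ⊔ zpowers q) := Set.ncard_lt_ncard hlt2 (Set.toFinite _)
      obtain ⟨m, hm⟩ := (D.pgroup_Q.to_le hle).exists_card_eq
      rw [hn, hm] at hlt'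
      have h5 : 5 ≤ m := by
        have := (Nat.pow_lt_pow_iff_right (show 1 < 3 by norm_num)).1 hlt'
        omega
      exact (eq_of_le_of_card_ge hle (by
        rw [D.hQcard, hm]
        exact le_trans (by norm_num) (Nat.pow_le_pow_right (show 0 < 3 by norm_num) h5))).ge
    rintro a ⟨ha, haq⟩
    rw [D.Z_eq]
    refine ⟨⟨a, hA ha⟩, mem_center_iff.2 fun x => Subtype.ext ?_, rfl⟩
    have hle : A ⊔ zpowers q ≤ centralizer ({a} : Set G) := sup_le
      (fun b hb => mem_centralizer_singleton_iff.2 (hc b hb a ha))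
      (zpowers_le.2 (mem_centralizer_singleton_iff.2 (mem_centralizer_singleton_iff.1 haq).symm))
    exact mem_centralizer_singleton_iff.1 (hle (hgen x.2))
  have := card_le_of_le hB
  rw [D.card_Z] at this
  omega

theorem J_comm {a b : G} (ha : a ∈ D.J) (hb : b ∈ D.J) : a * b = b * a :=
  congrArg Subtype.val (D.hJcomm.is_comm.comm (⟨a, ha⟩ : D.J) ⟨b, hb⟩)

theorem W_comm {a b : G} (ha : a ∈ D.W) (hb : b ∈ D.W) : a * b = b * a := D.J_comm ha.1 hb.1

theorem sup_eq : D.J ⊔ D.Q = D.S ∧ Nat.card D.W = 27 := by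
  have hJn : D.J ≤ normalizer (D.Q : Set G) := D.hJS.trans (D.S_le_L.trans D.L_le_norm_Q)
  have h := Cfsg.Lib.Coprime.card_sup_mul_card_inf hJn
  rw [D.hJcard, D.hQcard, sup_comm, inf_comm] at h
  change Nat.card ↥(D.J ⊔ D.Q) * Nat.card D.W = _ at h
  have hle : D.J ⊔ D.Q ≤ D.S := sup_le D.hJS D.Q_le_S
  have h1 : Nat.card ↥(D.J ⊔ D.Q) ≤ 729 := D.card_S ▸ card_le_of_le hle
  have h2 : Nat.card D.W ≤ 27 := D.abelian_le inf_le_right fun a ha b hb => D.W_comm ha hb
  have h3 : Nat.card D.W = 27 := by nlinarith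
  refine ⟨eq_of_le_of_card_ge hle ?_, h3⟩
  rw [h3] at h
  rw [D.card_S]
  omega

theorem Z_le_W : D.Z ≤ D.W := by
  have hle : D.W ⊔ D.Z ≤ D.Q := sup_le inf_le_right D.Z_le_Q
  have hc : ∀ a ∈ D.W ⊔ D.Z, ∀ b ∈ D.W ⊔ D.Z, a * b = b * a := by
    have key : D.W ⊔ D.Z ≤ centralizer ((D.W ⊔ D.Z : Subgroup G) : Set G) := by
      rw [le_centralizer_iff, sup_le_iff]
      constructor <;> rw [le_centralizer_iff, sup_le_iff]
      · exact ⟨fun a ha => mem_centralizer_iff.2 fun b hb => D.W_comm hb ha,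
          fun a ha => mem_centralizer_iff.2 fun b hb =>
            (mem_centralizer_iff.1 (D.S_le_cent (D.hJS hb.1)) a ha).symm⟩
      · exact ⟨fun a ha => mem_centralizer_iff.2 fun b hb => mem_centralizer_iff.1 (D.S_le_cent (D.hJS ha.1)) b hb,
          fun a ha => mem_centralizer_iff.2 fun b hb => mem_centralizer_iff.1 (D.S_le_cent (D.Z_le_S ha)) b hb⟩
    exact fun a ha b hb => (mem_centralizer_iff.1 (key ha) b hb).symm
  have h := D.abelian_le hle hc
  rw [eq_of_le_of_card_ge (le_sup_left : D.W ≤ D.W ⊔ D.Z) (D.sup_eq.2 ▸ h)]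
  exact le_sup_right

theorem Z_le_J : D.Z ≤ D.J := D.Z_le_W.trans inf_le_left

theorem cent_W : (D.S : Subgroup G) ⊓ centralizer (D.W : Set G) = D.J := by
  have hJ : D.J ≤ (D.S : Subgroup G) ⊓ centralizer (D.W : Set G) :=
    le_inf D.hJS fun a ha => mem_centralizer_iff.2 fun b hb => D.J_comm hb.1 ha
  refine (eq_of_le_of_card_ge hJ ?_).symm
  have hQW : D.Q ⊓ centralizer (D.W : Set G) ≤ D.W := by
    rintro c ⟨hcQ, hcW⟩
    have hle : D.W ⊔ zpowers c ≤ D.Q := sup_le inf_le_right (zpowers_le.2 hcQ)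
    have hc : ∀ a ∈ D.W ⊔ zpowers c, ∀ b ∈ D.W ⊔ zpowers c, a * b = b * a := by
      have key : D.W ⊔ zpowers c ≤ centralizer ((D.W ⊔ zpowers c : Subgroup G) : Set G) := by
        rw [le_centralizer_iff, sup_le_iff]
        constructor <;> rw [le_centralizer_iff, sup_le_iff]
        · exact ⟨fun a ha => mem_centralizer_iff.2 fun b hb => D.W_comm hb ha, zpowers_le.2 hcW⟩
        · refine ⟨fun a ha => mem_centralizer_iff.2 fun b hb => ?_, zpowers_le.2 (mem_centralizer_iff.2 fun b hb => ?_)⟩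
          · obtain ⟨k, rfl⟩ := mem_zpowers_iff.1 hb
            exact (Commute.zpow_left (mem_centralizer_iff.1 hcW a ha).symm k).eq
          · obtain ⟨k, rfl⟩ := mem_zpowers_iff.1 hb
            exact (Commute.zpow_left (Commute.refl c) k).eq
      exact fun a ha b hb => (mem_centralizer_iff.1 (key ha) b hb).symm
    have h := D.abelian_le hle hc
    rw [eq_of_le_of_card_ge (le_sup_left : D.W ≤ D.W ⊔ zpowers c) (D.sup_eq.2 ▸ h)]
    exact mem_sup_right (mem_zpowers c)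
  have hN : (D.S : Subgroup G) ⊓ centralizer (D.W : Set G) ≤ normalizer (D.Q : Set G) :=
    inf_le_left.trans (D.S_le_L.trans D.L_le_norm_Q)
  have h := Cfsg.Lib.Coprime.card_sup_mul_card_inf hN
  have h1 : Nat.card ↥(D.Q ⊔ ((D.S : Subgroup G) ⊓ centralizer (D.W : Set G))) ≤ 729 :=
    D.card_S ▸ card_le_of_le (sup_le D.Q_le_S inf_le_left)
  have h2 : Nat.card ↥(D.Q ⊓ ((D.S : Subgroup G) ⊓ centralizer (D.W : Set G))) ≤ 27 :=
    D.sup_eq.2 ▸ card_le_of_le ((le_inf inf_le_left (inf_le_right.trans inf_le_right)).trans hQW)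
  rw [D.hQcard] at h
  rw [D.hJcard]
  nlinarith

theorem S_le_norm_W : (D.S : Subgroup G) ≤ normalizer (D.W : Set G) := by
  rw [← D.sup_eq.1]
  refine sup_le (fun a ha => mem_normalizer_of_map_mem fun b hb => ?_)
    (fun a ha => mem_normalizer_of_map_mem fun b hb => ?_)
  · rwa [D.J_comm ha hb.1, mul_inv_cancel_right]
  · rw [show a * b * a⁻¹ = a * b * a⁻¹ * b⁻¹ * b by group]
    exact mul_mem (D.Z_le_W (D.commutator_Q ha hb.2)) hb

theorem S_le_M : (D.S : Subgroup G) ≤ D.M := by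
  intro s hs
  refine mem_normalizer_of_map_mem fun a ha => ?_
  rw [← D.cent_W] at ha ⊢
  refine mem_inf.2 ⟨mul_mem (mul_mem hs ha.1) (inv_mem hs), mem_centralizer_iff.2 fun w hw => ?_⟩
  have hw' : s⁻¹ * w * s ∈ D.W := by
    have := (mem_normalizer_iff.1 (D.S_le_norm_W (inv_mem hs)) w).1 hw
    rwa [inv_inv] at this
  have e := mem_centralizer_iff.1 ha.2 _ hw'
  calc w * (s * a * s⁻¹) = s * ((s⁻¹ * w * s) * a) * s⁻¹ := by group
    _ = s * (a * (s⁻¹ * w * s)) * s⁻¹ := by rw [e]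
    _ = s * a * s⁻¹ * w := by group

theorem cent_J : centralizer (D.J : Set G) = D.J := by
  haveI := fact_three
  refine le_antisymm ?_ fun a ha => mem_centralizer_iff.2 fun b hb => D.J_comm hb ha
  have hL : centralizer (D.J : Set G) ≤ D.L :=
    (centralizer_le D.Z_le_J).trans (centralizer_le_normalizer _)
  have hp : IsPGroup 3 (centralizer (D.J : Set G)) := by
    rw [IsPGroup.iff_orderOf]
    intro c
    by_contra hcon
    push Not at hcon
    obtain ⟨k, m, hm3, hkm⟩ := Nat.exists_eq_pow_mul_and_not_dvd (orderOf_pos (c : G)).ne' 3 (by norm_num)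
    have hx : (orderOf ((c : G) ^ 3 ^ k)).Coprime 3 := by
      rw [orderOf_pow' _ (by positivity), hkm, Nat.gcd_eq_right (dvd_mul_right _ _),
        Nat.mul_div_cancel_left _ (by positivity)]
      exact ((Nat.Prime.coprime_iff_not_dvd Nat.prime_three).2 hm3).symm
    have hxJ : (c : G) ^ 3 ^ k ∈ centralizer (D.J : Set G) := pow_mem c.2 _
    have hxQ : D.Q ≤ centralizer ({(c : G) ^ 3 ^ k} : Set G) := by
      refine Cfsg.Lib.Components.pxq_element hx (D.pgroup_Q.to_le (inf_le_right : D.W ≤ D.Q))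
        (centralizer_le inf_le_left hxJ) D.Q D.pgroup_Q ((inf_le_right : D.W ≤ D.Q).trans le_normalizer)
        (D.L_le_norm_Q (hL hxJ)) ?_
      rintro q ⟨hqQ, hqW⟩
      have hq : q ∈ D.J := D.cent_W.le ⟨D.Q_le_S hqQ, hqW⟩
      exact mem_centralizer_singleton_iff.2 (mem_centralizer_iff.1 hxJ q hq)
    have hxmem : (c : G) ^ 3 ^ k ∈ D.Q :=
      D.hCQ (mem_centralizer_iff.2 fun q hq => mem_centralizer_singleton_iff.1 (hxQ hq))
    have hd : orderOf ((c : G) ^ 3 ^ k) ∣ 3 := orderOf_dvd_of_pow_eq_one (D.hQexp _ hxmem)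
    have h1 : orderOf ((c : G) ^ 3 ^ k) = 1 := Nat.Coprime.eq_one_of_dvd hx hd
    rw [orderOf_eq_one_iff] at h1
    obtain ⟨j, -, hj⟩ := (Nat.dvd_prime_pow Nat.prime_three).1 (orderOf_dvd_of_pow_eq_one h1)
    exact hcon j (by rw [← orderOf_coe]; exact hj)
  have hS : centralizer (D.J : Set G) ≤ D.S :=
    le_sylow_of_normalized D.S hp (fun s hs => mem_normalizer_of_map_mem fun a ha =>
      mem_centralizer_iff.2 fun b hb => by
        have hb' : s⁻¹ * b * s ∈ D.J := by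
          have := (mem_normalizer_iff.1 (D.S_le_M (inv_mem hs)) b).1 hb
          rwa [inv_inv] at this
        have e := mem_centralizer_iff.1 ha _ hb'
        calc b * (s * a * s⁻¹) = s * ((s⁻¹ * b * s) * a) * s⁻¹ := by group
          _ = s * (a * (s⁻¹ * b * s)) * s⁻¹ := by rw [e]
          _ = s * a * s⁻¹ * b := by group)
  intro c hc
  rw [← D.cent_W]
  exact ⟨hS hc, centralizer_le inf_le_left hc⟩

end Data

end Cfsg.Lib.McLLocal
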