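import Cfsg.Agent.LocalThree.McLLocal.TopData

/-!
The actions realised in the normaliser of the fixed part.
-/

set_option autoImplicit false
set_option maxRecDepth 100000
set_option synthInstance.maxSize 4096

namespace Cfsg.Lib.McLLocal

/-- The actions in the normal subgroup. -/
def codes0 : List (Fin 64) := [0, 10, 16, 26, 35, 41, 51, 57]

/-- The actions without the extra element. -/
def codesA (k : Fin 64) : List (Fin 64) := codes0 ++ codes0.map (mulH k)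

/-- All actions. -/
def codesB : List (Fin 64) :=
  [0, 2, 5, 7, 8, 10, 13, 15, 16, 18, 21, 23, 24, 26, 29, 31, 33, 35, 36, 38, 41, 43, 44, 46, 49, 51, 52, 54, 57, 59, 60, 62]

theorem code_inj : ∀ k k' : Fin 64, (∀ v ∈ basis4, actH k v = actH k' v) → k = k' := by decide +kernel

theorem code_cols : ∀ k : Fin 64, kFour k → colZ k = 1 ∧ colW k = 54 ∧ k ∉ ([0, 16] : List (Fin 64)) ∧
    mulH 16 k ∈ codesA k := by decide +kernel

theorem fixed_code : ∀ k : Fin 64, colZ k = 1 → colW k = 27 → k.val % 8 = 0 ∧ mulH (mulH k k) (mulH k k) = 0 := by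
  decide +kernel

theorem pair_code : ∀ k : Fin 64, ∀ v ∈ ([1, 2, 27, 54] : List (Fin 81)), actH k v ∈ ([1, 2, 27, 54] : List (Fin 81)) := by
  decide +kernel

theorem split_vector : ∀ v : Fin 81, v = ad (mk4 (dg v 0) (dg v 1) (dg v 2) 0) (sc (dg v 3) 27) ∧
    dg (mk4 (dg v 0) (dg v 1) (dg v 2) 0) 3 = 0 ∧ dg (sc (dg v 3) 27) 1 = 0 ∧ dg (sc (dg v 3) 27) 2 = 0 := by
  decide +kernel

theorem moved_last : ∀ p : Fin 9, ∀ v : Fin 81, dg v 1 = 0 → dg v 2 = 0 → dg v 3 ≠ 0 → actU p v = v → p = 0 := by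
  decide +kernel

theorem anti_last : ∀ a : Fin 3, Sing (ad (ng (ad (sc a.val 1) 27)) (ng (sc a.val 1))) → a = 0 := by decide +kernel

end Cfsg.Lib.McLLocal

namespace Cfsg.Lib.McLLocal

theorem pair_images : ∀ a ∈ ([1, 2, 27, 54] : List (Fin 81)), ∀ b ∈ ([1, 2, 27, 54] : List (Fin 81)), b ≠ a → b ≠ ng a →
    ((a = 1 ∨ a = 2) ∧ (b = 27 ∨ b = 54)) ∨ ((a = 27 ∨ a = 54) ∧ (b = 1 ∨ b = 2)) := by decide +kernel

theorem adjust_code : ∀ k : Fin 64, kFour k → ∀ c : Fin 64, ∃ h ∈ codesA k, colZ (mulH h c) = 1 ∧ colW (mulH h c) = 27 ∧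
    (mulH h c ∈ ([0, 8, 16, 24] : List (Fin 64)) → c ∈ codesB) ∧
    (mulH h c ∈ ([0, 16] : List (Fin 64)) → c ∈ codesA k) := by decide +kernel

theorem codes_closed : ∀ k : Fin 64, kFour k → (∀ m ∈ codesA k, ∀ n ∈ codesA k, mulH m n ∈ codesA k) ∧
    (∀ c ∈ codesB, ∃ h ∈ codesA k, c = h ∨ c = mulH h 8) ∧ (∀ c ∈ codesA k, c ∈ codesB) := by decide +kernel

theorem codes_order : ∀ c ∈ codesB, mulH (mulH (mulH c c) (mulH c c)) (mulH (mulH c c) (mulH c c)) = 0 := by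
  decide +kernel

theorem four_facts : mulH 8 8 = 16 ∧ mulH 8 16 = 24 ∧ (∀ c, mulH c 0 = c ∧ mulH 0 c = c) ∧
    (∀ v ∈ ([1, 2, 27, 54] : List (Fin 81)), dg v 1 = 0 ∧ dg v 2 = 0 ∧ Sing v) := by decide +kernel

end Cfsg.Lib.McLLocal
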