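import Cfsg.Agent.McLRecog.Final

/-!
Facts on the double cover of the alternating group of degree eight, transported from the model.
-/

set_option autoImplicit false
set_option maxRecDepth 20000
set_option linter.style.haveILetI false

namespace Cfsg.Lib.McLLocal

open Subgroup Cfsg.Lib.McLRecog
open Cfsg Cfsg.Lib.CosetCert Cfsg.Lib.CosetCert.OutCert
open Cfsg.Lib.McLModel (data valid_data grp_eq)
open Cfsg.Lib.McLModel.Inv

variable {X : Type*} [Group X] [Finite X]

theorem cover_facts (h : Cfsg.IsNonsplitDoubleCover X (alternatingGroup (Fin 8))) {z : X} (hz : z ≠ 1)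
    (hc : ∀ x, Commute x z) :
    Nat.card X = 40320 ∧
    (∀ x y : X, x * x = 1 → x ≠ 1 → x ≠ z → y * y = 1 → y ≠ 1 → y ≠ z → ∃ g, g * x * g⁻¹ = y) ∧
    ∃ P : Subgroup X, Nat.card P = 128 ∧ ∀ p ∈ P, (∀ q ∈ P, p * q = q * p) → p = 1 ∨ p = z := by
  haveI : Fact (Nat.Prime 2) := ⟨Nat.prime_two⟩
  obtain ⟨e, he⟩ := Cover.exists_iso (Γ := centP) (Δ := X) double_cover h
  have htC : tC ≠ 1 := fun h => tPerm_ne (congrArg Subtype.val h)
  have hcen : ∀ g : centP, Commute g tC := fun g => Subtype.ext (mem_centP.1 g.2).2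
  have het : e tC = z := he tC htC hcen z hz hc
  have hcard : Nat.card centP = 40320 := centP_eq.2
  have hSp : IsPGroup 2 SM := IsPGroup.of_card (n := 7) (by rw [SM_card]; norm_num)
  have hmax : ∀ Y : Subgroup Pm, IsPGroup 2 Y → SM ≤ Y → Y ≤ centP → Y = SM := by
    intro Y hY hle hYc
    obtain ⟨k, hk⟩ := IsPGroup.iff_card.1 hY
    have hd := card_dvd_of_le hYc
    rw [hcard, hk] at hd
    have hk7 : k ≤ 7 := by
      by_contra hh
      exact absurd ((pow_dvd_pow 2 (by omega : 8 ≤ k)).trans hd) (by norm_num)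
    refine (eq_of_le_of_card_ge hle ?_).symm
    rw [hk, SM_card]
    exact (Nat.pow_le_pow_right (by norm_num) hk7).trans (by norm_num)
  have std : ∀ x : X, x * x = 1 → x ≠ 1 → x ≠ z → ∃ g : X, ((e.symm (g * x * g⁻¹) : centP) : Pm) = eE 2 := by
    intro x hx2 hx1 hxz
    obtain ⟨a, ha⟩ : ∃ a, a = e.symm x := ⟨_, rfl⟩
    have ha2 : (a : Pm) * a = 1 := by
      have : a * a = 1 := by rw [ha, ← map_mul, hx2, map_one]
      exact congrArg Subtype.val this
    have ha1 : (a : Pm) ≠ 1 := fun h' => hx1 (e.symm.map_eq_one_iff.1 (ha ▸ (Subtype.ext h' : a = 1)))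
    have hp : IsPGroup 2 (zpowers (a : Pm)) := IsPGroup.of_card (n := 1) (by
      rw [Nat.card_zpowers, pow_one]
      exact orderOf_eq_prime (by rw [pow_two, ha2]) ha1)
    obtain ⟨c, hc', hq⟩ := conj_into SM_le hSp hmax (zpowers_le.2 a.2) hp
    have hb := hq _ (mem_zpowers _)
    obtain ⟨d, hd, hde⟩ := invol_SM hb (by
      calc c * (a : Pm) * c⁻¹ * (c * (a : Pm) * c⁻¹) = c * ((a : Pm) * a) * c⁻¹ := by group
        _ = 1 := by rw [ha2, mul_one, mul_inv_cancel]) (fun h' => ha1 (conj_eq_one_iff.1 h')) (fun h' => hxz (by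
          have hat : (a : Pm) = tPerm := by
            have h1 : c * tPerm = tPerm * c := (mem_centP.1 hc').2
            rw [mul_inv_eq_iff_eq_mul, ← h1] at h'
            exact mul_left_cancel h'
          rw [← het, show tC = a from Subtype.ext hat.symm, ha, e.apply_symm_apply]))
    refine ⟨e (⟨d, hd⟩ * ⟨c, hc'⟩), ?_⟩
    rw [map_mul, map_mul, map_inv, e.symm_apply_apply, ← ha, ← hde]
    show d * c * (a : Pm) * (d * c)⁻¹ = _
    group
  refine ⟨by rw [← Nat.card_congr e.toEquiv, hcard], fun x y hx hx1 hxz hy hy1 hyz => ?_, ?_⟩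
  · obtain ⟨g, hg⟩ := std x hx hx1 hxz
    obtain ⟨g', hg'⟩ := std y hy hy1 hyz
    refine ⟨g'⁻¹ * g, ?_⟩
    have he' : g * x * g⁻¹ = g' * y * g'⁻¹ := e.symm.injective (Subtype.ext (hg.trans hg'.symm))
    calc g'⁻¹ * g * x * (g'⁻¹ * g)⁻¹ = g'⁻¹ * (g * x * g⁻¹) * g' := by group
      _ = y := by rw [he']; group
  · refine ⟨(SM.subgroupOf centP).map e.toMonoidHom, ?_, ?_⟩
    · rw [Nat.card_congr (Subgroup.equivMapOfInjective _ _ e.injective).symm.toEquiv,
        Nat.card_congr (subgroupOfEquivOfLe SM_le).toEquiv, SM_card]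
    · rintro _ ⟨a, ha, rfl⟩ h'
      have hq : ∀ q ∈ SM, (a : Pm) * q = q * a := fun q hq =>
        congrArg Subtype.val (e.injective (show e (a * ⟨q, SM_le hq⟩) = e (⟨q, SM_le hq⟩ * a) by
          rw [map_mul, map_mul]; exact h' _ ⟨⟨q, SM_le hq⟩, mem_subgroupOf.2 hq, rfl⟩))
      rcases SM_center (mem_subgroupOf.1 ha) hq with r | r
      · left
        rw [show a = 1 from Subtype.ext r, map_one]
      · right
        rw [show a = tC from Subtype.ext r]
        exact het

end Cfsg.Lib.McLLocal
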