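import Mathlib.GroupTheory.SpecificGroups.Alternating
import Mathlib.Tactic.Group

/-!
An element of order three which permutes three involutions of a four-group acts with square zero on no faithful module of
characteristic three.
-/

set_option autoImplicit false
set_option maxRecDepth 100000
set_option synthInstance.maxSize 4096

namespace Cfsg.Lib.McLLocal

open Equiv

universe u

variable {A : Type u} [CommGroup A]

/-- A four-group normalised by an element acting with vanishing norm acts trivially. -/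
theorem quad_four (h3 : ∀ a : A, a ^ 3 = 1) (g v w : A →* A) (hg : ∀ a, g (g (g a)) = a)
    (hvv : ∀ a, v (v a) = a) (hww : ∀ a, w (w a) = a) (hvw : ∀ a, v (w a) = w (v a))
    (hgv : ∀ a, g (v a) = w (g a)) (hgw : ∀ a, g (w a) = v (w (g a)))
    (hquad : ∀ a, g (g a) * g a * a = 1) : ∀ a, v a = a := by
  have htwo : ∀ a : A, a * a = 1 → a = 1 := fun a h => by
    have := h3 a
    rw [pow_succ, pow_two, h, one_mul] at this
    exact this
  have case1 : ∀ c, v c = c⁻¹ → w c = c → c = 1 := by
    intro c hv hw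
    have w1 : w (g c) = (g c)⁻¹ := by rw [← hgv, hv, map_inv]
    have vw1 : v (w (g c)) = g c := by rw [← hgw, hw]
    have v1 : v (g c) = (g c)⁻¹ := by
      rw [w1, map_inv] at vw1
      exact inv_eq_iff_eq_inv.1 vw1
    have w2 : w (g (g c)) = (g (g c))⁻¹ := by rw [← hgv, v1, map_inv]
    have vw2 : v (w (g (g c))) = (g (g c))⁻¹ := by rw [← hgw, w1, map_inv]
    have v2 : v (g (g c)) = g (g c) := by
      rw [w2, map_inv] at vw2
      exact inv_injective vw2
    have e := congrArg v (hquad c)
    rw [map_mul, map_mul, map_one, v2, v1, hv] at e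
    have e2 : g (g c) * g (g c) = 1 := by
      calc g (g c) * g (g c) = (g (g c) * (g c)⁻¹ * c⁻¹) * (g (g c) * g c * c) := by
            rw [mul_mul_mul_comm (g (g c) * (g c)⁻¹), mul_mul_mul_comm (g (g c)), inv_mul_cancel, mul_one,
              inv_mul_cancel, mul_one]
        _ = 1 := by rw [e, hquad, one_mul]
    have e3 := congrArg g (htwo _ e2)
    rw [hg, map_one] at e3
    exact e3
  have case2 : ∀ c, v c = c⁻¹ → w c = c⁻¹ → c = 1 := by
    intro c hv hw
    have w1 : w (g c) = (g c)⁻¹ := by rw [← hgv, hv, map_inv]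
    have vw1 : v (w (g c)) = (g c)⁻¹ := by rw [← hgw, hw, map_inv]
    have v1 : v (g c) = g c := by
      rw [w1, map_inv] at vw1
      exact inv_injective vw1
    have h := case1 _ (show v (g (g c)) = (g (g c))⁻¹ by
      have w2 : w (g (g c)) = g (g c) := by rw [← hgv, v1]
      have vw2 : v (w (g (g c))) = (g (g c))⁻¹ := by rw [← hgw, w1, map_inv]
      rwa [w2] at vw2) (show w (g (g c)) = g (g c) by rw [← hgv, v1])
    have e3 := congrArg g h
    rw [hg, map_one] at e3
    exact e3
  intro a
  obtain ⟨b, hb⟩ : ∃ b, b = v a * a⁻¹ := ⟨_, rfl⟩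
  have hvb : v b = b⁻¹ := by rw [hb, map_mul, map_inv, hvv, mul_inv_rev, inv_inv]
  have k1 : v (b * w b) = (b * w b)⁻¹ := by rw [map_mul, hvb, hvw, hvb, map_inv, mul_inv]
  have k2 : w (b * w b) = b * w b := by rw [map_mul, hww, mul_comm]
  have l1 : v (b * (w b)⁻¹) = (b * (w b)⁻¹)⁻¹ := by rw [map_mul, map_inv, hvb, hvw, hvb, map_inv, mul_inv]
  have l2 : w (b * (w b)⁻¹) = (b * (w b)⁻¹)⁻¹ := by rw [map_mul, map_inv, hww, mul_inv, inv_inv, mul_comm]
  have e : b * b = 1 := by
    calc b * b = (b * w b) * (b * (w b)⁻¹) := by rw [mul_mul_mul_comm, mul_inv_cancel, mul_one]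
      _ = 1 := by rw [case1 _ k1 k2, case2 _ l1 l2, one_mul]
  exact mul_inv_eq_one.1 (hb ▸ htwo b e)

/-- Conjugation in the symmetric group. -/
def cj (g v : Perm (Fin 6)) : Perm (Fin 6) := g * v * g⁻¹

/-- Every element of order three of the alternating group normalises a four-group. -/
theorem six_four : ∀ g : Perm (Fin 6), Perm.sign g = 1 → g * (g * g) = 1 → g ≠ 1 →
    ∃ v : Perm (Fin 6), Perm.sign v = 1 ∧ v * v = 1 ∧ v ≠ 1 ∧ v * cj g v = cj g v * v ∧
      cj g (cj g v) = v * cj g v := by decide +kernel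

end Cfsg.Lib.McLLocal
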