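import Cfsg.Agent.LocalThree.McLLocal.Basic
import Cfsg.Agent.LocalThree.McLLocal.Quad

/-!
No element of the extraspecial subgroup outside the abelian one acts quadratically, and some conjugate of the centre
lies outside the hyperplane.
-/

set_option autoImplicit false
set_option linter.unusedSectionVars false
set_option maxRecDepth 100000
set_option synthInstance.maxSize 4096

namespace Cfsg.Lib.McLLocal

open Subgroup Equiv

universe u

variable {G : Type u} [Group G] [Finite G]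

theorem six_orders : ∀ g : Perm (Fin 6), Perm.sign g = 1 → g ^ 3 = 1 ∨ g ^ 4 = 1 ∨ g ^ 5 = 1 := by decide +kernel


/-- Conjugation inside an abelian subgroup. -/
def conjEnd (A : Subgroup G) (g : G) (hg : g ∈ normalizer (A : Set G)) : A →* A :=
  MonoidHom.mk' (fun a => ⟨g * a * g⁻¹, (mem_normalizer_iff.1 hg a).1 a.2⟩)
    fun a b => Subtype.ext (by show g * (a * b) * g⁻¹ = g * a * g⁻¹ * (g * b * g⁻¹); group)

namespace Data

variable (D : Data G)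

/-- The commutator map. -/
def cm (g a : G) : G := g * a * g⁻¹ * a⁻¹

theorem mem_ker {a : D.M₀} : D.φ a = 1 ↔ (a : G) ∈ D.J := by
  rw [← MonoidHom.mem_ker, D.φ_ker]
  exact mem_subgroupOf

theorem J_le_M₀_norm : D.M₀ ≤ normalizer (D.J : Set G) := D.M₀_le_M

theorem six_simple : IsSimpleGroup (alternatingGroup (Fin 6)) :=
  alternatingGroup.isSimpleGroup (by rw [Nat.card_eq_fintype_card, Fintype.card_fin]; norm_num)

theorem same_action {A : Subgroup G} (hA : A ≤ D.J) {k l : G} (hk : k ∈ D.M₀) (hl : l ∈ D.M₀)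
    (e : D.φ ⟨k, hk⟩ = D.φ ⟨l, hl⟩) {a : G} (ha : a ∈ A) : k * a * k⁻¹ = l * a * l⁻¹ := by
  have hJ' : l⁻¹ * k ∈ D.J :=
    D.mem_ker.1 (show D.φ ((⟨l, hl⟩ : D.M₀)⁻¹ * ⟨k, hk⟩) = 1 by rw [map_mul, map_inv, e, inv_mul_cancel])
  have e2 : (l⁻¹ * k) * a = a * (l⁻¹ * k) :=
    congrArg Subtype.val (D.hJcomm.is_comm.comm (⟨_, hJ'⟩ : D.J) ⟨a, hA ha⟩)
  calc k * a * k⁻¹ = l * ((l⁻¹ * k) * a) * (l⁻¹ * k)⁻¹ * l⁻¹ := by group
    _ = l * (a * (l⁻¹ * k)) * (l⁻¹ * k)⁻¹ * l⁻¹ := by rw [e2]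
    _ = l * a * l⁻¹ := by group

/-- A subgroup of the module with a quadratic element is centralised. -/
theorem quad_trivial {A : Subgroup G} (hA : A ≤ D.J) (hn : D.M₀ ≤ normalizer (A : Set G)) {g : G} (hg : g ∈ D.M₀)
    (hgJ : g ∉ D.J) (hg3 : g ^ 3 ∈ D.J) (hq : ∀ a ∈ A, cm g (cm g a) = 1) : D.M₀ ≤ centralizer (A : Set G) := by
  obtain ⟨g0, hg0⟩ : ∃ g0, g0 = D.φ ⟨g, hg⟩ := ⟨_, rfl⟩
  have hg1 : (g0 : Perm (Fin 6)) ≠ 1 := fun h => hgJ (D.mem_ker.1 (hg0.symm.trans (Subtype.ext h)))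
  have h31 : g0 * (g0 * g0) = 1 := by
    rw [hg0, ← map_mul, ← map_mul, D.mem_ker]
    show g * (g * g) ∈ D.J
    rwa [← pow_two, ← pow_succ']
  obtain ⟨v, hv, hvv, hv1, hvc, hgc⟩ := six_four (g0 : Perm (Fin 6)) g0.2 (congrArg Subtype.val h31) hg1
  obtain ⟨⟨x, hx⟩, hxv⟩ := D.φ_surj ⟨v, hv⟩
  let K : Subgroup D.M₀ := (centralizer (A : Set G)).subgroupOf D.M₀
  have hJK : ∀ a ∈ D.J, a ∈ centralizer (A : Set G) := fun a ha => mem_centralizer_iff.2 fun b hb => D.J_comm (hA hb) ha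
  haveI hKn : K.Normal := ⟨fun k hk m => by
    rw [mem_subgroupOf] at hk ⊢
    refine mem_centralizer_iff.2 fun b hb => ?_
    have hb' : (m : G)⁻¹ * b * m ∈ A := by
      have := (mem_normalizer_iff.1 (hn (inv_mem m.2)) b).1 hb
      rwa [inv_inv] at this
    have e := mem_centralizer_iff.1 hk _ hb'
    show b * ((m : G) * k * (m : G)⁻¹) = (m : G) * k * (m : G)⁻¹ * b
    calc b * ((m : G) * k * (m : G)⁻¹) = (m : G) * (((m : G)⁻¹ * b * m) * k) * (m : G)⁻¹ := by group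
      _ = (m : G) * (k * ((m : G)⁻¹ * b * m)) * (m : G)⁻¹ := by rw [e]
      _ = (m : G) * k * (m : G)⁻¹ * b := by group⟩
  have hw : g * x * g⁻¹ ∈ D.M₀ := mul_mem (mul_mem hg hx) (inv_mem hg)
  have hφw : (D.φ ⟨g * x * g⁻¹, hw⟩ : Perm (Fin 6)) = cj (g0 : Perm (Fin 6)) v := by
    have : (⟨g * x * g⁻¹, hw⟩ : D.M₀) = ⟨g, hg⟩ * ⟨x, hx⟩ * (⟨g, hg⟩ : D.M₀)⁻¹ := rfl
    rw [this, map_mul, map_mul, map_inv, ← hg0, hxv]
    rfl
  have s1 : D.φ ⟨x * x, mul_mem hx hx⟩ = D.φ ⟨1, one_mem _⟩ := by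
    refine Subtype.ext ?_
    rw [show (⟨x * x, mul_mem hx hx⟩ : D.M₀) = ⟨x, hx⟩ * ⟨x, hx⟩ from rfl, map_mul, hxv,
      show (⟨1, one_mem D.M₀⟩ : D.M₀) = 1 from rfl, map_one]
    exact hvv
  have s2 : D.φ ⟨g * x * g⁻¹ * (g * x * g⁻¹), mul_mem hw hw⟩ = D.φ ⟨1, one_mem _⟩ := by
    refine Subtype.ext ?_
    rw [show (⟨g * x * g⁻¹ * (g * x * g⁻¹), mul_mem hw hw⟩ : D.M₀) = ⟨_, hw⟩ * ⟨_, hw⟩ from rfl, map_mul,
      show (⟨1, one_mem D.M₀⟩ : D.M₀) = 1 from rfl, map_one]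
    refine (congrArg₂ (· * ·) hφw hφw).trans ?_
    simp only [cj]
    calc _ = (g0 : Perm (Fin 6)) * (v * v) * (g0 : Perm (Fin 6))⁻¹ := by group
      _ = 1 := by rw [hvv, mul_one, mul_inv_cancel]
  have s3 : D.φ ⟨x * (g * x * g⁻¹), mul_mem hx hw⟩ = D.φ ⟨g * x * g⁻¹ * x, mul_mem hw hx⟩ := by
    refine Subtype.ext ?_
    rw [show (⟨x * (g * x * g⁻¹), mul_mem hx hw⟩ : D.M₀) = ⟨_, hx⟩ * ⟨_, hw⟩ from rfl, map_mul,
      show (⟨g * x * g⁻¹ * x, mul_mem hw hx⟩ : D.M₀) = ⟨_, hw⟩ * ⟨_, hx⟩ from rfl, map_mul, hxv]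
    show v * (D.φ ⟨_, hw⟩ : Perm (Fin 6)) = (D.φ ⟨_, hw⟩ : Perm (Fin 6)) * v
    rw [hφw]
    exact hvc
  have s4 : D.φ ⟨g * (g * x * g⁻¹) * g⁻¹, mul_mem (mul_mem hg hw) (inv_mem hg)⟩ =
      D.φ ⟨x * (g * x * g⁻¹), mul_mem hx hw⟩ := by
    refine Subtype.ext ?_
    rw [show (⟨g * (g * x * g⁻¹) * g⁻¹, mul_mem (mul_mem hg hw) (inv_mem hg)⟩ : D.M₀) =
        ⟨g, hg⟩ * ⟨_, hw⟩ * (⟨g, hg⟩ : D.M₀)⁻¹ from rfl, map_mul, map_mul, map_inv, ← hg0,
      show (⟨x * (g * x * g⁻¹), mul_mem hx hw⟩ : D.M₀) = ⟨_, hx⟩ * ⟨_, hw⟩ from rfl, map_mul, hxv]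
    show (g0 : Perm (Fin 6)) * (D.φ ⟨_, hw⟩ : Perm (Fin 6)) * (g0 : Perm (Fin 6))⁻¹ =
      v * (D.φ ⟨_, hw⟩ : Perm (Fin 6))
    rw [hφw]
    exact hgc
  have key : ∀ a ∈ A, x * a * x⁻¹ = a := by
    letI : CommGroup A := { (inferInstance : Group A) with mul_comm := fun a b => Subtype.ext (D.J_comm (hA a.2) (hA b.2)) }
    have e3 : ∀ a : A, a ^ 3 = 1 := fun a => Subtype.ext (D.hJexp _ (hA a.2))
    have main : ∀ a : A, conjEnd A x (hn hx) a = a := by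
      refine quad_four e3 (conjEnd A g (hn hg)) _ (conjEnd A (g * x * g⁻¹) (hn hw)) ?_ ?_ ?_ ?_ ?_ ?_ ?_
      · intro a
        refine Subtype.ext ?_
        show g * (g * (g * a * g⁻¹) * g⁻¹) * g⁻¹ = a
        calc _ = g ^ 3 * a * (g ^ 3)⁻¹ := by simp only [pow_succ, pow_zero, one_mul, mul_inv_rev, mul_assoc]
          _ = a := by rw [D.J_comm hg3 (hA a.2), mul_inv_cancel_right]
      · intro a
        refine Subtype.ext ?_
        show x * (x * a * x⁻¹) * x⁻¹ = a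
        simpa [mul_assoc] using D.same_action hA (mul_mem hx hx) (one_mem D.M₀) s1 a.2
      · intro a
        refine Subtype.ext ?_
        show g * x * g⁻¹ * (g * x * g⁻¹ * a * (g * x * g⁻¹)⁻¹) * (g * x * g⁻¹)⁻¹ = a
        simpa [mul_assoc] using D.same_action hA (mul_mem hw hw) (one_mem D.M₀) s2 a.2
      · intro a
        refine Subtype.ext ?_
        show x * (g * x * g⁻¹ * a * (g * x * g⁻¹)⁻¹) * x⁻¹ = g * x * g⁻¹ * (x * a * x⁻¹) * (g * x * g⁻¹)⁻¹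
        simpa [mul_assoc] using D.same_action hA (mul_mem hx hw) (mul_mem hw hx) s3 a.2
      · intro a
        exact Subtype.ext (show g * (x * a * x⁻¹) * g⁻¹ = g * x * g⁻¹ * (g * a * g⁻¹) * (g * x * g⁻¹)⁻¹ by group)
      · intro a
        refine Subtype.ext ?_
        show g * (g * x * g⁻¹ * a * (g * x * g⁻¹)⁻¹) * g⁻¹ =
          x * (g * x * g⁻¹ * (g * a * g⁻¹) * (g * x * g⁻¹)⁻¹) * x⁻¹
        simpa [mul_assoc] using D.same_action hA (mul_mem (mul_mem hg hw) (inv_mem hg)) (mul_mem hx hw) s4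
          ((mem_normalizer_iff.1 (hn hg) a).1 a.2)
      · intro a
        refine Subtype.ext ?_
        show g * (g * a * g⁻¹) * g⁻¹ * (g * a * g⁻¹) * a = 1
        have h := hq a a.2
        have hb : g * a * g⁻¹ ∈ A := (mem_normalizer_iff.1 (hn hg) a).1 a.2
        obtain ⟨b, hbd⟩ : ∃ b, b = g * a * g⁻¹ := ⟨_, rfl⟩
        rw [← hbd] at hb ⊢
        have h' : g * b * g⁻¹ * b⁻¹ * ((a : G) * b⁻¹) = 1 := by
          rw [← h, hbd]
          unfold cm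
          group
        have e2 : b⁻¹ = b * b := by
          rw [inv_eq_iff_mul_eq_one, ← pow_two, ← pow_succ']
          exact D.hJexp _ (hA hb)
        have hb3 : b * (b * b) = 1 := by rw [← pow_two, ← pow_succ']; exact D.hJexp _ (hA hb)
        have c1 : b⁻¹ * ((a : G) * b⁻¹) = b * a := by
          rw [D.J_comm (hA a.2) (inv_mem (hA hb)), e2]
          calc b * b * (b * b * (a : G)) = b * (b * (b * b)) * a := by group
            _ = _ := by rw [hb3, mul_one]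
        rw [mul_assoc (g * b * g⁻¹), c1, ← mul_assoc] at h'
        exact h'
    exact fun a ha => congrArg Subtype.val (main ⟨a, ha⟩)
  have hxA : x ∈ centralizer (A : Set G) := mem_centralizer_iff.2 fun b hb => by
    calc b * x = x * b * x⁻¹ * x := by rw [key b hb]
      _ = x * b := by group
  haveI := six_simple
  have hmap : (K.map D.φ).Normal := hKn.map _ D.φ_surj
  rcases hmap.eq_bot_or_eq_top with h | h
  · exfalso
    have hm : D.φ ⟨x, hx⟩ ∈ K.map D.φ := mem_map_of_mem D.φ (mem_subgroupOf.2 hxA)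
    rw [h, mem_bot, hxv] at hm
    exact hv1 (congrArg Subtype.val hm)
  · intro m hm
    obtain ⟨k, hk, hkm⟩ : D.φ ⟨m, hm⟩ ∈ K.map D.φ := h ▸ mem_top _
    have hJ' : (k : G)⁻¹ * m ∈ D.J := D.mem_ker.1 (show D.φ (k⁻¹ * ⟨m, hm⟩) = 1 by
      rw [map_mul, map_inv, hkm, inv_mul_cancel])
    have := mul_mem (mem_subgroupOf.1 hk) (hJK _ hJ')
    rwa [mul_inv_cancel_left] at this

theorem Q_le_M₀ : D.Q ≤ D.M₀ := fun q hq =>
  (D.pow_three_mem (D.Q_le_S hq)).elim fun _ hk => D.mem_M₀ (D.S_le_M (D.Q_le_S hq)) hk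

theorem S_le_M₀ : (D.S : Subgroup G) ≤ D.M₀ := D.sup_eq.1 ▸ sup_le D.hJM D.Q_le_M₀

theorem cm_W {q a : G} (hq : q ∈ D.Q) (ha : a ∈ D.W) : cm q a ∈ D.Z := D.commutator_Q hq ha.2

theorem cm_J {q a : G} (hq : q ∈ D.Q) (ha : a ∈ D.J) : cm q a ∈ D.W := by
  refine mem_inf.2 ⟨mul_mem ((mem_normalizer_iff.1 (D.S_le_M (D.Q_le_S hq)) a).1 ha) (inv_mem ha), ?_⟩
  show q * a * q⁻¹ * a⁻¹ ∈ D.Q
  rw [show q * a * q⁻¹ * a⁻¹ = q * (a * q⁻¹ * a⁻¹) by group]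
  exact mul_mem hq ((mem_normalizer_iff.1 (D.L_le_norm_Q (D.S_le_L (D.hJS ha))) _).1 (inv_mem hq))

theorem cm_one_iff {a b : G} : cm a b = 1 ↔ a * b = b * a := by
  unfold cm
  rw [mul_inv_eq_one, mul_inv_eq_iff_eq_mul]

theorem Z_cent {s z : G} (hs : s ∈ D.S) (hz : z ∈ D.Z) : s * z = z * s :=
  (mem_centralizer_iff.1 (D.S_le_cent hs) z hz).symm

theorem exists_conj_out : ∃ m ∈ D.M₀, ∃ z ∈ D.Z, m * z * m⁻¹ ∉ D.W := by
  by_contra hcon
  push Not at hcon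
  let A : Subgroup G := closure {a | ∃ m ∈ D.M₀, ∃ z ∈ D.Z, m * z * m⁻¹ = a}
  have hAW : A ≤ D.W := (closure_le _).2 (by rintro _ ⟨m, hm, z, hz, rfl⟩; exact hcon m hm z hz)
  have hn : D.M₀ ≤ normalizer (A : Set G) := by
    intro g hg
    refine mem_normalizer_of_map_mem fun x hx => ?_
    induction hx using closure_induction with
    | mem y hy =>
      obtain ⟨m, hm, z, hz, rfl⟩ := hy
      exact subset_closure ⟨g * m, mul_mem hg hm, z, hz, by group⟩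
    | one => rw [mul_one, mul_inv_cancel]; exact one_mem A
    | mul y y' _ _ h h' =>
      rw [show g * (y * y') * g⁻¹ = g * y * g⁻¹ * (g * y' * g⁻¹) by group]
      exact mul_mem h h'
    | inv y _ h =>
      rw [show g * y⁻¹ * g⁻¹ = (g * y * g⁻¹)⁻¹ by group]
      exact inv_mem h
  obtain ⟨q, hq, hqW⟩ : ∃ q ∈ D.Q, q ∉ D.W := by
    by_contra h
    push Not at h
    have := card_le_of_le h
    rw [D.hQcard, D.sup_eq.2] at this
    omega
  have hqJ : q ∉ D.J := fun h => hqW ⟨h, hq⟩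
  have hcent := D.quad_trivial (hAW.trans inf_le_left) hn (D.Q_le_M₀ hq) hqJ
    (by rw [D.hQexp q hq]; exact one_mem _)
    (fun a ha => cm_one_iff.2 (D.Z_cent (D.Q_le_S hq) (D.cm_W hq (hAW ha))))
  have hZA : D.Z ≤ A := fun z hz => subset_closure ⟨1, one_mem _, z, hz, by group⟩
  have hL : D.M₀ ≤ D.L := (hcent.trans (centralizer_le hZA)).trans (centralizer_le_normalizer _)
  have hnS : D.M₀ ≤ normalizer ((D.S : Subgroup G) : Set G) := by
    intro g hg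
    refine mem_normalizer_of_map_mem fun x hx => ?_
    rw [← D.sup_eq.1] at hx ⊢
    have hle : (D.J ⊔ D.Q).map (MulAut.conj g).toMonoidHom ≤ D.J ⊔ D.Q := by
      rw [Subgroup.map_sup]
      exact sup_le_sup (mem_normalizer_iff_map_conj_eq.1 (D.M₀_le_M hg)).le
        (mem_normalizer_iff_map_conj_eq.1 (D.L_le_norm_Q (hL hg))).le
    exact hle ⟨x, hx, rfl⟩
  haveI hSn : ((D.S : Subgroup G).subgroupOf D.M₀).Normal := normal_subgroupOf_of_le_normalizer hnS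
  haveI := six_simple
  have h3 : IsPGroup 3 (((D.S : Subgroup G).subgroupOf D.M₀).map D.φ) :=
    (D.S.2.of_equiv (subgroupOfEquivOfLe D.S_le_M₀).symm).map _
  rcases (hSn.map _ D.φ_surj).eq_bot_or_eq_top with h | h
  · have hm : D.φ ⟨q, D.Q_le_M₀ hq⟩ ∈ ((D.S : Subgroup G).subgroupOf D.M₀).map D.φ :=
      mem_map_of_mem D.φ (mem_subgroupOf.2 (D.Q_le_S hq))
    rw [h, mem_bot] at hm
    exact hqJ (D.mem_ker.1 hm)
  · rw [h] at h3
    obtain ⟨v, hv, hvv, hv1, -⟩ := six_four (swap (0 : Fin 6) 1 * swap 1 2) (by decide +kernel) (by decide +kernel)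
      (by decide +kernel)
    obtain ⟨k, hk⟩ := h3 ⟨⟨v, hv⟩, mem_top _⟩
    have hk' : v ^ 3 ^ k = 1 :=
      congrArg (fun y : (⊤ : Subgroup (alternatingGroup (Fin 6))) => ((y : alternatingGroup (Fin 6)) : Perm (Fin 6))) hk
    have h2 : v ^ 2 = 1 := by rw [pow_two]; exact hvv
    have := pow_gcd_eq_one.mpr ⟨h2, hk'⟩
    rw [(Nat.Coprime.pow_right k (show Nat.Coprime 2 3 by decide)).gcd_eq_one, pow_one] at this
    exact hv1 this

end Data

end Cfsg.Lib.McLLocal
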