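import Cfsg.Agent.LocalThree.McLLocal.KSide
import Cfsg.Prelude.Def_SporadicB
import Mathlib.GroupTheory.SpecificGroups.Alternating.Simple

/-!
The exceptional quotient does not occur; the centraliser covers the alternating group of degree eight.
-/

set_option autoImplicit false
set_option linter.unusedSectionVars false
set_option maxRecDepth 100000
set_option synthInstance.maxSize 4096

namespace Cfsg.Lib.McLLocal

open Subgroup Equiv
open scoped Pointwise commutatorElement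

universe u

variable {G : Type u} [Group G] [Finite G]

theorem five_cent : ∀ c a : alternatingGroup (Fin 5), c ^ 3 = 1 → c ≠ 1 → a * c = c * a → a = 1 ∨ a = c ∨ a = c * c := by
  decide +kernel

theorem outer_conj : ∀ k c : Fin 64, kFour k → colZ c = 2 → colW c = 27 → mulH c k = mulH k c →
    mulH k (mulH 35 (mulH c 35)) = 8 ∨ mulH k (mulH 35 (mulH c 35)) = 24 := by decide +kernel

theorem five_kills {A : Type*} [Group A] (f : A →* alternatingGroup (Fin 5)) {c : alternatingGroup (Fin 5)}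
    (h3 : c ^ 3 = 1) (h1 : c ≠ 1) (hc : ∀ a, f a * c = c * f a) {a : A} (ha : a ∈ commutator A) : f a = 1 := by
  have : commutator A ≤ f.ker := by
    rw [_root_.commutator_def, commutator_le]
    intro a _ b _
    rw [MonoidHom.mem_ker, map_commutatorElement, commutatorElement_eq_one_iff_mul_comm]
    rcases five_cent c (f a) h3 h1 (hc a) with r | r | r <;>
      rcases five_cent c (f b) h3 h1 (hc b) with s | s | s <;> rw [r, s] <;> group
  exact this ha

/-- Identifying a double cover. -/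
theorem cover_of_hom {X : Type*} [Group X] [Finite X] (f : X →* alternatingGroup (Fin 8)) (hf : Function.Surjective f)
    {z : X} (hz : z ≠ 1) (hk : ∀ x, f x = 1 ↔ x = 1 ∨ x = z) (hc : ∀ x, Commute x z) (hzc : z ∈ commutator X) :
    Cfsg.IsNonsplitDoubleCover X (alternatingGroup (Fin 8)) := by
  have hcen : center X = f.ker := by
    refine le_antisymm (fun x hx => ?_) fun x hx => ?_
    · have h : f x ∈ center (alternatingGroup (Fin 8)) := mem_center_iff.2 fun a => by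
        obtain ⟨b, rfl⟩ := hf a
        rw [← map_mul, ← map_mul, mem_center_iff.1 hx b]
      rw [alternatingGroup.center_eq_bot (by rw [Nat.card_eq_fintype_card, Fintype.card_fin]; norm_num), mem_bot] at h
      exact h
    · rcases (hk x).1 hx with r | r
      · rw [r]; exact one_mem _
      · exact r ▸ mem_center_iff.2 fun a => (hc a).eq
  refine ⟨?_, ⟨(QuotientGroup.quotientMulEquivOfEq hcen).trans (QuotientGroup.quotientKerEquivOfSurjective f hf)⟩, ?_⟩
  · rw [hcen]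
    refine Nat.card_eq_two_iff.2 ⟨⟨1, one_mem _⟩, ⟨z, (hk z).2 (Or.inr rfl)⟩, fun e => hz (congrArg Subtype.val e).symm, ?_⟩
    refine Set.eq_univ_iff_forall.2 fun a => ?_
    rcases (hk a).1 a.2 with r | r
    · exact Or.inl (Subtype.ext r)
    · exact Or.inr (Subtype.ext r)
  · intro L hL
    have hsub : commutator X ≤ L := by
      rw [_root_.commutator_def, commutator_le]
      intro a _ b _
      obtain ⟨⟨⟨c, hcC⟩, ⟨l, hl⟩⟩, rfl⟩ := hL.2 a
      obtain ⟨⟨⟨d, hdC⟩, ⟨m, hm⟩⟩, rfl⟩ := hL.2 b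
      have e : ⁅c * l, d * m⁆ = ⁅l, m⁆ := by
        have c1 : ∀ q, q * c = c * q := fun q => mem_center_iff.1 hcC q
        have d1 : ∀ q, q * d = d * q := fun q => mem_center_iff.1 hdC q
        simp only [commutatorElement_def, mul_inv_rev]
        calc c * l * (d * m) * (l⁻¹ * c⁻¹) * (m⁻¹ * d⁻¹) = c * (l * d) * m * l⁻¹ * c⁻¹ * m⁻¹ * d⁻¹ := by group
          _ = d * (c * (l * m * l⁻¹)) * c⁻¹ * m⁻¹ * d⁻¹ := by rw [d1 l, ← mul_assoc c d, d1 c]; group
          _ = d * (l * m * l⁻¹ * m⁻¹) * d⁻¹ := by rw [← c1 (l * m * l⁻¹)]; group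
          _ = _ := by rw [← d1 (l * m * l⁻¹ * m⁻¹)]; group
      show ⁅c * l, d * m⁆ ∈ L
      rw [e]
      exact mul_mem (mul_mem (mul_mem hl hm) (inv_mem hl)) (inv_mem hm)
    have hzC : z ∈ center X := hcen ▸ (hk z).2 (Or.inr rfl)
    exact hz (mem_bot.1 (hL.disjoint.le_bot (mem_inf.2 ⟨hzC, hsub hzc⟩)))

namespace Inv

variable (I : Inv G)

theorem rho_surj_B (hB : ¬ I.CaseA) : Function.Surjective I.rho := by
  rw [← MonoidHom.range_eq_top]
  refine eq_of_le_of_card_ge le_top ?_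
  rw [Nat.card_congr Subgroup.topEquiv.toEquiv, Nat.card_prod, Nat.card_perm, Nat.card_perm,
    Nat.card_eq_fintype_card (α := Fin 3), Nat.card_eq_fintype_card (α := Fin 5), Fintype.card_fin, Fintype.card_fin]
  have h := card_eq_card_quotient_mul_card_subgroup I.rho.ker
  rw [Nat.card_congr (QuotientGroup.quotientKerEquivRange I.rho).toEquiv, I.card_NZ_cases.2 hB] at h
  have h2 : Nat.card I.rho.ker ≤ 2 := by
    let f : I.rho.ker → zpowers I.t := fun a => ⟨((a : ↥I.NZ) : G), I.mem_zt.2 (I.rho_ker.1 a.2)⟩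
    have hf : Function.Injective f := fun a b e => Subtype.ext (Subtype.ext (congrArg Subtype.val e :))
    refine (Nat.card_le_card_of_injective f hf).trans ?_
    rw [Nat.card_zpowers]
    exact Nat.le_of_dvd (by norm_num) (orderOf_dvd_of_pow_eq_one (by rw [pow_two, I.ht]))
  have h6 : (Nat.factorial 3 * Nat.factorial 5 : ℕ) = 720 := rfl
  rw [h6]
  nlinarith

theorem E1_perfect : commutator I.toTop.E1 = ⊤ := by
  refine Subgroup.map_injective (f := I.toTop.eq1.toMonoidHom) I.toTop.eq1.injective ?_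
  rw [_root_.commutator_def, map_commutator,
    map_top_of_surjective I.toTop.eq1.toMonoidHom I.toTop.eq1.surjective, ← _root_.commutator_def, sl5_perfect]

theorem E1_le_H : I.toTop.E1 ≤ I.toTop.H := fun _ h => (I.toTop.E1_le_E0 h).2

theorem C0_parity {x : ↥I.NZ} (hx : (x : G) ∈ I.toTop.E0) : Perm.sign (I.rho5 x) = 1 := by
  obtain ⟨z, hz, e, he, hze⟩ := I.toTop.E0_split hx
  rw [show x = ⟨z, I.Z_le_NZ hz⟩ * ⟨e, I.E1_le_NZ he⟩ from Subtype.ext hze, map_mul,
    show I.rho5 ⟨z, I.Z_le_NZ hz⟩ = 1 from I.rho5_ker.2 fun f hf =>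
      (show Commute z f from mem_centralizer_iff.1 (I.toTop.E1_cent_Z hf) z hz), one_mul, I.rho5_E1 ⟨e, he⟩]
  exact Perm.mem_alternatingGroup.1 (I.piE _).2

theorem E0_of_parity {x : ↥I.NZ} (hx : (x : G) ∈ I.C0) (h : Perm.sign (I.rho5 x) = 1) : (x : G) ∈ I.toTop.E0 := by
  obtain ⟨e, he⟩ := I.piE_surj ⟨I.rho5 x, Perm.mem_alternatingGroup.2 h⟩
  have hy : (⟨(e : G), I.E1_le_NZ e.2⟩ : I.NZ)⁻¹ * x ∈ I.rho5.ker := by
    rw [MonoidHom.mem_ker, map_mul, map_inv, I.rho5_E1, he, inv_mul_cancel]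
  have heE := I.toTop.E1_le_E0 e.2
  have hmem : (e : G)⁻¹ * x ∈ I.toTop.E0 := by
    rcases I.cent_E1_fix (mul_mem (inv_mem (I.E0_le_C0 heE)) hx) (I.rho5_ker.1 hy) with r | r
    · exact I.toTop.Z_le_E0 r
    · have := mul_mem (inv_mem I.t_mem_E0) (I.toTop.Z_le_E0 r)
      rwa [inv_mul_cancel_left] at this
  have := mul_mem heE hmem
  rwa [mul_inv_cancel_left] at this

/-- The exceptional quotient does not occur. -/
theorem no_exception (hB : ¬ I.CaseA) (N : Subgroup I.Kt) (hN : N.Normal)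
    (φ : N ≃* alternatingGroup (Fin 5) × alternatingGroup (Fin 5)) (hsq : ∀ g : I.Kt, g ^ 2 ∈ N) : False := by
  obtain ⟨i, hi⟩ := I.rho_surj_B hB (Equiv.swap (0 : Fin 3) 1, 1)
  have hi5 : I.rho5 i = 1 := congrArg Prod.snd hi
  have hcent := I.rho5_ker.1 hi5
  have hi1 : (i : G) * I.e 1 * (i : G)⁻¹ = (I.e 1)⁻¹ := by
    rcases I.NZ_sign i.2 with r | r
    · exfalso
      have := I.rho3_sign.1 (I.mem_C0_of_fix i.2 r)
      rw [show I.rho3 i = Equiv.swap (0 : Fin 3) 1 from congrArg Prod.fst hi] at this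
      exact absurd this (by decide)
    · exact r
  have hi27 : (i : G) * I.e 27 * (i : G)⁻¹ = I.e 27 := mul_inv_eq_iff_eq_mul.2 (hcent _ I.w_mem).eq
  have hiM : (i : G) ∈ I.toData.M := I.toTop.norm_D_M (mem_inf.1 i.2).2 fun d hd => by
    obtain ⟨v, rfl⟩ := (I.memJ d).1 hd.1
    obtain ⟨a, b, e⟩ := I.mem_D_split hd
    rw [e, conj_mul.symm, ← conj_pow, ← conj_pow, hi1, hi27]
    exact mul_mem (pow_mem (inv_mem I.toTop.e1_mem_D) _) (pow_mem I.toTop.e27_mem_D _)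
  obtain ⟨gi, hgi⟩ : ∃ gi : ↥I.ND, gi = ⟨i, mem_inf.2 ⟨(mem_inf.1 i.2).1, hiM⟩⟩ := ⟨_, rfl⟩
  obtain ⟨s, hs, hsa⟩ := I.exists_A 35 (List.mem_append_left _ (by decide))
  obtain ⟨gs, hgs⟩ : ∃ gs : ↥I.ND, gs = ⟨s, hs⟩ := ⟨_, rfl⟩
  have hgia : I.toFrame.Acts (i : G) (actH (I.code gi)) := by
    have := I.code_acts gi
    rwa [hgi] at this ⊢
  obtain ⟨n1, -, -, n27⟩ := named_vectors.2.2.2.2.2.2.2 (I.code gi)
  have hZ : colZ (I.code gi) = 2 := n1.symm.trans (I.e_inj ((hgia 1).symm.trans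
    (hi1.trans (by rw [← I.toFrame.e_inv, named_vectors.2.2.1]))))
  have hW : colW (I.code gi) = 27 := n27.symm.trans (I.e_inj ((hgia 27).symm.trans hi27))
  have hcomm : mulH (I.code gi) I.k₀ = mulH I.k₀ (I.code gi) := I.toFrame.code_unique
    (I.toFrame.acts_H_mul hgia I.y_acts) ((hcent _ I.y_mem).eq.symm ▸ I.toFrame.acts_H_mul I.y_acts hgia)
  have hcs : I.code gs = 35 := I.code_eq (g := gs) (hgs ▸ hsa)
  have hcs' : I.code gs⁻¹ = 35 := by
    have h := I.code_mul gs gs⁻¹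
    rw [mul_inv_cancel, I.code_one, hcs] at h
    exact (show ∀ c, mulH 35 c = 0 → c = 35 by decide +kernel) _ h.symm
  have hjc : I.code (gs * gi * gs⁻¹) = mulH 35 (mulH (I.code gi) 35) := by
    rw [mul_assoc, I.code_mul, I.code_mul, hcs, hcs']
  have hja : I.toFrame.Acts (s * i * s⁻¹) (actH (mulH 35 (mulH (I.code gi) 35))) := by
    have := I.code_acts (gs * gi * gs⁻¹)
    rw [hjc] at this
    simpa [hgs, hgi] using this
  have hjH : s * i * s⁻¹ ∈ I.toTop.H :=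
    mul_mem (mul_mem (mem_inf.1 hs).1 (mem_inf.1 i.2).1) (inv_mem (mem_inf.1 hs).1)
  have hj1 : s * i * s⁻¹ * I.e 1 * (s * i * s⁻¹)⁻¹ = I.e 1 := by
    rw [hja 1]
    refine congrArg I.e ?_
    exact (show ∀ c : Fin 64, colZ c = 2 → colW c = 27 → actH (mulH 35 (mulH c 35)) 1 = 1 by decide +kernel) _ hZ hW
  have hjC : s * i * s⁻¹ ∈ I.C0 := by
    refine mem_inf.2 ⟨hjH, mem_centralizer_iff.2 fun z hz => ?_⟩
    obtain ⟨k, rfl⟩ := (I.eZ _).1 hz
    rw [I.toFrame.e_sc]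
    exact ((show Commute (s * i * s⁻¹) (I.e 1) from mul_inv_eq_iff_eq_mul.1 hj1).pow_right k.val).eq.symm
  obtain ⟨j, hj⟩ : ∃ j : ↥I.NZ, j = ⟨s * i * s⁻¹, I.C0_le_NZ hjC⟩ := ⟨_, rfl⟩
  have hjodd : Perm.sign (I.rho5 j) = -1 := by
    rcases Int.units_eq_one_or (Perm.sign (I.rho5 j)) with h | h
    swap
    · exact h
    exfalso
    have hmem := I.E0_of_parity (hj ▸ hjC : (j : G) ∈ I.C0) h
    rw [hj] at hmem
    have hy := mul_mem (I.toTop.E1_le_E0 I.y_mem) hmem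
    have ha := I.toFrame.acts_H_mul I.y_acts hja
    rcases outer_conj I.k₀ (I.code gi) I.hk₀ hZ hW hcomm with r | r <;> rw [r] at ha
    · exact I.eight_not_E0 ha hy
    · have ha' := I.toFrame.acts_H_mul I.hta ha
      rw [show mulH 16 24 = 8 by decide +kernel] at ha'
      exact I.eight_not_E0 ha' (mul_mem I.t_mem_E0 hy)
  -- the quotient of the exceptional subgroup is abelian
  have hcomN : ∀ a b : I.Kt, a * b * a⁻¹ * b⁻¹ ∈ N := fun a b => by
    have e : a * b * a⁻¹ * b⁻¹ = a ^ 2 * ((a⁻¹ * b) ^ 2 * (b⁻¹) ^ 2) := by simp only [pow_two]; group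
    rw [e]
    exact mul_mem (hsq a) (mul_mem (hsq _) (hsq _))
  let ι : ↥I.NZ →* I.Kt := I.km.comp (Subgroup.inclusion inf_le_left)
  obtain ⟨x, hx⟩ : ∃ x : ↥I.NZ, x = j * i⁻¹ := ⟨_, rfl⟩
  have hxodd : Perm.sign (I.rho5 x) = -1 := by rw [hx, map_mul, map_inv, hi5, inv_one, mul_one, hjodd]
  have hxN : ι x ∈ N := by
    have h := hcomN (I.km ⟨s, (mem_inf.1 hs).1⟩) (ι i)
    have e : ι x = I.km ⟨s, (mem_inf.1 hs).1⟩ * ι i * (I.km ⟨s, (mem_inf.1 hs).1⟩)⁻¹ * (ι i)⁻¹ := by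
      rw [hx, map_mul, map_inv]
      refine congrArg (· * (ι i)⁻¹) ?_
      show I.km _ = I.km _ * I.km _ * (I.km _)⁻¹
      rw [← map_inv, ← map_mul, ← map_mul]
      exact congrArg I.km (Subtype.ext (by rw [hj]; rfl))
    rw [e]
    exact h
  let η : ↥I.toTop.E1 →* I.Kt := ι.comp (Subgroup.inclusion I.E1_le_NZ)
  have hηN : ∀ e, η e ∈ N := fun e => by
    have h : commutator I.toTop.E1 ≤ N.comap η := by
      rw [_root_.commutator_def, commutator_le]
      intro a _ b _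
      rw [mem_comap, map_commutatorElement, commutatorElement_def]
      exact hcomN _ _
    exact h (I.E1_perfect ▸ mem_top e)
  obtain ⟨zk, hzk⟩ : ∃ zk, zk = I.dbar ⟨_, I.toTop.e1_mem_D⟩ := ⟨_, rfl⟩
  have hz3 : zk ^ 3 = 1 := hzk ▸ I.img_exp _ (I.km_mem_img I.toTop.e1_mem_D)
  have hzN : zk ∈ N := by
    have e : zk = (zk ^ 2) ^ 2 := by rw [← pow_mul]; show zk = zk ^ (3 + 1); rw [pow_add, hz3, one_mul, pow_one]
    rw [e]
    exact hsq _
  let ηN : ↥I.toTop.E1 →* N := η.codRestrict N hηN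
  have hηz : ∀ e, ηN e * ⟨zk, hzN⟩ = ⟨zk, hzN⟩ * ηN e := fun e => Subtype.ext (by
    show η e * zk = zk * η e
    rw [hzk]
    show I.km _ * I.km _ = I.km _ * I.km _
    rw [← map_mul, ← map_mul]
    exact congrArg I.km (Subtype.ext (mem_centralizer_iff.1 (I.toTop.E1_cent_Z e.2) _ ((I.eZ _).2 ⟨1, rfl⟩)).symm))
  have key : ∀ p q : N →* alternatingGroup (Fin 5), (∀ n, p n = 1 → q n = 1 → n = 1) → p ⟨zk, hzN⟩ ≠ 1 → False := by
    intro p q hinj hp
    have hp1 : ∀ e, p (ηN e) = 1 := fun e => five_kills (p.comp ηN) (c := p ⟨zk, hzN⟩)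
      (by rw [← map_pow, show (⟨zk, hzN⟩ : N) ^ 3 = 1 from Subtype.ext (by rw [SubgroupClass.coe_pow]; exact hz3), map_one])
      hp (fun a => by show p (ηN a) * _ = _ * p (ηN a); rw [← map_mul, ← map_mul, hηz]) (I.E1_perfect ▸ mem_top e)
    have hker : ∀ e, q (ηN e) = 1 → (e : G) = 1 ∨ (e : G) = I.t := fun e he =>
      I.km_eq_one.1 (congrArg Subtype.val (hinj _ (hp1 e) he))
    have hsurj : Function.Surjective (q.comp ηN) := by
      rw [← MonoidHom.range_eq_top]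
      refine eq_of_le_of_card_ge le_top ?_
      rw [Nat.card_congr Subgroup.topEquiv.toEquiv, card_alt_five]
      have h := card_eq_card_quotient_mul_card_subgroup (q.comp ηN).ker
      rw [Nat.card_congr (QuotientGroup.quotientKerEquivRange (q.comp ηN)).toEquiv,
        Nat.card_congr I.toTop.eq1.toEquiv] at h
      haveI : Fact (Nat.Prime 5) := ⟨by norm_num⟩
      rw [Cfsg.Lib.Classical.SLTwoTori.card_SL2, ZMod.card] at h
      have h2 : Nat.card (q.comp ηN).ker ≤ 2 := by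
        let f : (q.comp ηN).ker → zpowers I.t := fun a => ⟨((a : ↥I.toTop.E1) : G), I.mem_zt.2 (hker _ a.2)⟩
        have hf : Function.Injective f := fun a b e => Subtype.ext (Subtype.ext (congrArg Subtype.val e :))
        refine (Nat.card_le_card_of_injective f hf).trans ?_
        rw [Nat.card_zpowers]
        exact Nat.le_of_dvd (by norm_num) (orderOf_dvd_of_pow_eq_one (by rw [pow_two, I.ht]))
      rw [show (5 * (5 ^ 2 - 1) : ℕ) = 120 from rfl] at h
      nlinarith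
    obtain ⟨e0, he0⟩ := hsurj (q ⟨ι x, hxN⟩)
    obtain ⟨v, hv⟩ : ∃ v : ↥I.NZ, v = ⟨(e0 : G), I.E1_le_NZ e0.2⟩⁻¹ * x := ⟨_, rfl⟩
    have hv5 : I.rho5 v = 1 := by
      refine (Cfsg.Lib.M12Cent.conjAlt.symm.map_eq_one_iff).2 (MulEquiv.ext fun a => ?_)
      obtain ⟨e, rfl⟩ := I.piE_surj a
      show I.barMap v (I.piE e) = I.piE e
      rw [I.barMap_pi, I.piE_eq_iff]
      have h : ηN (I.cj v e) = (ηN e0)⁻¹ * ⟨ι x, hxN⟩ * ηN e * ((ηN e0)⁻¹ * ⟨ι x, hxN⟩)⁻¹ := Subtype.ext (by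
        show ι ⟨_, _⟩ = (η e0)⁻¹ * ι x * η e * ((η e0)⁻¹ * ι x)⁻¹
        have : (⟨((I.cj v e : I.toTop.E1) : G), I.E1_le_NZ (I.cj v e).2⟩ : ↥I.NZ) =
            (⟨(e0 : G), I.E1_le_NZ e0.2⟩⁻¹ * x) * ⟨(e : G), I.E1_le_NZ e.2⟩ * (⟨(e0 : G), I.E1_le_NZ e0.2⟩⁻¹ * x)⁻¹ :=
          Subtype.ext (by rw [← hv]; simp [cj])
        exact (congrArg ι this).trans (by simp only [map_mul, map_inv]; rfl))
      have he : ηN (I.cj v e) = ηN e := by
        refine inv_mul_eq_one.1 (hinj _ ?_ ?_) |>.symm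
        · rw [map_mul, map_inv, hp1, hp1, inv_one, one_mul]
        · have e2 : q (⟨ι x, hxN⟩ : N) = q (ηN e0) := he0.symm
          rw [map_mul, map_inv, h]
          simp only [map_mul, map_inv, e2]
          group
      have := I.km_eq_iff.1 (congrArg Subtype.val he)
      exact this
    have hodd : Perm.sign (I.rho5 v) = -1 := by
      rw [hv, map_mul, map_inv, map_mul, map_inv, hxodd, I.rho5_E1, Perm.mem_alternatingGroup.1 (I.piE e0).2, inv_one, one_mul]
    rw [hv5, map_one] at hodd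
    exact absurd hodd (by decide)
  obtain ⟨p, hp⟩ : ∃ p : N →* alternatingGroup (Fin 5), p = (MonoidHom.fst _ _).comp φ.toMonoidHom := ⟨_, rfl⟩
  obtain ⟨q, hq⟩ : ∃ q : N →* alternatingGroup (Fin 5), q = (MonoidHom.snd _ _).comp φ.toMonoidHom := ⟨_, rfl⟩
  have hinj : ∀ n, p n = 1 → q n = 1 → n = 1 := fun n h1 h2 => φ.map_eq_one_iff.1 (Prod.ext (by subst hp; exact h1) (by subst hq; exact h2))
  by_cases hp0 : p ⟨zk, hzN⟩ = 1
  · refine key q p (fun n a b => hinj n b a) fun hq0 => ?_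
    have h' : zk = 1 := congrArg Subtype.val (hinj _ hp0 hq0)
    rw [hzk] at h'
    rcases I.km_eq_one.1 h' with r | r
    · exact I.toFrame.e_ne named_vectors.1 r
    · exact (I.order_three_eq (one_pow 3) (I.pow_three_D I.toTop.e1_mem_D) (Commute.one_left _)
        (by rw [one_mul]; exact r))
  · exact key p q hinj hp0

/-- The part lying over the alternating group. -/
theorem exists_part (hP : I.toFrame.PointCond) : ∃ X : Subgroup G, X ≤ I.toTop.H ∧ I.t ∈ X ∧ I.toTop.E1 ≤ X ∧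
    Cfsg.IsNonsplitDoubleCover X (alternatingGroup (Fin 8)) ∧
    ((I.CaseA ∧ X = I.toTop.H) ∨ (¬ I.CaseA ∧ ∃ ρ : ↥I.toTop.H →* Perm (Fin 8), Function.Surjective ρ ∧
      (∀ h, ρ h = 1 ↔ (h : G) = 1 ∨ (h : G) = I.t) ∧ ∀ h : ↥I.toTop.H, (h : G) ∈ X ↔ Perm.sign (ρ h) = 1)) := by
  have mk : ∀ (X : Subgroup G) (hX : X ≤ I.toTop.H) (hE : I.toTop.E1 ≤ X) (f : X →* alternatingGroup (Fin 8)),
      Function.Surjective f → (∀ x, f x = 1 ↔ (x : G) = 1 ∨ (x : G) = I.t) →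
      Cfsg.IsNonsplitDoubleCover X (alternatingGroup (Fin 8)) := by
    intro X hX hE f hf hk
    refine cover_of_hom f hf (z := ⟨I.t, hE I.t_mem_E1⟩) (fun h => I.toTop.ht1 (congrArg Subtype.val h))
      (fun x => (hk x).trans (or_congr ⟨fun h => Subtype.ext h, congrArg Subtype.val⟩ ⟨fun h => Subtype.ext h, congrArg Subtype.val⟩))
      (fun x => Subtype.ext (I.comm_H (hX x.2)).eq) ?_
    have h := map_commutator_le_commutator_aux (I := I) hE ⟨I.t, I.t_mem_E1⟩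
    exact h
  by_cases hA : I.CaseA
  · obtain ⟨e⟩ := I.quot_A hP hA
    refine ⟨I.toTop.H, le_rfl, I.t_mem_H, I.E1_le_H, mk _ le_rfl I.E1_le_H (e.toMonoidHom.comp I.km)
      (e.surjective.comp I.km_surj) (fun x => e.map_eq_one_iff.trans I.km_eq_one), Or.inl ⟨hA, rfl⟩⟩
  · rcases I.quot_B hP hA with ⟨⟨e⟩⟩ | ⟨N, hN, ⟨φ⟩, -, hsq⟩
    swap
    · exact (I.no_exception hA N hN φ hsq).elim
    obtain ⟨ρ, hρ⟩ : ∃ ρ : ↥I.toTop.H →* Perm (Fin 8), ρ = e.toMonoidHom.comp I.km := ⟨_, rfl⟩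
    have hρk : ∀ h, ρ h = 1 ↔ (h : G) = 1 ∨ (h : G) = I.t := fun h => hρ ▸ e.map_eq_one_iff.trans I.km_eq_one
    have hρs : Function.Surjective ρ := hρ ▸ e.surjective.comp I.km_surj
    obtain ⟨X, hX⟩ : ∃ X, X = ((Perm.sign.comp ρ).ker).map I.toTop.H.subtype := ⟨_, rfl⟩
    have hXH : X ≤ I.toTop.H := hX ▸ map_subtype_le _
    have hXm : ∀ h : ↥I.toTop.H, (h : G) ∈ X ↔ Perm.sign (ρ h) = 1 := fun h => by
      rw [hX]
      exact ⟨fun ⟨a, ha, e'⟩ => (Subtype.ext e' : a = h) ▸ ha, fun hh => ⟨h, hh, rfl⟩⟩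
    have hE : I.toTop.E1 ≤ X := fun g hg => by
      have h : commutator I.toTop.E1 ≤ ((Perm.sign.comp ρ).comp (Subgroup.inclusion I.E1_le_H)).ker :=
        Abelianization.commutator_subset_ker _
      exact (hXm ⟨g, I.E1_le_H hg⟩).2 (MonoidHom.mem_ker.1 (h (I.E1_perfect ▸ mem_top (⟨g, hg⟩ : I.toTop.E1))))
    let f : X →* alternatingGroup (Fin 8) := (ρ.comp (Subgroup.inclusion hXH)).codRestrict _
      fun x => Perm.mem_alternatingGroup.2 ((hXm (Subgroup.inclusion hXH x)).1 x.2)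
    have hf : Function.Surjective f := fun a => by
      obtain ⟨h, hh⟩ := hρs (a : Perm (Fin 8))
      exact ⟨⟨h, (hXm h).2 (by rw [hh]; exact Perm.mem_alternatingGroup.1 a.2)⟩, Subtype.ext hh⟩
    exact ⟨X, hXH, hE I.t_mem_E1, hE, mk X hXH hE f hf (fun x => (Subtype.ext_iff).trans (hρk _)),
      Or.inr ⟨hA, ρ, hρs, hρk, hXm⟩⟩
where
  map_commutator_le_commutator_aux {I : Inv G} {X : Subgroup G} (hE : I.toTop.E1 ≤ X) (a : I.toTop.E1) :
      (⟨(a : G), hE a.2⟩ : X) ∈ commutator X :=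
    (Subgroup.map_le_iff_le_comap.1 (show (commutator I.toTop.E1).map (Subgroup.inclusion hE) ≤ commutator X by
      rw [_root_.commutator_def, map_commutator, _root_.commutator_def]
      exact commutator_mono le_top le_top)) (I.E1_perfect ▸ mem_top a)

end Inv

end Cfsg.Lib.McLLocal
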