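import Mathlib.GroupTheory.Perm.Cycle.Type
import Mathlib.GroupTheory.Perm.Centralizer
import Mathlib.GroupTheory.Sylow
import Mathlib.GroupTheory.SpecificGroups.Alternating
import Mathlib.Tactic

/-!
Involutions of the symmetric group of degree eight against a Sylow 3-subgroup.
-/

set_option autoImplicit false
set_option maxRecDepth 100000
set_option synthInstance.maxSize 4096

namespace Cfsg.Lib.McLLocal

open Equiv Equiv.Perm

/-- A three-cycle. -/
def c1 : Perm (Fin 8) := swap 0 1 * swap 1 2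

/-- A disjoint three-cycle. -/
def c2 : Perm (Fin 8) := swap 3 4 * swap 4 5

/-- A transposition disjoint from both. -/
def tau : Perm (Fin 8) := swap 6 7

/-- A product of three transpositions. -/
def tau3 : Perm (Fin 8) := swap 0 1 * swap 2 3 * swap 4 5

theorem nine_facts : c1 * c2 = c2 * c1 ∧ c1 ^ 3 = 1 ∧ c2 ^ 3 = 1 ∧ tau * c1 = c1 * tau ∧ tau * c2 = c2 * tau ∧
    (∀ a b a' b' : Fin 3, c1 ^ a.val * c2 ^ b.val = c1 ^ a'.val * c2 ^ b'.val → a = a' ∧ b = b') ∧
    c1 ≠ 1 ∧ c2 ≠ 1 := by decide +kernel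

/-- The subgroup of order nine. -/
def nineG : Subgroup (Perm (Fin 8)) := Subgroup.zpowers c1 ⊔ Subgroup.zpowers c2

theorem mem_nine {σ : Perm (Fin 8)} : σ ∈ nineG ↔ ∃ a b : Fin 3, σ = c1 ^ a.val * c2 ^ b.val := by
  obtain ⟨hc, h1, h2, -⟩ := nine_facts
  constructor
  · intro h
    have hn : Subgroup.zpowers c2 ≤ Subgroup.normalizer (Subgroup.zpowers c1 : Set (Perm (Fin 8))) := by
      refine le_trans ?_ (Subgroup.centralizer_le_normalizer _)
      refine Subgroup.zpowers_le.2 (Subgroup.mem_centralizer_iff.2 fun x hx => ?_)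
      obtain ⟨n, rfl⟩ := Subgroup.mem_zpowers_iff.1 hx
      exact ((show Commute c1 c2 from hc).zpow_left n).eq
    rw [nineG, ← SetLike.mem_coe, Subgroup.coe_mul_of_right_le_normalizer_left _ _ hn] at h
    obtain ⟨p, hp, q, hq, rfl⟩ := h
    obtain ⟨n, rfl⟩ := Subgroup.mem_zpowers_iff.1 hp
    obtain ⟨m, rfl⟩ := Subgroup.mem_zpowers_iff.1 hq
    refine ⟨⟨(n % 3).toNat, by omega⟩, ⟨(m % 3).toNat, by omega⟩, ?_⟩
    show c1 ^ n * c2 ^ m = c1 ^ (n % 3).toNat * c2 ^ (m % 3).toNat
    rw [← zpow_natCast c1, ← zpow_natCast c2, Int.toNat_of_nonneg (Int.emod_nonneg _ (by norm_num)),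
      Int.toNat_of_nonneg (Int.emod_nonneg _ (by norm_num))]
    conv_lhs => rw [← Int.mul_ediv_add_emod n 3, ← Int.mul_ediv_add_emod m 3]
    rw [zpow_add, zpow_add, zpow_mul, zpow_mul, show c1 ^ (3 : ℤ) = 1 from (zpow_natCast c1 3).trans h1,
      show c2 ^ (3 : ℤ) = 1 from (zpow_natCast c2 3).trans h2, one_zpow, one_zpow, one_mul, one_mul]
  · rintro ⟨a, b, rfl⟩
    exact mul_mem (Subgroup.mem_sup_left (pow_mem (Subgroup.mem_zpowers _) _))
      (Subgroup.mem_sup_right (pow_mem (Subgroup.mem_zpowers _) _))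

theorem card_nine : Nat.card nineG = 9 := by
  let f : Fin 3 × Fin 3 → nineG := fun p => ⟨c1 ^ p.1.val * c2 ^ p.2.val, mem_nine.2 ⟨p.1, p.2, rfl⟩⟩
  have hf : Function.Bijective f := by
    refine ⟨fun p q h => ?_, fun x => ?_⟩
    · obtain ⟨h1, h2⟩ := nine_facts.2.2.2.2.2.1 p.1 p.2 q.1 q.2 (congrArg Subtype.val h)
      exact Prod.ext h1 h2
    · obtain ⟨a, b, e⟩ := mem_nine.1 x.2
      exact ⟨(a, b), Subtype.ext e.symm⟩
  rw [← Nat.card_congr (Equiv.ofBijective f hf), Nat.card_prod, Nat.card_fin]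

theorem sylow_conj {P : Subgroup (Perm (Fin 8))} (hP : Nat.card P = 9) {R : Subgroup (Perm (Fin 8))}
    (hR : Nat.card R = 9) : ∃ k : Perm (Fin 8), P.map (MulAut.conj k).toMonoidHom = R := by
  haveI : Fact (Nat.Prime 3) := ⟨Nat.prime_three⟩
  have hm : (Nat.card (Perm (Fin 8))).factorization 3 = 2 := by
    rw [Nat.card_perm, Nat.card_fin, show Nat.factorial 8 = 3 ^ 2 * 4480 from rfl, Nat.factorization_mul (by norm_num) (by norm_num),
      Finsupp.add_apply, Nat.Prime.factorization_pow Nat.prime_three, Finsupp.single_eq_same,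
      Nat.factorization_eq_zero_of_not_dvd (by norm_num : ¬ 3 ∣ 4480)]
  obtain ⟨k, hk⟩ := MulAction.exists_smul_eq (Perm (Fin 8)) (Sylow.ofCard P (by rw [hP, hm]; rfl))
    (Sylow.ofCard R (by rw [hR, hm]; rfl))
  exact ⟨k, congrArg Sylow.toSubgroup hk⟩

theorem invol_types {σ : Perm (Fin 8)} (h2 : σ * σ = 1) (hs : sign σ = -1) : IsConj σ tau ∨ IsConj σ tau3 := by
  have h1 : σ ≠ 1 := fun h => by rw [h, map_one] at hs; exact absurd hs (by decide)
  have ho : orderOf σ = 2 := orderOf_eq_prime (by rw [pow_two]; exact h2) h1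
  obtain ⟨k, hk⟩ := cycleType_prime_order (ho.symm ▸ Nat.prime_two)
  rw [ho] at hk
  have hsum := σ.sum_cycleType
  rw [hk, Multiset.sum_replicate, smul_eq_mul] at hsum
  have hle : σ.support.card ≤ 8 := (Finset.card_le_univ _).trans_eq (Fintype.card_fin 8)
  rw [sign_of_cycleType, hk, Multiset.sum_replicate, Multiset.card_replicate, smul_eq_mul] at hs
  have hk' : k = 0 ∨ k = 2 := by
    rcases (show k = 0 ∨ k = 1 ∨ k = 2 ∨ k = 3 by omega) with r | r | r | r
    · exact Or.inl r
    · exact absurd hs (by rw [r]; decide)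
    · exact Or.inr r
    · exact absurd hs (by rw [r]; decide)
  rcases hk' with r | r <;> rw [r] at hk
  · exact Or.inl (isConj_iff_cycleType_eq.2 (hk.trans (by decide +kernel)))
  · exact Or.inr (isConj_iff_cycleType_eq.2 (hk.trans (by decide +kernel)))

theorem odd_cent_two {σ : Perm (Fin 8)} (h2 : σ * σ = 1) (hs : sign σ = -1) :
    ¬ 128 ∣ Nat.card (Subgroup.centralizer ({σ} : Set (Perm (Fin 8)))) := by
  intro h
  rw [nat_card_centralizer] at h
  rcases invol_types h2 hs with r | r <;> rw [isConj_iff_cycleType_eq.1 r] at h <;> revert h <;> decide +kernel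

theorem fixes_three {σ : Perm (Fin 8)} (h2 : σ * σ = 1) (h : σ * c1 * σ⁻¹ = c1⁻¹) : ∃ x, σ x = x := by
  have e : ∀ x, σ (c1 x) = c1⁻¹ (σ x) := fun x => by
    have := congrArg (fun p : Perm (Fin 8) => p (σ x)) h
    simpa using this
  have e0 := e 0
  have e1 := e 1
  have e2 := e 2
  rw [show c1 0 = 1 by decide] at e0
  rw [show c1 1 = 2 by decide] at e1
  rw [show c1 2 = 0 by decide] at e2
  have hin : ∀ y, σ y = σ 0 → y = 0 := fun y hy => σ.injective hy
  generalize hy : σ 0 = y at e0 e2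
  fin_cases y
  · exact ⟨0, hy⟩
  · refine ⟨2, ?_⟩
    rw [e1, e0]; decide
  · refine ⟨1, ?_⟩
    rw [e0]; decide
  all_goals exact absurd (hin 1 (by rw [e0, hy]; decide)) (by decide)

theorem cent_nine {σ : Perm (Fin 8)} (h2 : σ * σ = 1) (hs : sign σ = 1) (h1 : σ * c1 = c1 * σ) (h1' : σ * c2 = c2 * σ) :
    σ = 1 := by
  have e : ∀ x, σ (c1 x) = c1 (σ x) := fun x => congrArg (fun p : Perm (Fin 8) => p x) h1
  have e' : ∀ x, σ (c2 x) = c2 (σ x) := fun x => congrArg (fun p : Perm (Fin 8) => p x) h1'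
  have hinv : ∀ x, σ (σ x) = x := fun x => congrArg (fun p : Perm (Fin 8) => p x) h2
  have h0 : σ 0 = 0 := by
    have a := hinv 0
    have e0 := e 0
    rw [show c1 0 = 1 by decide] at e0
    have e1 := e 1
    rw [show c1 1 = 2 by decide, e0] at e1
    generalize hy : σ 0 = y at a e0 e1
    fin_cases y
    · rfl
    · rw [show c1 (⟨1, by norm_num⟩ : Fin 8) = 2 by decide] at e0
      exact absurd (e0.symm.trans a) (by decide)
    · rw [show c1 (c1 (⟨2, by norm_num⟩ : Fin 8)) = 1 by decide] at e1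
      exact absurd (e1.symm.trans a) (by decide)
    all_goals exact absurd (σ.injective (e0.trans ((show c1 _ = _ by decide : c1 _ = _).trans hy.symm))) (by decide : (1 : Fin 8) ≠ 0)
  have h3 : σ 3 = 3 := by
    have a := hinv 3
    have e0 := e' 3
    rw [show c2 3 = 4 by decide] at e0
    have e1 := e' 4
    rw [show c2 4 = 5 by decide, e0] at e1
    generalize hy : σ 3 = y at a e0 e1
    fin_cases y
    · exact absurd (σ.injective (e0.trans ((show c2 _ = _ by decide : c2 _ = _).trans hy.symm))) (by decide : (4 : Fin 8) ≠ 3)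
    · exact absurd (σ.injective (e0.trans ((show c2 _ = _ by decide : c2 _ = _).trans hy.symm))) (by decide : (4 : Fin 8) ≠ 3)
    · exact absurd (σ.injective (e0.trans ((show c2 _ = _ by decide : c2 _ = _).trans hy.symm))) (by decide : (4 : Fin 8) ≠ 3)
    · rfl
    · rw [show c2 (⟨4, by norm_num⟩ : Fin 8) = 5 by decide] at e0
      exact absurd (e0.symm.trans a) (by decide)
    · rw [show c2 (c2 (⟨5, by norm_num⟩ : Fin 8)) = 4 by decide] at e1
      exact absurd (e1.symm.trans a) (by decide)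
    all_goals exact absurd (σ.injective (e0.trans ((show c2 _ = _ by decide : c2 _ = _).trans hy.symm))) (by decide : (4 : Fin 8) ≠ 3)
  have v1 : σ 1 = 1 := by have := e 0; rwa [h0, show c1 0 = 1 by decide] at this
  have v2 : σ 2 = 2 := by have := e 1; rwa [v1, show c1 1 = 2 by decide] at this
  have v4 : σ 4 = 4 := by have := e' 3; rwa [h3, show c2 3 = 4 by decide] at this
  have v5 : σ 5 = 5 := by have := e' 4; rwa [v4, show c2 4 = 5 by decide] at this
  by_cases h6 : σ 6 = 6
  · have v7 : σ 7 = 7 := by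
      have a := hinv 7
      generalize hy : σ 7 = y at a
      fin_cases y
      all_goals first | rfl | exact absurd (σ.injective (hy.trans (by first | exact h0.symm | exact v1.symm | exact v2.symm | exact h3.symm | exact v4.symm | exact v5.symm | exact h6.symm))) (by decide)
    refine Equiv.ext fun x => ?_
    fin_cases x <;> assumption
  · exfalso
    have h67 : σ 6 = 7 := by
      have a := hinv 6
      generalize hy : σ 6 = y at a h6
      fin_cases y
      all_goals first | rfl | exact absurd rfl h6 | exact absurd (σ.injective (hy.trans (by first | exact h0.symm | exact v1.symm | exact v2.symm | exact h3.symm | exact v4.symm | exact v5.symm))) (by decide)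
    have v7 : σ 7 = 6 := by have := hinv 6; rwa [h67] at this
    have : σ = tau := Equiv.ext fun x => by
      fin_cases x <;> first | exact h0.trans (by decide) | exact v1.trans (by decide) | exact v2.trans (by decide) |
        exact h3.trans (by decide) | exact v4.trans (by decide) | exact v5.trans (by decide) | exact h67.trans (by decide) |
        exact v7.trans (by decide)
    rw [this] at hs
    revert hs
    decide +kernel

theorem swap_fpf {σ : Perm (Fin 8)} (h2 : σ * σ = 1) (hs : sign σ = 1)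
    (h : σ * c1 * σ⁻¹ = c2 ∨ σ * c1 * σ⁻¹ = c2⁻¹) : ∀ x, σ x ≠ x := by
  have h1 : σ ≠ 1 := fun h' => by
    rw [h', one_mul, inv_one, mul_one] at h
    revert h
    decide +kernel
  have ho : orderOf σ = 2 := orderOf_eq_prime (by rw [pow_two]; exact h2) h1
  obtain ⟨d, hd, hdm⟩ : ∃ d, σ * c1 * σ⁻¹ = d ∧ ∀ y : Fin 8, d y ≠ y → y ∈ ([3, 4, 5] : List (Fin 8)) := by
    rcases h with r | r
    · exact ⟨c2, r, by decide⟩
    · exact ⟨c2⁻¹, r, by decide +kernel⟩
  have hmove : ∀ x ∈ ([0, 1, 2] : List (Fin 8)), σ x ∈ ([3, 4, 5] : List (Fin 8)) := by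
    intro x hx
    refine hdm _ fun e => ?_
    have e1 : σ (c1 x) = d (σ x) := by
      have := congrArg (fun p : Perm (Fin 8) => p (σ x)) hd
      simpa using this
    rw [e] at e1
    exact (show ∀ x ∈ ([0, 1, 2] : List (Fin 8)), c1 x ≠ x by decide) x hx (σ.injective e1)
  have hsub : ({0, 1, 2} : Finset (Fin 8)) ∪ ({0, 1, 2} : Finset (Fin 8)).image σ ⊆ σ.support := by
    intro x hx
    rw [mem_support]
    have key : ∀ x ∈ ([0, 1, 2] : List (Fin 8)), σ x ≠ x := fun x hx e =>
      (show ∀ x ∈ ([0, 1, 2] : List (Fin 8)), x ∉ ([3, 4, 5] : List (Fin 8)) by decide) x hx (by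
        have := hmove x hx
        rwa [e] at this)
    rcases Finset.mem_union.1 hx with r | r
    · exact key x (by simpa using r)
    · obtain ⟨y, hy, rfl⟩ := Finset.mem_image.1 r
      exact fun e => key y (by simpa using hy) (σ.injective e)
  have hdis : Disjoint ({0, 1, 2} : Finset (Fin 8)) (({0, 1, 2} : Finset (Fin 8)).image σ) := by
    rw [Finset.disjoint_left]
    intro x hx hx'
    obtain ⟨y, hy, rfl⟩ := Finset.mem_image.1 hx'
    exact (show ∀ x ∈ ([3, 4, 5] : List (Fin 8)), x ∉ ([0, 1, 2] : List (Fin 8)) by decide) _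
      (hmove y (by simpa using hy)) (by simpa using hx)
  have h6 : 6 ≤ σ.support.card := by
    refine le_trans ?_ (Finset.card_le_card hsub)
    rw [Finset.card_union_of_disjoint hdis, Finset.card_image_of_injective _ σ.injective]
    decide
  obtain ⟨k, hk⟩ := cycleType_prime_order (ho.symm ▸ Nat.prime_two)
  rw [ho] at hk
  have hsum := σ.sum_cycleType
  rw [hk, Multiset.sum_replicate, smul_eq_mul] at hsum
  have hle : σ.support.card ≤ 8 := (Finset.card_le_univ _).trans_eq (Fintype.card_fin 8)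
  rw [sign_of_cycleType, hk, Multiset.sum_replicate, Multiset.card_replicate, smul_eq_mul] at hs
  have hk3 : k = 3 := by
    rcases (show k = 2 ∨ k = 3 by omega) with r | r
    · exact absurd hs (by rw [r]; decide)
    · exact r
  intro x
  have hu : σ.support = Finset.univ := Finset.eq_univ_of_card _ (by rw [← hsum, hk3, Fintype.card_fin])
  exact mem_support.1 (hu ▸ Finset.mem_univ x)

theorem three_type : (∀ a b : Fin 3, (c1 ^ a.val * c2 ^ b.val ≠ 1) →
    Nat.card (Subgroup.centralizer ({c1} : Set (Perm (Fin 8)))) = 360 ∧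
      (a ≠ 0 → b ≠ 0 → Nat.card (Subgroup.centralizer ({c1 ^ a.val * c2 ^ b.val} : Set (Perm (Fin 8)))) = 36)) := by
  intro a b _
  refine ⟨?_, fun ha hb => ?_⟩
  · rw [nat_card_centralizer]
    decide +kernel
  · rw [nat_card_centralizer]
    revert a b
    intro a b _ ha hb
    exact (show ∀ a b : Fin 3, a ≠ 0 → b ≠ 0 → (Fintype.card (Fin 8) - (c1 ^ a.val * c2 ^ b.val).cycleType.sum).factorial *
      (c1 ^ a.val * c2 ^ b.val).cycleType.prod *
        ∏ n ∈ (c1 ^ a.val * c2 ^ b.val).cycleType.toFinset, ((c1 ^ a.val * c2 ^ b.val).cycleType.count n).factorial = 36 by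
      decide +kernel) a b ha hb

end Cfsg.Lib.McLLocal
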