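import Cfsg.Agent.LocalThree.McLLocal.Fusion3
import Cfsg.Agent.Components.PComponents
import Cfsg.Agent.S3334
import Cfsg.Agent.S2073

/-!
Identification of the group.
-/

set_option autoImplicit false
set_option linter.unusedSectionVars false
set_option maxRecDepth 100000
set_option synthInstance.maxSize 4096

namespace Cfsg.Lib.McLLocal

open Subgroup
open scoped Pointwise commutatorElement

universe u

variable {G : Type u} [Group G] [Finite G]

theorem six_normal (N : Subgroup (alternatingGroup (Fin 6))) (hN : N.Normal) (h : Odd (Nat.card N)) : N = ⊥ := by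
  haveI := Data.six_simple
  refine (IsSimpleGroup.eq_bot_or_eq_top_of_normal N hN).resolve_right fun e => ?_
  rw [e, Nat.card_congr Subgroup.topEquiv.toEquiv, nat_card_alternatingGroup, Nat.card_fin] at h
  exact absurd h (by decide)

theorem sl5_normal (N : Subgroup SL5) (hN : N.Normal) (h : Odd (Nat.card N)) : N = ⊥ := by
  obtain ⟨π, hπ, hker⟩ := exists_alt_five
  have hd : Nat.card (N.map π) ∣ Nat.card N := Subgroup.card_map_dvd N π
  haveI : IsSimpleGroup (alternatingGroup (Fin 5)) := alternatingGroup.isSimpleGroup (by rw [Nat.card_fin])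
  have hbot : N.map π = ⊥ := by
    rcases IsSimpleGroup.eq_bot_or_eq_top_of_normal (N.map π) (hN.map π hπ) with e | e
    · exact e
    exfalso
    have h60 : Nat.card (N.map π) = 60 := by
      rw [e, Nat.card_congr Subgroup.topEquiv.toEquiv, Inv.card_alt_five]
    rw [h60] at hd
    have h2 : 2 ∣ Nat.card N := (show 2 ∣ 60 by norm_num).trans hd
    exact Nat.not_even_iff_odd.2 h (even_iff_two_dvd.2 h2)
  refine (Subgroup.eq_bot_iff_forall N).2 fun g hg => ?_
  rcases (hker g).1 (mem_bot.1 (hbot ▸ mem_map_of_mem π hg)) with r | r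
  · exact r
  · exfalso
    subst r
    obtain ⟨p1, p2, -⟩ := negOne_facts
    have hne : (⟨negOne, hg⟩ : N) ≠ 1 := fun e => p2 (congrArg Subtype.val e)
    have hsq : (⟨negOne, hg⟩ : N) ^ 2 = 1 := Subtype.ext (by rw [SubgroupClass.coe_pow, pow_two]; exact p1)
    have ho : orderOf (⟨negOne, hg⟩ : N) = 2 := orderOf_eq_prime hsq hne
    have h2 : 2 ∣ Nat.card N := by
      have := orderOf_dvd_natCard (⟨negOne, hg⟩ : N)
      rwa [ho] at this
    exact Nat.not_even_iff_odd.2 h (even_iff_two_dvd.2 h2)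

theorem image_card {H O : Subgroup G} {K : Type*} [Group K] (f : H →* K) :
    Nat.card ((O.subgroupOf H).map f) ∣ Nat.card O :=
  (Subgroup.card_map_dvd (O.subgroupOf H) f).trans (Subgroup.card_dvd_of_injective
    ((H.subtype.comp (O.subgroupOf H).subtype).codRestrict O fun a => mem_subgroupOf.1 a.2)
    fun a b e => Subtype.ext (Subtype.ext (congrArg (fun x : O => (x : G)) e)))

/-- An odd normal subgroup has small Sylow three-subgroup. -/
theorem no_big_odd (D : Data G) (O : Subgroup G) [hO : O.Normal] (hodd : Odd (Nat.card O)) : ¬ 81 ∣ Nat.card O := by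
  intro h81
  haveI := fact_three
  have hmul := Cfsg.Lib.Coprime.card_sup_mul_card_inf (N := O) (H := (D.S : Subgroup G))
    (fun g _ => by rw [normalizer_eq_top]; exact mem_top g)
  rw [D.card_S] at hmul
  obtain ⟨n, hn⟩ := (D.S.2.to_le (inf_le_right : O ⊓ (D.S : Subgroup G) ≤ D.S)).exists_card_eq
  have hn4 : 81 ≤ Nat.card ↥(O ⊓ (D.S : Subgroup G)) := by
    by_contra hlt
    have hn3 : n ≤ 3 := by
      by_contra hh
      have := Nat.pow_le_pow_right (show 0 < 3 by norm_num) (show 4 ≤ n by omega)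
      omega
    have h10 : 3 ^ 10 ∣ Nat.card ↥(O ⊔ (D.S : Subgroup G)) * 3 ^ n := by
      rw [← hn, hmul, show (3 : ℕ) ^ 10 = 81 * 729 by norm_num]
      exact Nat.mul_dvd_mul h81 dvd_rfl
    have h7 : 3 ^ 7 ∣ Nat.card ↥(O ⊔ (D.S : Subgroup G)) := by
      refine Nat.dvd_of_mul_dvd_mul_right (show 0 < 3 ^ n by positivity) (Dvd.dvd.trans ?_ h10)
      rw [← pow_add]
      exact pow_dvd_pow 3 (by omega)
    have := D.S.pow_dvd_card_of_pow_dvd_card (h7.trans (card_subgroup_dvd_card _))
    rw [D.card_S] at this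
    norm_num at this
  have hM : O ⊓ D.M₀ ≤ D.J := by
    intro x hx
    have hd := image_card (O := O) D.φ
    have hbot := six_normal _ ((hO.subgroupOf _).map D.φ D.φ_surj) (hodd.of_dvd_nat hd)
    exact D.mem_ker.1 (mem_bot.1 (hbot ▸ mem_map_of_mem D.φ (mem_subgroupOf.2 (mem_inf.1 hx).1 : (⟨x, (mem_inf.1 hx).2⟩ : D.M₀) ∈ O.subgroupOf D.M₀)))
  have hOJ : D.J ≤ O := by
    have hle : O ⊓ (D.S : Subgroup G) ≤ D.J := (inf_le_inf_left _ D.S_le_M₀).trans hM
    have := eq_of_le_of_card_ge hle (by rw [D.hJcard]; exact hn4)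
    exact this ▸ inf_le_left
  have hJQ : D.J ≤ D.Q := by
    intro x hx
    have hxL : x ∈ D.L₀ := D.S_le_L₀ (D.hJS hx)
    have hd := image_card (O := O) D.ψ
    have hbot := sl5_normal _ ((hO.subgroupOf _).map D.ψ D.ψ_surj) (hodd.of_dvd_nat hd)
    have hk : (⟨x, hxL⟩ : D.L₀) ∈ D.ψ.ker :=
      mem_bot.1 (hbot ▸ mem_map_of_mem D.ψ (mem_subgroupOf.2 (hOJ hx) : (⟨x, hxL⟩ : D.L₀) ∈ O.subgroupOf D.L₀))
    rw [D.ψ_ker, mem_subgroupOf] at hk
    exact hk
  have hW : D.W = D.J := inf_eq_left.2 hJQ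
  have := D.sup_eq.2
  rw [hW, D.hJcard] at this
  omega

theorem div_eighty_one {g o : ℕ} (h729 : 729 ∣ g) (h : g ∣ 40320 * o) : 81 ∣ o := by
  have h1 : 729 ∣ 40320 * o := h729.trans h
  have h2 : 81 ∣ 4480 * o := Nat.dvd_of_mul_dvd_mul_left (show 0 < 9 by norm_num)
    (by rw [← mul_assoc]; exact h1)
  exact (show Nat.Coprime 81 4480 by norm_num).dvd_of_dvd_mul_left h2

theorem sup_dvd {A N : Subgroup G} [N.Normal] (h : A ⊔ N = ⊤) : Nat.card G ∣ Nat.card A * Nat.card N := by
  have hm := Cfsg.Lib.Coprime.card_sup_mul_card_inf (N := N) (H := A)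
    (fun g _ => by rw [normalizer_eq_top]; exact mem_top g)
  rw [sup_comm, h, Nat.card_congr Subgroup.topEquiv.toEquiv] at hm
  exact Dvd.intro _ (hm.trans (mul_comm _ _))

theorem data_card (D : Data G) : 729 ∣ Nat.card G := D.card_S ▸ card_subgroup_dvd_card _

theorem case_A {I : Inv G} (hP : I.toTop.toFrame.PointCond) (hA : I.CaseA) : Nonempty (G ≃* Cfsg.Spor.McL) := by
  obtain ⟨X, hX, ht, -, hc, h⟩ := I.exists_part hP
  rcases h with ⟨-, rfl⟩ | ⟨hn, -⟩
  swap
  · exact absurd hA hn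
  have hto : orderOf I.t = 2 := orderOf_eq_prime (by rw [pow_two, I.ht]) I.toTop.ht1
  rcases Cfsg.Agent.S3334.result I.t hto hc with h | h
  swap
  · exact h
  exfalso
  have hc' := (cover_facts hc (z := ⟨I.t, I.t_mem_H⟩) (fun e => I.toTop.ht1 (congrArg Subtype.val e))
    (fun a => Subtype.ext (I.comm_H a.2).eq)).1
  have hd := sup_dvd (A := I.toTop.H) (N := Cfsg.oddCore G) h
  rw [hc'] at hd
  refine no_big_odd I.toData (Cfsg.oddCore G) ?_ (div_eighty_one (data_card I.toData) hd)
  exact Nat.Coprime.odd_of_right (Cfsg.Lib.Components.coprime_card_pPrimeCore (G := G) 2)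

theorem case_B (T : Sym G) : Nonempty (G ≃* MulAut Cfsg.Spor.McL) := by
  obtain ⟨G0, hn, hidx, hXe⟩ := T.exists_index_two
  haveI := hn
  have ht0 : T.t ∈ G0 := (hXe.le T.t_X).2
  obtain ⟨t0, ht0d⟩ : ∃ t0 : G0, t0 = ⟨T.t, ht0⟩ := ⟨_, rfl⟩
  have hto : orderOf t0 = 2 := by
    rw [ht0d, Subgroup.orderOf_mk]
    exact orderOf_eq_prime (by rw [pow_two, T.ht]) T.toTop.ht1
  let e : (centralizer ({t0} : Set G0)) ≃* T.X :=
    { toFun := fun c => ⟨((c : G0) : G), hXe.ge (mem_inf.2 ⟨T.toInv.mem_H (by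
        subst ht0d
        exact congrArg Subtype.val (mem_centralizer_singleton_iff.1 c.2)), (c : G0).2⟩)⟩
      invFun := fun x => ⟨⟨x, (hXe.le x.2).2⟩, mem_centralizer_singleton_iff.2 (by
        subst ht0d
        exact Subtype.ext (T.toInv.comm_H (T.X_le x.2)).eq)⟩
      left_inv := fun _ => rfl
      right_inv := fun _ => rfl
      map_mul' := fun _ _ => rfl }
  have hcov := Cfsg.Lib.McLModel.Inv.double_cover_congr e T.cover
  have hGcard : Nat.card G = 2 * Nat.card G0 := by
    have h := G0.card_mul_index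
    rw [hidx] at h
    rw [← h, mul_comm]
  rcases Cfsg.Agent.S3334.result t0 hto hcov with h | hem
  · exfalso
    have hd := sup_dvd (A := centralizer ({t0} : Set G0)) (N := Cfsg.oddCore G0) h
    rw [Nat.card_congr e.toEquiv, T.card_X] at hd
    have h729 : 729 ∣ Nat.card G0 := by
      have h := data_card T.toData
      rw [hGcard] at h
      exact (show Nat.Coprime 729 2 by norm_num).dvd_of_dvd_mul_left h
    refine no_big_odd T.toData ((Cfsg.oddCore G0).map G0.subtype) ?_ ?_
    · rw [← Nat.card_congr (Subgroup.equivMapOfInjective _ _ G0.subtype_injective).toEquiv]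
      exact Nat.Coprime.odd_of_right (Cfsg.Lib.Components.coprime_card_pPrimeCore (G := G0) 2)
    · rw [← Nat.card_congr (Subgroup.equivMapOfInjective _ _ G0.subtype_injective).toEquiv]
      exact div_eighty_one h729 hd
  obtain ⟨em⟩ := hem
  obtain ⟨em'⟩ := Cfsg.Lib.McLModel.exists_equiv
  haveI := Cfsg.Lib.McLRecog.model_simple
  haveI : IsSimpleGroup G0 := (em.trans em').isSimpleGroup
  have hcenter : center G0 = ⊥ := by
    refine (IsSimpleGroup.eq_bot_or_eq_top_of_normal (center G0) inferInstance).resolve_right fun h => ?_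
    have htc : t0 ∈ center G0 := h ▸ mem_top t0
    have hall : (centralizer ({t0} : Set G0)) = ⊤ := eq_top_iff.2 fun a _ =>
      mem_centralizer_singleton_iff.2 (mem_center_iff.1 htc a)
    have hc : Nat.card G0 = 40320 := by
      rw [← T.card_X, ← Nat.card_congr e.toEquiv, hall, Nat.card_congr Subgroup.topEquiv.toEquiv]
    have h := data_card T.toData
    rw [hGcard, hc] at h
    norm_num at h
  have hcent : ∀ c : G, (∀ x ∈ G0, Commute c x) → c = 1 := by
    intro c hc
    have hin : ∀ a : G, a ∈ G0 → (∀ x ∈ G0, Commute a x) → a = 1 := fun a ha h => by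
      have : (⟨a, ha⟩ : G0) ∈ center G0 := mem_center_iff.2 fun x => Subtype.ext (h x x.2).eq.symm
      rw [hcenter, mem_bot] at this
      exact congrArg Subtype.val this
    have hcH : c ∈ T.toTop.H := T.toInv.mem_H (hc _ ht0)
    have hc2 : c * c = 1 := hin _ (by
      have := Subgroup.sq_mem_of_index_two hidx c
      rwa [pow_two] at this) fun x hx => (hc x hx).mul_left (hc x hx)
    rcases Int.units_eq_one_or (Equiv.Perm.sign (T.ρ ⟨c, hcH⟩)) with hs | hs
    · exact hin c (hXe.le ((T.X_iff ⟨c, hcH⟩).2 hs)).2 hc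
    exfalso
    obtain ⟨σ, hσ⟩ : ∃ σ, σ = T.ρ ⟨c, hcH⟩ := ⟨_, rfl⟩
    refine odd_cent_two (σ := σ) (hσ ▸ T.rho_sq hcH (Or.inl hc2)) (hσ ▸ hs) ?_
    have htop : centralizer ({σ} : Set (Equiv.Perm (Fin 8))) = ⊤ := by
      refine eq_top_iff.2 fun a _ => mem_centralizer_singleton_iff.2 ?_
      have heven : ∀ b, Equiv.Perm.sign b = 1 → Commute b σ := by
        intro b hb
        obtain ⟨h, rfl⟩ := T.ρ_surj b
        have hhX := (T.X_iff h).2 hb
        rw [hσ]
        show T.ρ h * T.ρ _ = T.ρ _ * T.ρ h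
        rw [← map_mul, ← map_mul]
        exact congrArg T.ρ (Subtype.ext (hc _ (hXe.le hhX).2).eq.symm)
      rcases Int.units_eq_one_or (Equiv.Perm.sign a) with ha | ha
      · exact heven a ha
      · have h := heven (a * σ) (by subst hσ; rw [map_mul, ha, hs]; decide)
        have h' := h.eq
        rw [← mul_assoc] at h'
        exact mul_right_cancel h'
    rw [htop, Nat.card_congr Subgroup.topEquiv.toEquiv, Nat.card_perm, Nat.card_fin]
    decide
  obtain ⟨ψ, hψ⟩ : ∃ ψ : G →* MulAut Cfsg.Spor.McL,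
      ψ = (MulAut.congr em).toMonoidHom.comp (MulAut.conjNormal (H := G0)) := ⟨_, rfl⟩
  have hinj : Function.Injective ψ := by
    rw [injective_iff_map_eq_one]
    intro c hc
    refine hcent c fun x hx => ?_
    have h1 : MulAut.conjNormal (H := G0) c = 1 := (MulAut.congr em).map_eq_one_iff.1 (by rw [← hc, hψ]; rfl)
    have h2 : c * x * c⁻¹ = x := by
      have := congrArg (fun f : MulAut G0 => ((f ⟨x, hx⟩ : G0) : G)) h1
      simpa using this
    exact mul_inv_eq_iff_eq_mul.1 h2
  have hsize : Nat.card (MulAut Cfsg.Spor.McL) = Nat.card G := by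
    have hout := Cfsg.Agent.S2073.result
    rw [Subgroup.card_eq_card_quotient_mul_card_subgroup (Cfsg.Inn ↥Cfsg.Spor.McL), hout, hGcard,
      Nat.card_congr em.toEquiv]
    refine congrArg (2 * ·) ?_
    haveI : IsSimpleGroup ↥Cfsg.Spor.McL := em'.isSimpleGroup
    refine (Nat.card_congr (MonoidHom.ofInjective (f := (MulAut.conj : ↥Cfsg.Spor.McL →* _)) ?_).toEquiv).symm
    rw [injective_iff_map_eq_one]
    intro a ha
    have hac : a ∈ center ↥Cfsg.Spor.McL := mem_center_iff.2 fun b => by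
      have := DFunLike.congr_fun ha b
      simp only [MulAut.conj_apply, MulAut.one_apply] at this
      exact (mul_inv_eq_iff_eq_mul.1 this).symm
    have hmap : em.symm a ∈ center G0 := mem_center_iff.2 fun b => em.injective (by
      rw [map_mul, map_mul, em.apply_symm_apply]; exact mem_center_iff.1 hac _)
    rw [hcenter, mem_bot] at hmap
    exact em.symm.map_eq_one_iff.1 hmap
  haveI : Finite (MulAut Cfsg.Spor.McL) := Nat.finite_of_card_ne_zero (by rw [hsize]; exact Nat.card_pos.ne')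
  exact ⟨MulEquiv.ofBijective ψ ((Nat.bijective_iff_injective_and_card ψ).2 ⟨hinj, hsize.symm⟩)⟩

/-- The identification from the frame and the condition on nonsingular points. -/
theorem identify (F : Frame G) (hP : F.PointCond) :
    Nonempty (G ≃* Cfsg.Spor.McL) ∨ Nonempty (G ≃* MulAut Cfsg.Spor.McL) := by
  obtain ⟨t, ht, ht2, ht1, hta⟩ := F.exists_invol
  let T0 : Top G := ⟨F, t, ht2, ht1, ht, hta⟩
  obtain ⟨y, hy, k, hk, hF, hsq, hw⟩ := T0.exists_inv
  let I : Inv G := ⟨T0, y, k, hy, hk, hF, hsq, hw⟩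
  have hPI : I.toTop.toFrame.PointCond := hP
  by_cases hA : I.CaseA
  · exact Or.inl (case_A hPI hA)
  · obtain ⟨T, -⟩ := exists_Sym hPI hA
    exact Or.inr (case_B T)

end Cfsg.Lib.McLLocal
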