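import Cfsg.Agent.LocalThree.McLLocal.SLAutData

/-!
Automorphisms of the special linear group of degree two over five elements fixing a transvection.
-/

set_option autoImplicit false
set_option maxRecDepth 100000
set_option synthInstance.maxSize 4096

namespace Cfsg.Lib.McLLocal

open Subgroup

theorem en_five (x : SL5) : en (x ^ 5) = q5 (en x) := by
  rw [show x ^ 5 = x * (x * (x * (x * x))) by simp [pow_succ, mul_assoc], en_mul, en_mul, en_mul, en_mul]
  rfl

theorem en_uT_pow (n : ℕ) : en (uT ^ n) = (1, (n : ZMod 5), 0, 1) := by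
  induction n with
  | zero => simpa using en_one
  | succ n ih =>
    rw [pow_succ, en_mul, ih, uT, en_mkq]
    simp [qm, add_comm]

theorem en_vT_pow (n : ℕ) : en (vT ^ n) = (1, 0, (n : ZMod 5), 1) := by
  induction n with
  | zero => simpa using en_one
  | succ n ih =>
    rw [pow_succ, en_mul, ih, vT, en_mkq]
    simp [qm]

theorem en_uT : en uT = (1, 1, 0, 1) := en_mkq _ _

theorem en_vT : en vT = (1, 0, 1, 1) := en_mkq _ _

theorem transvections_generate : Subgroup.closure ({uT, vT} : Set SL5) = ⊤ := by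
  refine eq_top_iff.2 fun g _ => ?_
  obtain ⟨i, j, k, l, e⟩ := q_word _ _ _ _ (en_det g)
  have hu : uT ∈ Subgroup.closure ({uT, vT} : Set SL5) := subset_closure (Or.inl rfl)
  have hv : vT ∈ Subgroup.closure ({uT, vT} : Set SL5) := subset_closure (Or.inr rfl)
  have hg : g = uT ^ i.val * (vT ^ j.val * (uT ^ k.val * vT ^ l.val)) := en_inj (by
    rw [en_mul, en_mul, en_mul, en_uT_pow, en_uT_pow, en_vT_pow, en_vT_pow, ZMod.natCast_zmod_val, ZMod.natCast_zmod_val,
      ZMod.natCast_zmod_val, ZMod.natCast_zmod_val]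
    exact e.symm)
  rw [hg]
  exact mul_mem (pow_mem hu _) (mul_mem (pow_mem hv _) (mul_mem (pow_mem hu _) (pow_mem hv _)))

theorem three_elements_generate : Subgroup.closure {x : SL5 | x * (x * x) = 1} = ⊤ := by
  obtain ⟨-, -, ⟨a, b, c, d, a', b', c', d', h, h', e, e', he⟩, a₂, b₂, c₂, d₂, a₃, b₃, c₃, d₃, g, g', f, f', hf⟩ := q_facts
  have key : ∀ (q : Quad5) (hq : qd q = 1), qm q (qm q q) = (1, 0, 0, 1) → mkq q hq ∈ Subgroup.closure {x : SL5 | x * (x * x) = 1} :=
    fun q hq hq3 => subset_closure (en_inj (by rw [en_mul, en_mul, en_mkq, en_one]; exact hq3))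
  rw [eq_top_iff, ← transvections_generate, closure_le]
  intro x hx
  rcases hx with hx | hx
  · rw [hx, SetLike.mem_coe, show uT = (mkq _ h * mkq _ h') ^ 5 * (mkq _ h * mkq _ h') from en_inj (by
      rw [en_mul, en_five, en_mul, en_mkq, en_mkq, en_uT, he]; decide +kernel)]
    exact mul_mem (pow_mem (mul_mem (key _ h e) (key _ h' e')) 5) (mul_mem (key _ h e) (key _ h' e'))
  · rw [Set.mem_singleton_iff.1 hx, SetLike.mem_coe,
      show vT = (mkq _ g * mkq _ g') ^ 5 * (mkq _ g * mkq _ g') from en_inj (by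
        rw [en_mul, en_five, en_mul, en_mkq, en_mkq, en_vT, hf]; decide +kernel)]
    exact mul_mem (pow_mem (mul_mem (key _ g f) (key _ g' f')) 5) (mul_mem (key _ g f) (key _ g' f'))

/-- A central element squares to one. -/
theorem central_sq (z : SL5) (hu : z * uT = uT * z) (hv : z * vT = vT * z) : z * z = 1 := by
  refine en_inj ?_
  have h1 := congrArg en hu
  have h2 := congrArg en hv
  rw [en_mul, en_mul, en_uT] at h1
  rw [en_mul, en_mul, en_vT] at h2
  rw [en_mul, en_one]
  exact q_facts.2.1 _ _ _ _ (en_det z) h1 h2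

/-- An automorphism of order prime to five fixing a transvection is trivial. -/
theorem aut_eq_one (α : MulAut SL5) (n : ℕ) (hn : ¬ 5 ∣ n) (hα : α ^ n = 1) (hu : α uT = uT) : α = 1 := by
  obtain ⟨i, hi⟩ : ∃ i : ZMod 5, α vT = uT ^ i.val * vT * (uT ^ i.val)⁻¹ := by
    have h5 : (α vT) ^ 5 = 1 := by
      rw [← map_pow, show vT ^ 5 = 1 from en_inj (by rw [en_vT_pow, en_one]; decide), map_one]
    have hfix : α ((uT * vT) ^ 5) = (uT * α vT) ^ 5 := by rw [map_pow, map_mul, hu]
    have h10 : (uT * α vT) ^ 5 * (uT * α vT) ^ 5 = 1 := by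
      rw [← hfix, ← map_mul, show (uT * vT) ^ 5 * (uT * vT) ^ 5 = 1 from en_inj (by
        rw [en_mul, en_five, en_mul, en_uT, en_vT, en_one]; decide +kernel), map_one]
    have hne : (uT * α vT) ^ 5 ≠ 1 := by
      rw [← hfix]
      intro h
      have h' := congrArg en (α.map_eq_one_iff.1 h)
      rw [en_five, en_mul, en_uT, en_vT, en_one] at h'
      revert h'
      decide +kernel
    obtain ⟨i, hi⟩ := q_candidates _ _ _ _ (en_det (α vT)) (by
      show q5 (en (α vT)) = _
      rw [← en_five, h5, en_one]) (by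
      show qm (q5 (qm _ (en (α vT)))) (q5 (qm _ (en (α vT)))) = _
      rw [← en_uT, ← en_mul, ← en_five, ← en_mul, h10, en_one]) (fun h => hne (en_inj (by
      rw [en_five, en_mul, en_one, en_uT]; exact h)))
    refine ⟨i, eq_mul_inv_iff_mul_eq.2 (en_inj ?_)⟩
    rw [en_mul, en_mul, en_uT_pow, en_vT, ZMod.natCast_zmod_val]
    exact hi.symm
  have hiter : ∀ m : ℕ, (α ^ m) vT = uT ^ (i.val * m) * vT * (uT ^ (i.val * m))⁻¹ := by
    intro m
    induction m with
    | zero => simp
    | succ m ih =>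
      rw [pow_succ', MulAut.mul_apply, ih, map_mul, map_mul, map_inv, map_pow, hu, hi,
        show i.val * (m + 1) = i.val * m + i.val by ring, pow_add]
      group
  have hcomm : uT ^ (i.val * n) * vT = vT * uT ^ (i.val * n) := by
    have h := hiter n
    rw [hα, MulAut.one_apply] at h
    exact eq_mul_inv_iff_mul_eq.1 h ▸ rfl
  have h0 : ((i.val * n : ℕ) : ZMod 5) = 0 := q_facts.1 _ (by
    have h := congrArg en hcomm
    rwa [en_mul, en_mul, en_uT_pow, en_vT] at h)
  have hi0 : i.val = 0 := by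
    rw [ZMod.natCast_eq_zero_iff] at h0
    rcases (Nat.Prime.dvd_mul (by norm_num : Nat.Prime 5)).1 h0 with h | h
    · exact Nat.eq_zero_of_dvd_of_lt h (ZMod.val_lt i)
    · exact absurd h hn
  have hv : α vT = vT := by simp [hi, hi0]
  refine MulEquiv.ext fun g => ?_
  have hle : Subgroup.closure ({uT, vT} : Set SL5) ≤ (α.toMonoidHom).eqLocus (MonoidHom.id SL5) := by
    rw [closure_le]
    rintro x (rfl | rfl)
    · exact hu
    · exact hv
  exact hle (transvections_generate ▸ mem_top g)

/-- A group acting faithfully on the linear group modulo its centre has Sylow three-subgroups of order at most three. -/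
theorem not_nine_dvd {A : Type*} [Group A] [Finite A] (F : Subgroup A) [F.Normal] (e : F ≃* SL5)
    (hC : centralizer (F : Set A) ≤ F) : ¬ 9 ∣ Nat.card A := by
  intro h9
  haveI : Fact (Nat.Prime 3) := ⟨by norm_num⟩
  obtain ⟨P, hP⟩ := Sylow.exists_subgroup_card_pow_prime (G := A) 3 (n := 2) (by norm_num; exact h9)
  obtain ⟨φ, hφ⟩ : ∃ φ : A →* MulAut SL5, φ = (MulAut.congr e).toMonoidHom.comp (MulAut.conjNormal (H := F)) := ⟨_, rfl⟩
  have hφa : ∀ (a : A) (y : SL5), φ a y = e (MulAut.conjNormal a (e.symm y)) := fun a y => by subst hφ; rfl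
  have hker : ∀ a : A, φ a = 1 → a ∈ centralizer (F : Set A) := fun a ha => mem_centralizer_iff.2 fun x hx => by
    have h1 := (hφa a (e ⟨x, hx⟩)).symm
    rw [ha, MulAut.one_apply, e.symm_apply_apply] at h1
    have h2 := congrArg (Subtype.val) (e.injective h1)
    rw [MulAut.conjNormal_apply] at h2
    exact (mul_inv_eq_iff_eq_mul.1 h2).symm
  have hfree : ∀ x ∈ P, ∀ y : SL5, y ^ 5 = 1 → y ≠ 1 → φ x y = y → x = 1 := by
    intro x hx y hy hy1 hfix
    have hx9 : x ^ 9 = 1 := by
      have := pow_card_eq_one' (x := (⟨x, hx⟩ : P))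
      rw [hP] at this
      simpa using congrArg Subtype.val this
    obtain ⟨g, m, hm, hgm⟩ : ∃ (g : SL5) (m : ℕ), (m = 1 ∨ m = 2) ∧ g * uT ^ m * g⁻¹ = y := by
      obtain ⟨a, b, c, d, hd, e'⟩ := q_five_conj _ _ _ _ (en_det y) (by
        show q5 (en y) = _
        rw [← en_five, hy, en_one]) (fun h => hy1 (en_inj (h.trans en_one.symm)))
      rcases e' with e' | e'
      · refine ⟨mkq _ hd, 1, Or.inl rfl, mul_inv_eq_iff_eq_mul.2 (en_inj ?_)⟩
        rw [en_mul, en_mul, en_uT_pow, en_mkq, Nat.cast_one]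
        exact e'
      · refine ⟨mkq _ hd, 2, Or.inr rfl, mul_inv_eq_iff_eq_mul.2 (en_inj ?_)⟩
        rw [en_mul, en_mul, en_uT_pow, en_mkq, Nat.cast_ofNat]
        exact e'
    obtain ⟨c, hc⟩ : ∃ c : A, c = ((e.symm g : F) : A) := ⟨_, rfl⟩
    have hφc : ∀ z, φ c z = g * z * g⁻¹ := fun z => by
      rw [hφa, show MulAut.conjNormal c (e.symm z) = e.symm g * e.symm z * (e.symm g)⁻¹ from
        Subtype.ext (by rw [MulAut.conjNormal_apply, hc]; rfl)]
      simp
    obtain ⟨x', hx'⟩ : ∃ x' : A, x' = c⁻¹ * x * c := ⟨_, rfl⟩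
    have hxu : φ x' uT = uT := by
      have hm' : φ x' (uT ^ m) = uT ^ m := by
        have h1 : φ x (φ c (uT ^ m)) = φ c (uT ^ m) := by rw [hφc, hgm, hfix]
        rw [hx', map_mul, map_mul, MulAut.mul_apply, MulAut.mul_apply, h1, map_inv]
        exact MulEquiv.symm_apply_apply _ _
      rcases hm with rfl | rfl
      · simpa using hm'
      · have h := congrArg (· ^ 3) hm'
        simp only [← map_pow, ← pow_mul] at h
        rwa [show uT ^ (2 * 3) = uT from en_inj (by rw [en_uT_pow, en_uT]; decide)] at h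
    have hx'9 : x' ^ 9 = 1 := by
      rw [hx', show c⁻¹ * x * c = c⁻¹ * x * c⁻¹⁻¹ by rw [inv_inv], conj_pow, hx9, mul_one, mul_inv_cancel]
    have h1 : φ x' = 1 := aut_eq_one _ 9 (by norm_num) (by rw [← map_pow, hx'9, map_one]) hxu
    have hcent := hker _ h1
    obtain ⟨w, hw⟩ : ∃ w : F, w = ⟨x', hC hcent⟩ := ⟨_, rfl⟩
    have hwc : ∀ z : SL5, e w * z = z * e w := fun z => by
      have h := mem_centralizer_iff.1 hcent _ (e.symm z).2
      have h2 : w * e.symm z = e.symm z * w := Subtype.ext (by rw [hw]; exact h.symm)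
      have h3 := congrArg e h2
      simpa using h3
    have hw2 : w * w = 1 := e.injective (by rw [map_mul, map_one]; exact central_sq _ (hwc _) (hwc _))
    have hw2' : x' * x' = 1 := by simpa [hw] using congrArg Subtype.val hw2
    have hone : x' = 1 := by
      have := hx'9
      rw [show (9 : ℕ) = 2 * 4 + 1 by rfl, pow_succ, pow_mul, pow_two, hw2', one_pow, one_mul] at this
      exact this
    rw [hx'] at hone
    have : x = c * (c⁻¹ * x * c) * c⁻¹ := by group
    rw [hone, mul_one, mul_inv_cancel] at this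
    exact this
  let Ω := {y : SL5 // y ^ 5 = 1 ∧ y ≠ 1}
  letI : MulAction P Ω :=
    { smul := fun x y => ⟨φ (x : A) y.1, by rw [← map_pow, y.2.1, map_one], fun h =>
        y.2.2 ((φ (x : A)).map_eq_one_iff.1 h)⟩
      one_smul := fun y => Subtype.ext (by
        show φ ((1 : P) : A) y.1 = y.1
        rw [OneMemClass.coe_one, map_one, MulAut.one_apply])
      mul_smul := fun x z y => Subtype.ext (by
        show φ ((x * z : P) : A) y.1 = φ (x : A) (φ (z : A) y.1)
        rw [Subgroup.coe_mul, map_mul, MulAut.mul_apply]) }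
  have hst : ∀ y : Ω, MulAction.stabilizer P y = ⊥ := fun y => eq_bot_iff.2 fun x hx => by
    refine mem_bot.2 (Subtype.ext ?_)
    exact hfree _ x.2 y.1 y.2.1 y.2.2 (congrArg Subtype.val hx)
  have h24 : Nat.card Ω = 24 := by
    rw [← q_count]
    refine Eq.trans (Nat.card_congr ?_) (Nat.card_eq_finsetCard _)
    refine
      { toFun := fun y => ⟨en y.1, Finset.mem_filter.2 ⟨Finset.mem_univ _, en_det _,
          by rw [← en_five, y.2.1, en_one], fun h => y.2.2 (en_inj (h.trans en_one.symm))⟩⟩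
        invFun := fun q => ⟨mkq q.1 (Finset.mem_filter.1 q.2).2.1, en_inj (by
          rw [en_five, en_mkq, en_one]; exact (Finset.mem_filter.1 q.2).2.2.1), fun h =>
          (Finset.mem_filter.1 q.2).2.2.2 (by rw [← en_mkq q.1 (Finset.mem_filter.1 q.2).2.1, h, en_one])⟩
        left_inv := fun y => Subtype.ext (en_inj (en_mkq (en y.1) (en_det y.1)))
        right_inv := fun q => Subtype.ext (en_mkq q.1 (Finset.mem_filter.1 q.2).2.1) }
  haveI : Fintype (Quotient (MulAction.orbitRel P Ω)) := Fintype.ofFinite _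
  have hdvd : Nat.card P ∣ Nat.card Ω := by
    rw [Nat.card_congr (MulAction.selfEquivSigmaOrbitsQuotientStabilizer P Ω), Nat.card_sigma]
    refine Finset.dvd_sum fun o _ => ?_
    rw [hst, ← Subgroup.index_eq_card, Subgroup.index_bot]
  rw [hP, h24] at hdvd
  norm_num at hdvd

end Cfsg.Lib.McLLocal
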