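import Cfsg.Agent.LocalThree.McLLocal.WeakMain
import Cfsg.Agent.LocalThree.McLLocal.SLAut
import Cfsg.Agent.SolvStruct.PElementCount.Main

/-!
The three-local data of the McLaughlin group from the generalized Fitting subgroups of the local subgroups.
-/

set_option autoImplicit false
set_option linter.unusedSectionVars false

namespace Cfsg.Lib.McLLocal

open Subgroup

universe u

variable {G : Type u} [Group G] [Finite G]

/-- Extraspecial groups are preserved by isomorphisms. -/
theorem isExtraspecial_congr {p : ℕ} {A B : Type*} [Group A] [Group B] (f : A ≃* B) (h : Cfsg.IsExtraspecial p A) :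
    Cfsg.IsExtraspecial p B := by
  obtain ⟨⟨hp, hf, hd⟩, hc⟩ := h
  have hcen : (center A).map f.toMonoidHom = center B := by
    ext x
    obtain ⟨a, rfl⟩ := f.surjective x
    rw [show (f a ∈ (center A).map f.toMonoidHom) ↔ a ∈ center A from
      Subgroup.mem_map_iff_mem (f := f.toMonoidHom) f.injective, mem_center_iff, mem_center_iff]
    refine ⟨fun h y => ?_, fun h y => f.injective ?_⟩
    · obtain ⟨b, rfl⟩ := f.surjective y
      rw [← map_mul, ← map_mul, h b]
    · rw [map_mul, map_mul, h (f y)]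
  have hder : (_root_.commutator A).map f.toMonoidHom = _root_.commutator B := by
    rw [_root_.commutator_def, _root_.commutator_def, Subgroup.map_commutator,
      Subgroup.map_top_of_surjective f.toMonoidHom f.surjective]
  have hfr : (frattini A).map f.toMonoidHom = frattini B := by
    refine le_antisymm (Subgroup.map_le_iff_le_comap.2 (frattini_le_comap_frattini_of_surjective f.surjective)) ?_
    have h := frattini_le_comap_frattini_of_surjective (φ := f.symm.toMonoidHom) f.symm.surjective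
    intro x hx
    exact ⟨f.symm x, h hx, f.apply_symm_apply x⟩
  refine ⟨⟨hp.of_equiv f, by rw [← hfr, hf, hcen], by rw [← hder, hd, hcen]⟩, ?_⟩
  rw [← hcen, ← hc]
  exact (Nat.card_congr (f.subgroupMap (center A)).toEquiv).symm

/-- A three-element inverting an element of order three fixes it. -/
theorem three_fix {z g : G} (hz : z ^ 3 = 1) {k : ℕ} (hk : g ^ (3 ^ k) = 1)
    (h : g * z * g⁻¹ = z ^ 2) : z = 1 := by
  have key : ∀ n : ℕ, g ^ n * z * (g ^ n)⁻¹ = z ^ (2 ^ n) := by
    intro n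
    induction n with
    | zero => simp
    | succ n ih =>
      rw [pow_succ', show g * g ^ n * z * (g * g ^ n)⁻¹ = g * (g ^ n * z * (g ^ n)⁻¹) * g⁻¹ by group, ih, ← conj_pow, h,
        ← pow_mul, pow_succ, mul_comm]
  have h1 := key (3 ^ k)
  rw [hk, one_mul, inv_one, mul_one, pow_eq_pow_mod _ hz] at h1
  have h2 : 2 ^ (3 ^ k) % 3 = 2 := by
    obtain ⟨m, hm⟩ : Odd (3 ^ k) := (by decide : Odd 3).pow
    rw [hm, pow_succ, pow_mul, Nat.mul_mod, Nat.pow_mod]
    norm_num
  rw [h2, pow_two] at h1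
  exact mul_eq_left.1 h1.symm

/-- Three-elements normalizing a subgroup of order three centralize it. -/
theorem three_mem_cent {Z : Subgroup G} (hZ : Nat.card Z = 3) {g : G} (hg : g ∈ normalizer (Z : Set G)) {k : ℕ}
    (hk : orderOf g = 3 ^ k) : g ∈ centralizer (Z : Set G) := by
  refine mem_centralizer_iff.2 fun z hz => ?_
  have hz3 : ∀ w ∈ Z, w ^ 3 = 1 := fun w hw => by
    have := congrArg Subtype.val (pow_card_eq_one' (x := (⟨w, hw⟩ : Z)))
    simpa [hZ] using this
  haveI := fact_three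
  by_cases hz1 : z = 1
  · rw [hz1, one_mul, mul_one]
  have ho : orderOf z = 3 := orderOf_eq_prime (hz3 z hz) hz1
  have hzp : zpowers z = Z := eq_of_le_of_card_ge (zpowers_le.2 hz) (by rw [Nat.card_zpowers, ho, hZ])
  have hc : g * z * g⁻¹ ∈ zpowers z := hzp.symm ▸ (mem_normalizer_iff.1 hg z).1 hz
  obtain ⟨i, hi, he⟩ : ∃ i, i < 3 ∧ g * z * g⁻¹ = z ^ i := by
    obtain ⟨n, hn⟩ := mem_zpowers_iff.1 hc
    refine ⟨(n % 3).toNat, by omega, ?_⟩
    rw [← hn, ← zpow_natCast, Int.toNat_of_nonneg (Int.emod_nonneg _ (by norm_num)),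
      show (3 : ℤ) = ((orderOf z : ℕ) : ℤ) by rw [ho]; norm_num, zpow_mod_orderOf]
  interval_cases i
  · rw [pow_zero, mul_inv_eq_one, mul_eq_left] at he
    exact absurd he hz1
  · rw [pow_one] at he
    exact (mul_inv_eq_iff_eq_mul.1 he).symm
  · exact absurd (three_fix (hz3 z hz) (hk ▸ pow_orderOf_eq_one g) he) hz1

/-- The image of the subgroup generated by three-elements. -/
theorem map_closure_three {H : Type*} [Group H] [Finite H] (N : Subgroup H) [N.Normal] :
    (closure {x : H | ∃ k : ℕ, orderOf x = 3 ^ k}).map (QuotientGroup.mk' N) =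
      closure {x : H ⧸ N | ∃ k : ℕ, orderOf x = 3 ^ k} := by
  haveI := fact_three
  rw [MonoidHom.map_closure]
  refine congrArg _ (Set.ext fun a => ⟨?_, fun ⟨k, hk⟩ => ?_⟩)
  · rintro ⟨x, ⟨k, hk⟩, rfl⟩
    obtain ⟨i, -, hi⟩ := (Nat.dvd_prime_pow Nat.prime_three).1 (hk ▸ orderOf_map_dvd (QuotientGroup.mk' N) x)
    exact ⟨i, hi⟩
  · obtain ⟨g, hg, hga⟩ := Cfsg.Lib.PElementCount.exists_lift N
      (Cfsg.Lib.PElementCount.isPGroup_zpowers_iff.2 ⟨k, hk⟩)
    exact ⟨g, Cfsg.Lib.PElementCount.isPGroup_zpowers_iff.1 (Cfsg.Lib.PElementCount.mem_El.1 hg), hga⟩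

/-- The subgroup generated by the three-elements of a subgroup. -/
theorem closure_three_map (H : Subgroup G) :
    (closure {x : H | ∃ k : ℕ, orderOf x = 3 ^ k}).map H.subtype =
      closure {g : G | g ∈ H ∧ ∃ k : ℕ, orderOf g = 3 ^ k} := by
  rw [MonoidHom.map_closure]
  refine congrArg _ (Set.ext fun g => ⟨?_, fun ⟨hg, k, hk⟩ => ?_⟩)
  · rintro ⟨x, ⟨k, hk⟩, rfl⟩
    exact ⟨x.2, k, by rw [← hk]; exact orderOf_coe x⟩
  · exact ⟨⟨g, hg⟩, ⟨k, by rw [← hk]; exact (orderOf_coe _).symm⟩, rfl⟩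

/-- A quotient of a subgroup mapped into the group. -/
noncomputable def subQuotEquiv {H : Subgroup G} (K : Subgroup H) (N : Subgroup G) [(N.subgroupOf H).Normal]
    (L : Subgroup G) (hL : L = K.map H.subtype) [(N.subgroupOf L).Normal] :
    ↥L ⧸ N.subgroupOf L ≃* ↥(K.map (QuotientGroup.mk' (N.subgroupOf H))) :=
  let ι : L →* H := inclusion (hL ▸ map_subtype_le K)
  let π : L →* H ⧸ N.subgroupOf H := (QuotientGroup.mk' (N.subgroupOf H)).comp ι
  have hk : N.subgroupOf L = π.ker := by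
    ext x
    simp only [π, ι, MonoidHom.mem_ker, MonoidHom.comp_apply, QuotientGroup.mk'_apply, QuotientGroup.eq_one_iff,
      mem_subgroupOf]
    rfl
  have hr : π.range = K.map (QuotientGroup.mk' (N.subgroupOf H)) := by
    refine le_antisymm ?_ ?_
    · rintro _ ⟨x, rfl⟩
      obtain ⟨y, hy, hyx⟩ := mem_map.1 (hL.le x.2)
      exact ⟨y, hy, congrArg _ (Subtype.ext hyx)⟩
    · rintro _ ⟨y, hy, rfl⟩
      exact ⟨⟨y, hL.ge (mem_map_of_mem _ hy)⟩, congrArg _ (Subtype.ext rfl)⟩
  ((QuotientGroup.quotientMulEquivOfEq hk).trans (QuotientGroup.quotientKerEquivRange π)).trans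
    (MulEquiv.subgroupCongr hr)

end Cfsg.Lib.McLLocal
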