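import Cfsg.Agent.LocalThree.McLLocal.FittingData

/-!
The identification of the McLaughlin group from the generalized Fitting subgroups of two local subgroups.
-/

set_option autoImplicit false
set_option linter.unusedSectionVars false
set_option maxHeartbeats 800000
set_option maxRecDepth 100000

namespace Cfsg.Lib.McLLocal

open Subgroup

universe u

variable {G : Type u} [Group G] [Finite G]

/-- The generalized Fitting subgroup of a non-abelian simple group. -/
theorem genFit_top (hs : IsSimpleGroup G) (hna : ¬ IsMulCommutative G) : Cfsg.generalizedFittingSubgroup G = ⊤ := by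
  haveI : (Cfsg.generalizedFittingSubgroup G).Normal := inferInstance
  refine (IsSimpleGroup.eq_bot_or_eq_top_of_normal _ inferInstance).resolve_left fun h => hna ?_
  refine ⟨⟨fun a b => ?_⟩⟩
  have ha : a ∈ centralizer (Cfsg.generalizedFittingSubgroup G : Set G) := mem_centralizer_iff.2 fun x hx => by
    rw [h] at hx
    rw [mem_bot.1 hx, one_mul, mul_one]
  have ha1 := Cfsg.Lib.Components.centralizer_genFitting_le ha
  rw [h, mem_bot] at ha1
  rw [ha1, one_mul, mul_one]

/-- The generalized Fitting subgroup of the automorphism group of a non-abelian simple group. -/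
theorem genFit_mulAut {T : Type*} [Group T] [Finite T] (hs : IsSimpleGroup T) (hna : ¬ IsMulCommutative T) :
    Nonempty (↥(Cfsg.generalizedFittingSubgroup (MulAut T)) ≃* T) := by
  haveI : Finite (MulAut T) := Finite.of_injective (fun f : MulAut T => (f : T → T)) (fun f g h => MulEquiv.ext (congrFun h))
  obtain ⟨R, hR⟩ : ∃ R, R = (MulAut.conj : T →* MulAut T).range := ⟨_, rfl⟩
  have hinj : Function.Injective (MulAut.conj : T →* MulAut T) := by
    rw [← MonoidHom.ker_eq_bot_iff]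
    refine (IsSimpleGroup.eq_bot_or_eq_top_of_normal _ inferInstance).resolve_right fun h => hna ⟨⟨fun a b => ?_⟩⟩
    have ha : MulAut.conj a = 1 := MonoidHom.mem_ker.1 (h ▸ mem_top a)
    have := DFunLike.congr_fun ha b
    simp only [MulAut.conj_apply, MulAut.one_apply] at this
    exact mul_inv_eq_iff_eq_mul.1 this
  let e : T ≃* R := (MonoidHom.ofInjective hinj).trans (MulEquiv.subgroupCongr hR.symm)
  haveI hn : R.Normal := hR ▸ ⟨fun c ⟨a, ha⟩ f => ⟨f a, by
    subst ha
    refine MulEquiv.ext fun x => ?_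
    simp [MulAut.mul_apply]⟩⟩
  have hcent : centralizer (R : Set (MulAut T)) = ⊥ := eq_bot_iff.2 fun f hf => mem_bot.2 <| MulEquiv.ext fun a => by
    refine hinj ?_
    have h := mem_centralizer_iff.1 hf (MulAut.conj a) (hR.ge ⟨a, rfl⟩)
    refine MulEquiv.ext fun x => ?_
    have h' := DFunLike.congr_fun h (f.symm x)
    simp [MulAut.mul_apply] at h'
    simpa using h'.symm
  haveI hRs : IsSimpleGroup R := e.symm.isSimpleGroup
  have hRna : ¬ IsMulCommutative R := fun h => hna ⟨⟨fun a b => e.injective (by rw [map_mul, map_mul]; exact h.is_comm.comm _ _)⟩⟩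
  have hmin : ∀ N : Subgroup (MulAut T), N.Normal → N ≤ R → N = ⊥ ∨ N = R := fun N hN hle => by
    haveI := hN
    rcases IsSimpleGroup.eq_bot_or_eq_top_of_normal (N.subgroupOf R) inferInstance with h | h
    · exact Or.inl (eq_bot_iff.2 ((subgroupOf_eq_bot.1 h).le_bot.trans' (le_inf le_rfl hle)))
    · exact Or.inr (le_antisymm hle (subgroupOf_eq_top.1 h))
  have hC : ∀ H : Subgroup (MulAut T), ⁅H, R⁆ = ⊥ → H ≤ R := fun H h =>
    (commutator_eq_bot_iff_le_centralizer.1 h).trans (hcent ▸ bot_le)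
  have hle : Cfsg.generalizedFittingSubgroup (MulAut T) ≤ R := by
    refine sup_le (sSup_le fun L hL => ?_) (sSup_le fun N hN => ?_)
    · exact (Cfsg.Lib.Components.comp_le_or_commute hL hn.isSubnormal).elim id (hC L)
    · haveI := hN.1
      rcases hmin (N ⊓ R) inferInstance inf_le_right with h | h
      · exact hC N (le_bot_iff.1 (h ▸ commutator_le_inf N R))
      · exfalso
        have hnil : Group.IsNilpotent R := Cfsg.Lib.Components.isNilpotent_of_le hN.2 (h.ge.trans inf_le_left)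
        haveI : Nontrivial R := hRs.toNontrivial
        refine hRna ⟨⟨fun a b => ?_⟩⟩
        have hc : (center R) = ⊤ :=
          (IsSimpleGroup.eq_bot_or_eq_top_of_normal _ inferInstance).resolve_left (Group.IsNilpotent.center_ne_bot (G := R))
        exact (mem_center_iff.1 (hc ▸ mem_top b : b ∈ center R) a)
  have heq : Cfsg.generalizedFittingSubgroup (MulAut T) = R := by
    refine (hmin _ inferInstance hle).resolve_left fun h => ?_
    have hc := Cfsg.Lib.Components.centralizer_genFitting_le (G := MulAut T)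
    rw [h] at hc
    haveI : Nontrivial R := hRs.toNontrivial
    obtain ⟨r, hr⟩ := exists_ne (1 : R)
    refine hr (Subtype.ext (mem_bot.1 (hc (mem_centralizer_iff.2 fun y hy => ?_))))
    rw [mem_bot.1 hy, one_mul, mul_one]
  exact ⟨(MulEquiv.subgroupCongr heq).trans e.symm⟩

theorem mcl_simple : Nat.card ↥Cfsg.Spor.McL = 898128000 ∧ IsSimpleGroup ↥Cfsg.Spor.McL ∧
    ¬ IsMulCommutative ↥Cfsg.Spor.McL := by
  obtain ⟨em⟩ := Cfsg.Lib.McLModel.exists_equiv
  have hcard : Nat.card ↥Cfsg.Spor.McL = 898128000 := by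
    rw [Nat.card_congr em.toEquiv]
    exact Cfsg.Lib.McLModel.grp_eq.2
  haveI := Cfsg.Lib.McLRecog.model_simple
  haveI hs : IsSimpleGroup ↥Cfsg.Spor.McL := em.isSimpleGroup
  refine ⟨hcard, hs, fun h => ?_⟩
  letI : CommGroup ↥Cfsg.Spor.McL := { mul_comm := h.is_comm.comm }
  have hp := IsSimpleGroup.prime_card (α := ↥Cfsg.Spor.McL)
  rw [hcard] at hp
  revert hp
  norm_num

/-- The identification. -/
theorem main_fitting (Z : Subgroup G) (hZ : Nat.card ↥Z = 3) (S : Sylow 3 ↥(centralizer (Z : Set G))) (J : Subgroup G)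
    (hJS : J ≤ (S : Subgroup ↥(centralizer (Z : Set G))).map (centralizer (Z : Set G)).subtype)
    (hJ : Cfsg.IsElementaryAbelian 3 J) (hJcard : Nat.card ↥J = 3 ^ 4)
    (hQ : Cfsg.IsExtraspecial 3 ↥(Cfsg.generalizedFittingSubgroup ↥(centralizer (Z : Set G))))
    (hQcard : Nat.card ↥(Cfsg.generalizedFittingSubgroup ↥(centralizer (Z : Set G))) = 3 ^ 5)
    [hQn : (Cfsg.generalizedFittingSubgroup ↥(centralizer (Z : Set G))).Normal]
    (hexp : ∀ x ∈ Cfsg.generalizedFittingSubgroup ↥(centralizer (Z : Set G)), x ^ 3 = 1)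
    (hFMQ : Nonempty (↥(Cfsg.generalizedFittingSubgroup (↥(centralizer (Z : Set G)) ⧸
      Cfsg.generalizedFittingSubgroup ↥(centralizer (Z : Set G)))) ≃* Matrix.SpecialLinearGroup (Fin 2) (ZMod 5)))
    [hJn : (J.subgroupOf (normalizer (J : Set G))).Normal]
    (hA6 : Nonempty (↥(closure {x : ↥(normalizer (J : Set G)) ⧸ J.subgroupOf (normalizer (J : Set G)) |
      ∃ k : ℕ, orderOf x = 3 ^ k}) ≃* ↥(alternatingGroup (Fin 6)))) :
    Cfsg.Spor.IsoMcL ↥(Cfsg.generalizedFittingSubgroup G) := by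
  haveI := fact_three
  obtain ⟨eF⟩ := hFMQ
  obtain ⟨e6⟩ := hA6
  obtain ⟨M, hM⟩ : ∃ M, M = centralizer (Z : Set G) := ⟨_, rfl⟩
  set Fm := Cfsg.generalizedFittingSubgroup ↥(centralizer (Z : Set G)) with hFm
  subst hM
  obtain ⟨Q, hQd⟩ : ∃ Q, Q = Fm.map (centralizer (Z : Set G)).subtype := ⟨_, rfl⟩
  have eQ : Fm ≃* Q := (equivMapOfInjective Fm _ (subtype_injective _)).trans (MulEquiv.subgroupCongr hQd.symm)
  have hFp : IsPGroup 3 Fm := IsPGroup.of_card hQcard
  have hFcore : Fm = Cfsg.pCore 3 ↥(centralizer (Z : Set G)) := by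
    refine le_antisymm (Cfsg.Lib.Components.le_pCore hFp) ?_
    exact (Cfsg.Lib.Components.le_fitting ((Cfsg.Lib.Components.isPGroup_pCore 3).isNilpotent)).trans
      Cfsg.Lib.Components.fitting_le_genFitting
  have hQcore : Q = core3 (centralizer (Z : Set G)) := by rw [hQd, hFcore]
  have hZM : Z ≤ centralizer (Z : Set G) := fun z hz => mem_centralizer_iff.2 fun w hw => by
    haveI : IsMulCommutative Z := (isCyclic_of_prime_card hZ).isMulCommutative
    exact congrArg Subtype.val (mul_comm' (⟨w, hw⟩ : Z) ⟨z, hz⟩)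
  have hZQ : Z ≤ Q := fun z hz => hQd.ge ⟨⟨z, hZM hz⟩, Cfsg.Lib.Components.centralizer_genFitting_le
    (mem_centralizer_iff.2 fun x _ => Subtype.ext (mem_centralizer_iff.1 x.2 z hz).symm), rfl⟩
  have hQM : Q ≤ centralizer (Z : Set G) := hQd ▸ map_subtype_le _
  have hCQ : centralizer (Q : Set G) ≤ Q := fun c hc => by
    have hcM : c ∈ centralizer (Z : Set G) := centralizer_le hZQ hc
    exact hQd.ge ⟨⟨c, hcM⟩, Cfsg.Lib.Components.centralizer_genFitting_le
      (mem_centralizer_iff.2 fun x hx => Subtype.ext (mem_centralizer_iff.1 hc _ (hQd.ge ⟨x, hx, rfl⟩))), rfl⟩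
  have hQex : Cfsg.IsExtraspecial 3 Q := isExtraspecial_congr eQ hQ
  have hQc : Nat.card Q = 3 ^ 5 := (Nat.card_congr eQ.toEquiv).symm.trans hQcard
  have hQe : ∀ a ∈ Q, a ^ 3 = 1 := fun a ha => by
    obtain ⟨y, hy, rfl⟩ := mem_map.1 (hQd.le ha)
    exact congrArg Subtype.val (hexp y hy)
  -- the quotient by the generalized Fitting subgroup
  have h9 : ¬ 9 ∣ Nat.card (↥(centralizer (Z : Set G)) ⧸ Fm) := by
    haveI : (Cfsg.generalizedFittingSubgroup (↥(centralizer (Z : Set G)) ⧸ Fm)).Normal := inferInstance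
    exact not_nine_dvd _ eF Cfsg.Lib.Components.centralizer_genFitting_le
  obtain ⟨F', hF'⟩ : ∃ F', F' = Cfsg.generalizedFittingSubgroup (↥(centralizer (Z : Set G)) ⧸ Fm) := ⟨_, rfl⟩
  have hF'c : Nat.card F' = 120 := by
    rw [hF', Nat.card_congr eF.toEquiv, Cfsg.Lib.Classical.SLTwoTori.card_SL2, ZMod.card]
    norm_num
  have hMcard : Nat.card ↥(centralizer (Z : Set G)) = Nat.card (↥(centralizer (Z : Set G)) ⧸ Fm) * 243 := by
    rw [card_eq_card_quotient_mul_card_subgroup Fm, hQcard]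
    norm_num
  have hScard : Nat.card (S : Subgroup ↥(centralizer (Z : Set G))) = 729 := by
    have h3 : 3 ∣ Nat.card (↥(centralizer (Z : Set G)) ⧸ Fm) :=
      (show 3 ∣ Nat.card F' by rw [hF'c]; norm_num).trans (card_subgroup_dvd_card F')
    refine Nat.dvd_antisymm ?_ ((show (729 : ℕ) = 3 ^ 6 by norm_num) ▸ S.pow_dvd_card_of_pow_dvd_card ?_)
    · obtain ⟨n, hn⟩ := S.2.exists_card_eq
      have hd := card_subgroup_dvd_card (S : Subgroup ↥(centralizer (Z : Set G)))
      rw [hn, hMcard] at hd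
      rw [hn]
      refine (show (729 : ℕ) = 3 ^ 6 by norm_num) ▸ pow_dvd_pow 3 ?_
      by_contra hc
      have h7 : 3 ^ 7 ∣ Nat.card (↥(centralizer (Z : Set G)) ⧸ Fm) * 243 :=
        (pow_dvd_pow 3 (show 7 ≤ n by omega)).trans hd
      exact h9 ((Nat.mul_dvd_mul_iff_right (show 0 < 243 by norm_num)).1 ((show 3 ^ 7 = 9 * 243 by norm_num) ▸ h7))
    · rw [hMcard, show (3 : ℕ) ^ 6 = 3 * 243 by norm_num]
      exact Nat.mul_dvd_mul_right h3 243
  -- a Sylow subgroup of the whole group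
  obtain ⟨S', hS'⟩ : ∃ S', S' = (S : Subgroup ↥(centralizer (Z : Set G))).map (centralizer (Z : Set G)).subtype := ⟨_, rfl⟩
  have hS'p : IsPGroup 3 S' := hS' ▸ S.2.map _
  have hS'M : S' ≤ centralizer (Z : Set G) := hS' ▸ map_subtype_le _
  have hQS' : Q ≤ S' := hQd ▸ hS' ▸ map_mono (le_sylow_of_normalized S hFp (by
    rw [normalizer_eq_top_iff.2 inferInstance]; exact le_top))
  have hZeq : Z = S' ⊓ centralizer (S' : Set G) := by
    refine le_antisymm (le_inf (hZQ.trans hQS') ((le_centralizer_iff).1 hS'M)) ?_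
    rintro x ⟨hx, hxc⟩
    have hxQ : x ∈ Q := hCQ (centralizer_le hQS' hxc)
    have hx' : x ∈ (center Q).map Q.subtype :=
      ⟨⟨x, hxQ⟩, mem_center_iff.2 fun q => Subtype.ext (mem_centralizer_iff.1 hxc _ (hQS' q.2)), rfl⟩
    have hZc : Z ≤ (center Q).map Q.subtype := fun z hz =>
      ⟨⟨z, hZQ hz⟩, mem_center_iff.2 fun q => Subtype.ext (mem_centralizer_iff.1 (hQM q.2) z hz).symm, rfl⟩
    rw [eq_of_le_of_card_ge hZc (by
      rw [← Nat.card_congr (equivMapOfInjective (center Q) _ (subtype_injective _)).toEquiv, hQex.2, hZ])]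
    exact hx'
  obtain ⟨P, hP⟩ := hS'p.exists_le_sylow
  have hPS : (P : Subgroup G) = S' := by
    by_contra hne
    have hlt : S'.subgroupOf P < ⊤ := lt_top_iff_ne_top.2 fun h => hne (le_antisymm (subgroupOf_eq_top.1 h) hP)
    haveI : Group.IsNilpotent (P : Subgroup G) := P.2.isNilpotent
    obtain ⟨g, hgN, hgS⟩ := SetLike.exists_of_lt (normalizerCondition_of_isNilpotent _ hlt)
    have hgn : (g : G) ∈ normalizer (S' : Set G) := by
      refine mem_normalizer_iff.2 fun x => ⟨fun hx => ?_, fun hx => ?_⟩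
      · exact mem_subgroupOf.1 ((mem_normalizer_iff.1 hgN ⟨x, hP hx⟩).1 (mem_subgroupOf.2 hx))
      · have hxP : x ∈ (P : Subgroup G) := by
          have := mul_mem (mul_mem (inv_mem g.2) (hP hx)) g.2
          simpa [mul_assoc] using this
        exact mem_subgroupOf.1 ((mem_normalizer_iff.1 hgN ⟨x, hxP⟩).2 (mem_subgroupOf.2 hx))
    have hgZ : (g : G) ∈ normalizer (Z : Set G) := mem_normalizer_of_map_mem fun x hx => by
      rw [hZeq] at hx ⊢
      refine ⟨(mem_normalizer_iff.1 hgn x).1 hx.1, mem_centralizer_iff.2 fun y hy => ?_⟩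
      have hy' : (g : G)⁻¹ * y * g ∈ S' := (mem_normalizer_iff.1 hgn _).2 (by simpa [mul_assoc] using hy)
      have h := mem_centralizer_iff.1 hx.2 _ hy'
      calc y * ((g : G) * x * (g : G)⁻¹) = g * ((g : G)⁻¹ * y * g * x) * (g : G)⁻¹ := by group
        _ = g * (x * ((g : G)⁻¹ * y * g)) * (g : G)⁻¹ := by rw [h]
        _ = _ := by group
    obtain ⟨k, hk⟩ := IsPGroup.iff_orderOf.1 P.2 g
    have hgM : (g : G) ∈ centralizer (Z : Set G) := three_mem_cent hZ hgZ (k := k) (by rw [← hk]; exact orderOf_coe g)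
    have hPM : ((P : Subgroup G).subgroupOf (centralizer (Z : Set G))) = (S : Subgroup ↥(centralizer (Z : Set G))) := by
      refine S.3 (P.2.comap_of_injective _ (subtype_injective _)) fun x hx => ?_
      exact hP (hS'.ge (mem_map_of_mem _ hx))
    refine hgS (mem_subgroupOf.2 (hS'.ge ⟨⟨g, hgM⟩, ?_, rfl⟩))
    rw [← hPM]
    exact g.2
  -- the normalizer of the centre
  have hle : centralizer (Z : Set G) ≤ normalizer (Z : Set G) := centralizer_le_normalizer _
  have hQN : Q = core3 (normalizer (Z : Set G)) := by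
    refine le_antisymm (hQcore ▸ core_le) fun x hx => ?_
    obtain ⟨K, hK⟩ : ∃ K, K = (core3 (normalizer (Z : Set G))).subgroupOf (centralizer (Z : Set G)) := ⟨_, rfl⟩
    have hKn : K.Normal := hK ▸ ⟨fun a ha g => mem_subgroupOf.2 (by
      obtain ⟨b, hb, hba⟩ := mem_subgroupOf.1 ha
      refine ⟨⟨g, hle g.2⟩ * b * (⟨g, hle g.2⟩ : ↥(normalizer (Z : Set G)))⁻¹, ?_, ?_⟩
      · exact (Cfsg.Lib.Components.pCore_normal' 3).conj_mem b hb _
      · show (g : G) * b * (g : G)⁻¹ = _
        rw [show (b : G) = a from hba]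
        rfl)⟩
    haveI := hKn
    have hKp : IsPGroup 3 K :=
      hK ▸ ((Cfsg.Lib.Components.isPGroup_pCore 3).map _).comap_of_injective _ (subtype_injective _)
    obtain ⟨k, hk⟩ := IsPGroup.iff_orderOf.1 ((Cfsg.Lib.Components.isPGroup_pCore 3).map _) ⟨x, hx⟩
    have hxM : x ∈ centralizer (Z : Set G) := three_mem_cent hZ (map_subtype_le _ hx) (k := k)
      (by rw [← hk]; exact orderOf_coe (⟨x, hx⟩ : core3 (normalizer (Z : Set G))))
    rw [hQd, hFcore]
    exact ⟨⟨x, hxM⟩, Cfsg.Lib.Components.le_pCore hKp (hK.ge (mem_subgroupOf.2 hx)), rfl⟩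
  obtain ⟨L₀, hL₀⟩ : ∃ L₀, L₀ = closure {g : G | g ∈ normalizer (Z : Set G) ∧ ∃ k : ℕ, orderOf g = 3 ^ k} := ⟨_, rfl⟩
  have hL₀M : L₀ = (closure {x : ↥(centralizer (Z : Set G)) | ∃ k : ℕ, orderOf x = 3 ^ k}).map
      (centralizer (Z : Set G)).subtype := by
    rw [closure_three_map, hL₀]
    exact congrArg _ (Set.ext fun g => ⟨fun ⟨h, k, hk⟩ => ⟨three_mem_cent hZ h hk, k, hk⟩,
      fun ⟨h, k, hk⟩ => ⟨hle h, k, hk⟩⟩)
  have hQL : Q ≤ L₀ := fun x hx => by
    rw [hL₀]
    obtain ⟨k, hk⟩ := IsPGroup.iff_orderOf.1 (IsPGroup.of_card hQc) ⟨x, hx⟩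
    exact subset_closure ⟨hle (hQM hx), k, by rw [← hk]; exact orderOf_coe (⟨x, hx⟩ : Q)⟩
  have hQsub : Q.subgroupOf (centralizer (Z : Set G)) = Fm := by rw [hQd]; exact comap_map_eq_self_of_injective (subtype_injective _) Fm
  haveI : (Q.subgroupOf (centralizer (Z : Set G))).Normal := hQsub ▸ hQn
  haveI hQnL : (Q.subgroupOf L₀).Normal := ⟨fun a ha g => mem_subgroupOf.2 (by
    have hg : (g : G) ∈ centralizer (Z : Set G) := (hL₀M ▸ map_subtype_le _ : L₀ ≤ _) g.2
    exact mem_subgroupOf.1 (Normal.conj_mem (H := Q.subgroupOf (centralizer (Z : Set G))) inferInstance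
      ⟨_, hQM (mem_subgroupOf.1 ha)⟩ (mem_subgroupOf.2 (mem_subgroupOf.1 ha)) ⟨_, hg⟩))⟩
  have himage : (closure {x : ↥(centralizer (Z : Set G)) | ∃ k : ℕ, orderOf x = 3 ^ k}).map (QuotientGroup.mk' Fm) = F' := by
    rw [map_closure_three]
    refine le_antisymm ((closure_le _).2 ?_) ?_
    · rintro a ⟨k, hk⟩
      haveI : F'.Normal := hF' ▸ inferInstance
      have h3 : ¬ 3 ∣ Nat.card ((↥(centralizer (Z : Set G)) ⧸ Fm) ⧸ F') := fun h => h9 (by
        rw [card_eq_card_quotient_mul_card_subgroup F', hF'c]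
        exact Dvd.dvd.mul_right (mul_dvd_mul h (show 3 ∣ 120 by norm_num)) 1 |>.trans (by rw [mul_one]))
      have hd : orderOf (QuotientGroup.mk' F' a) ∣ 3 ^ k := hk ▸ orderOf_map_dvd (QuotientGroup.mk' F') a
      obtain ⟨i, -, hi⟩ := (Nat.dvd_prime_pow Nat.prime_three).1 hd
      rcases i with _ | i
      · exact (QuotientGroup.eq_one_iff a).1 (orderOf_eq_one_iff.1 (by rwa [pow_zero] at hi))
      · exact absurd ((dvd_pow_self 3 (Nat.succ_ne_zero i)).trans (hi ▸ orderOf_dvd_natCard _)) h3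
    · have e5 : F' ≃* SL5 := (MulEquiv.subgroupCongr hF').trans eF
      intro a ha
      have hmem : ∀ w : SL5, w ∈ Subgroup.closure {x : SL5 | x * (x * x) = 1} →
          ((e5.symm w : F') : ↥(centralizer (Z : Set G)) ⧸ Fm) ∈
            Subgroup.closure {x : ↥(centralizer (Z : Set G)) ⧸ Fm | ∃ k : ℕ, orderOf x = 3 ^ k} := by
        intro w hw
        induction hw using closure_induction with
        | mem w hw =>
          refine subset_closure ?_
          have h3 : ((e5.symm w : F') : ↥(centralizer (Z : Set G)) ⧸ Fm) ^ 3 = 1 := by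
            rw [← SubmonoidClass.coe_pow, ← map_pow, show w ^ 3 = 1 by rw [pow_succ, pow_two, mul_assoc]; exact hw,
              map_one, OneMemClass.coe_one]
          obtain ⟨i, -, hi⟩ := (Nat.dvd_prime_pow Nat.prime_three).1
            (show orderOf _ ∣ 3 ^ 1 by rw [pow_one]; exact orderOf_dvd_of_pow_eq_one h3)
          exact ⟨i, hi⟩
        | one => simp
        | mul x y _ _ hx hy => rw [map_mul, coe_mul]; exact mul_mem hx hy
        | inv x _ hx => rw [map_inv, coe_inv]; exact inv_mem hx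
      have := hmem (e5 ⟨a, ha⟩) (three_elements_generate ▸ mem_top _)
      simpa using this
  haveI : (Q.subgroupOf (centralizer (Z : Set G))).Normal := hQsub ▸ hQn
  let eL : ↥L₀ ⧸ Q.subgroupOf L₀ ≃* Matrix.SpecialLinearGroup (Fin 2) (ZMod 5) :=
    ((subQuotEquiv _ Q L₀ hL₀M).trans (MulEquiv.subgroupMap (QuotientGroup.quotientMulEquivOfEq hQsub) _)).trans
      ((MulEquiv.subgroupCongr (by rw [map_map]; exact himage)).trans ((MulEquiv.subgroupCongr hF').trans eF))
  -- the abelian subgroup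
  obtain ⟨M₀, hM₀⟩ : ∃ M₀, M₀ = closure {g : G | g ∈ normalizer (J : Set G) ∧ ∃ k : ℕ, orderOf g = 3 ^ k} := ⟨_, rfl⟩
  have hM₀N : M₀ = (closure {x : ↥(normalizer (J : Set G)) | ∃ k : ℕ, orderOf x = 3 ^ k}).map
      (normalizer (J : Set G)).subtype := by rw [closure_three_map, hM₀]
  have hJM : J ≤ M₀ := fun x hx => by
    rw [hM₀]
    refine subset_closure ⟨le_normalizer hx, ?_⟩
    by_cases h1 : x = 1
    · exact ⟨0, by simp [h1]⟩
    · exact ⟨1, by rw [orderOf_eq_prime (hJ.2 x hx) h1, pow_one]⟩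
  haveI hJnM : (J.subgroupOf M₀).Normal := normal_subgroupOf_of_le_normalizer
    (hM₀N ▸ map_subtype_le _)
  let eM : ↥M₀ ⧸ J.subgroupOf M₀ ≃* alternatingGroup (Fin 6) :=
    ((subQuotEquiv _ J M₀ hM₀N).trans (MulEquiv.subgroupCongr (map_closure_three _))).trans e6
  have hJP : J ≤ (P : Subgroup G) := hPS ▸ hS' ▸ hJS
  have hiii : centralizer (core3 (centralizer (Z : Set G)) : Set G) ≤ core3 (centralizer (Z : Set G)) :=
    hQcore ▸ hCQ
  obtain ⟨hcard, hs, hna⟩ := mcl_simple
  haveI : Finite ↥Cfsg.Spor.McL := Nat.finite_of_card_ne_zero (by rw [hcard]; norm_num)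
  rcases main_weak P Z (by rw [hPS]; exact hZeq) J hJP hJ.1 hJ.2 hJcard M₀ hM₀ hJM eM L₀ hL₀ Q hQN hQex hQc hQe hQL eL
    hiii with h | h
  · obtain ⟨e⟩ := h
    haveI := hs
    have hsG : IsSimpleGroup G := e.isSimpleGroup
    have hnaG : ¬ IsMulCommutative G := fun h => hna ⟨⟨fun a b => e.symm.injective (by
      rw [map_mul, map_mul]; exact h.is_comm.comm _ _)⟩⟩
    exact ⟨((MulEquiv.subgroupCongr (genFit_top hsG hnaG)).trans topEquiv).trans e⟩
  · obtain ⟨e⟩ := h
    obtain ⟨eA⟩ := genFit_mulAut hs hna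
    haveI : Finite (MulAut ↥Cfsg.Spor.McL) := Finite.of_equiv G e.toEquiv
    exact ⟨((equivMapOfInjective _ e.toMonoidHom e.injective).trans
      (MulEquiv.subgroupCongr (Cfsg.Lib.Components.genFitting_map_equiv e))).trans eA⟩

end Cfsg.Lib.McLLocal
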