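import Cfsg.Agent.LocalThree.McLLocal.Cubic
import Cfsg.Agent.Coprime.Basic
import Cfsg.Agent.LocalThree.McLLocal.Model

/-!
Coordinates on the abelian subgroup.
-/

set_option autoImplicit false
set_option linter.unusedSectionVars false
set_option maxRecDepth 100000
set_option synthInstance.maxSize 4096

namespace Cfsg.Lib.McLLocal

open Subgroup
open Data (cm)

universe u

/-- The coordinates. -/
structure Frame (G : Type u) [Group G] [Finite G] extends Data G where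
  e : Fin 81 → G
  e_inj : Function.Injective e
  e_add : ∀ v w, e (ad v w) = e v * e w
  memJ : ∀ g, g ∈ J ↔ ∃ v, e v = g
  eZ : ∀ g, g ∈ Z ↔ ∃ k : Fin 3, e (sc k.val 1) = g
  eW : ∀ g, g ∈ toData.W ↔ ∃ v, dg v 3 = 0 ∧ e v = g
  uQ : ∀ p : Fin 9, ∃ q ∈ Q, ∀ v, q * e v * q⁻¹ = e (actU p v)
  wconj : ∃ m ∈ M₀, Z.map (MulAut.conj m).toMonoidHom = zpowers (e 27)

/-- The basis vectors of a code. -/
theorem code_digits : ∀ a b : Fin 81, dg (ad a b) 0 = (dg a 0 + dg b 0) % 3 ∧ dg (ad a b) 1 = (dg a 1 + dg b 1) % 3 ∧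
    dg (ad a b) 2 = (dg a 2 + dg b 2) % 3 ∧ dg (ad a b) 3 = (dg a 3 + dg b 3) % 3 := by decide +kernel

theorem code_sc : ∀ k : Fin 3, ∀ v : Fin 81, dg (sc k.val v) 0 = k.val * dg v 0 % 3 ∧
    dg (sc k.val v) 1 = k.val * dg v 1 % 3 ∧ dg (sc k.val v) 2 = k.val * dg v 2 % 3 ∧
    dg (sc k.val v) 3 = k.val * dg v 3 % 3 := by decide +kernel

theorem code_small : ∀ v : Fin 81, ∀ i : Fin 4, dg v i.val < 3 := by decide +kernel

theorem basis_digits : (dg 1 0 = 1 ∧ dg 1 1 = 0 ∧ dg 1 2 = 0 ∧ dg 1 3 = 0) ∧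
    (dg 3 0 = 0 ∧ dg 3 1 = 1 ∧ dg 3 2 = 0 ∧ dg 3 3 = 0) ∧ (dg 9 0 = 0 ∧ dg 9 1 = 0 ∧ dg 9 2 = 1 ∧ dg 9 3 = 0) ∧
    (dg 27 0 = 0 ∧ dg 27 1 = 0 ∧ dg 27 2 = 0 ∧ dg 27 3 = 1) := by decide +kernel

theorem actU_lin : ∀ p : Fin 9, ∀ v : Fin 81, actU p v = lin4 (actU p 1) (actU p 3) (actU p 9) (actU p 27) v := by
  decide +kernel

theorem actU_gens : ∀ p : Fin 9, ∀ v : Fin 81, actU p v = (actU ⟨p.val % 3, by omega⟩ ∘ actU ⟨p.val / 3 * 3, by omega⟩) v ∧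
    (actU 2 v = actU 1 (actU 1 v) ∧ actU 6 v = actU 3 (actU 3 v)) := by decide +kernel

theorem diff_kills : ∀ v : Fin 81, ad (actU 1 v) (ng v) = 0 → ad (actU 3 v) (ng v) = 0 →
    v = 0 ∨ v = 1 ∨ v = 2 := by decide +kernel

theorem diff_facts : ∀ v : Fin 81, dg v 3 = 0 →
    (∃ k : Fin 3, ad (actU 1 v) (ng v) = sc k.val 1) ∧ ∃ k : Fin 3, ad (actU 3 v) (ng v) = sc k.val 1 := by
  decide +kernel

variable {G : Type u} [Group G] [Finite G]

theorem pow_mod_three {a : G} (h : a ^ 3 = 1) (n : ℕ) : a ^ (n % 3) = a ^ n :=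
  (pow_eq_pow_mod n h).symm

theorem generator_of_three {Z : Subgroup G} (hZ : Nat.card Z = 3) {a : G} (ha : a ∈ Z) (ha1 : a ≠ 1) :
    ∀ g, g ∈ Z ↔ ∃ k : Fin 3, a ^ k.val = g := by
  have hle : zpowers a ≤ Z := zpowers_le.2 ha
  have hord : orderOf a = 3 := by
    have h1 : orderOf a ∣ 3 := hZ ▸ Subgroup.orderOf_dvd_natCard Z ha
    exact ((Nat.dvd_prime Nat.prime_three).1 h1).resolve_left fun h => ha1 (orderOf_eq_one_iff.1 h)
  have heq : zpowers a = Z := eq_of_le_of_card_ge hle (by rw [Nat.card_zpowers, hord, hZ])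
  classical
  intro g
  rw [← heq, mem_zpowers_iff_mem_range_orderOf, hord]
  simp only [Finset.mem_image, Finset.mem_range]
  exact ⟨fun ⟨j, hj, e⟩ => ⟨⟨j, hj⟩, e⟩, fun ⟨k, e⟩ => ⟨k.val, k.isLt, e⟩⟩

/-- The coordinates exist. -/
theorem exists_frame (D : Data G) : ∃ F : Frame G, F.toData = D := by
  haveI := fact_three
  obtain ⟨m, hm, z₀, hz₀, hout⟩ := D.exists_conj_out
  obtain ⟨w, hwd⟩ : ∃ w, w = m * z₀ * m⁻¹ := ⟨_, rfl⟩
  rw [← hwd] at hout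
  have hmJ := D.M₀_le_M hm
  have hwJ : w ∈ D.J := hwd ▸ (mem_normalizer_iff.1 hmJ z₀).1 (D.Z_le_J hz₀)
  have hwQ : w ∉ D.Q := fun h => hout ⟨hwJ, h⟩
  have hw1 : w ≠ 1 := fun h => hwQ (h ▸ one_mem _)
  have hJgen : D.W ⊔ zpowers w = D.J := by
    have hle : D.W ⊔ zpowers w ≤ D.J := sup_le inf_le_left (zpowers_le.2 hwJ)
    have hlt : D.W < D.W ⊔ zpowers w :=
      lt_of_le_of_ne le_sup_left fun e => hout (e ▸ mem_sup_right (mem_zpowers w))
    have hlt' : Nat.card D.W < Nat.card ↥(D.W ⊔ zpowers w) := Set.ncard_lt_ncard hlt (Set.toFinite _)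
    obtain ⟨n, hn⟩ := (D.S.2.to_le (hle.trans D.hJS)).exists_card_eq
    rw [D.sup_eq.2, hn, show (27 : ℕ) = 3 ^ 3 by norm_num] at hlt'
    refine eq_of_le_of_card_ge hle ?_
    rw [D.hJcard, hn]
    have := (Nat.pow_lt_pow_iff_right (show 1 < 3 by norm_num)).1 hlt'
    exact le_trans (show 81 ≤ 3 ^ 4 by norm_num) (Nat.pow_le_pow_right (by norm_num) this)
  have hcz : ∀ {q a z : G}, q ∈ D.Q → z ∈ D.Z → cm q (a * z) = cm q a := by
    intro q a z hq hz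
    unfold cm
    rw [show q * (a * z) * q⁻¹ = q * a * q⁻¹ * (q * z * q⁻¹) by group, D.Z_cent (D.Q_le_S hq) hz,
      mul_inv_cancel_right]
    group
  -- no element outside is quadratic
  have hcubic : ∀ q ∈ D.Q, q ∉ D.W → cm q (cm q w) ≠ 1 := by
    intro q hq hqW h
    have hM₀L : D.M₀ ≤ centralizer (D.J : Set G) := by
      refine D.quad_trivial le_rfl D.M₀_le_M (D.Q_le_M₀ hq) (fun h' => hqW ⟨h', hq⟩)
        (by rw [D.hQexp q hq]; exact one_mem _) fun a ha => ?_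
      rw [← hJgen] at ha
      have hQW : ∀ b ∈ D.W, cm q (cm q b) = 1 := fun b hb =>
        Data.cm_one_iff.2 (D.Z_cent (D.Q_le_S hq) (D.cm_W hq hb))
      obtain ⟨b, hb, c, hc, rfl⟩ := (Cfsg.Lib.Coprime.mem_sup_of_le_normalizer (fun x hx => mem_normalizer_of_map_mem fun y hy => (D.J_comm (zpowers_le.2 hwJ hx) hy.1).symm ▸ (mul_inv_cancel_right y x).symm ▸ hy)).1 ha
      · obtain ⟨k, rfl⟩ := mem_zpowers_iff.1 hc
        have hwW : cm q w ∈ D.W := D.cm_J hq hwJ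
        have e1 : cm q (b * w ^ k) = cm q b * cm q (w ^ k) := by
          unfold cm
          have hcomm := D.J_comm ((mem_normalizer_iff.1 (D.S_le_M (D.Q_le_S hq)) (w ^ k)).1 (zpow_mem hwJ k))
            (inv_mem hb.1)
          calc q * (b * w ^ k) * q⁻¹ * (b * w ^ k)⁻¹ =
              q * b * q⁻¹ * ((q * w ^ k * q⁻¹) * ((w ^ k)⁻¹ * b⁻¹)) := by group
            _ = q * b * q⁻¹ * ((q * w ^ k * q⁻¹) * (b⁻¹ * (w ^ k)⁻¹)) := by
              rw [D.J_comm (inv_mem (zpow_mem hwJ k)) (inv_mem hb.1)]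
            _ = q * b * q⁻¹ * ((q * w ^ k * q⁻¹ * b⁻¹) * (w ^ k)⁻¹) := by group
            _ = q * b * q⁻¹ * ((b⁻¹ * (q * w ^ k * q⁻¹)) * (w ^ k)⁻¹) := by rw [hcomm]
            _ = _ := by group
        have e2 : cm q (w ^ k) = cm q w ^ k := by
          have hcomm : Commute (q * w * q⁻¹) w⁻¹ :=
            D.J_comm ((mem_normalizer_iff.1 (D.S_le_M (D.Q_le_S hq)) w).1 hwJ) (inv_mem hwJ)
          show q * w ^ k * q⁻¹ * (w ^ k)⁻¹ = (q * w * q⁻¹ * w⁻¹) ^ k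
          rw [hcomm.mul_zpow, inv_zpow, conj_zpow]
        have hzb : cm q b ∈ D.Z := D.cm_W hq hb
        have hd : cm q (cm q (w ^ k)) = 1 := by
          rw [e2]
          exact Data.cm_one_iff.2 (Commute.zpow_right (Data.cm_one_iff.1 h) k).eq
        rw [e1, D.J_comm (D.Z_le_J hzb) (D.cm_J hq (zpow_mem hwJ k)).1, hcz hq hzb]
        exact hd
    have := hM₀L (D.Q_le_M₀ hq)
    rw [D.cent_J] at this
    exact hqW ⟨this, hq⟩
  obtain ⟨q1, hq1, hq1W⟩ : ∃ q ∈ D.Q, q ∉ D.W := by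
    by_contra h
    push Not at h
    have := card_le_of_le h
    rw [D.hQcard, D.sup_eq.2] at this
    omega
  obtain ⟨z, hzd⟩ : ∃ z, z = cm q1 (cm q1 w) := ⟨_, rfl⟩
  have hm1 : cm q1 w ∈ D.W := D.cm_J hq1 hwJ
  have hzZ : z ∈ D.Z := hzd ▸ D.cm_W hq1 hm1
  have hz1 : z ≠ 1 := hzd ▸ hcubic q1 hq1 hq1W
  have hgen := generator_of_three D.card_Z hzZ hz1
  have cm_mul : ∀ {a b c : G}, c ∈ D.W → a ∈ D.Q → b ∈ D.Q → cm (a * b) c = cm a c * cm b c := by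
    intro a b c hc ha hb
    have hz := D.cm_W hb hc
    have hzj := D.Z_le_J hz
    unfold cm at hz hzj ⊢
    calc a * b * c * (a * b)⁻¹ * c⁻¹ = a * (b * c * b⁻¹ * c⁻¹) * a⁻¹ * (a * c * a⁻¹ * c⁻¹) := by group
      _ = b * c * b⁻¹ * c⁻¹ * (a * c * a⁻¹ * c⁻¹) := by rw [D.Z_cent (D.Q_le_S ha) hz, mul_inv_cancel_right]
      _ = _ := D.J_comm hzj (D.Z_le_J (D.commutator_Q ha hc.2))
  obtain ⟨q2, hq2, hq2W, hq2c⟩ : ∃ q ∈ D.Q, q ∉ D.W ∧ cm q (cm q1 w) = 1 := by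
    by_contra h
    push Not at h
    obtain ⟨q, hq, hqn⟩ : ∃ q ∈ D.Q, q ∉ D.W ⊔ zpowers q1 := by
      by_contra h'
      push Not at h'
      have hab : ∀ a ∈ D.W, cm a q1 ∈ D.Z := fun a ha => D.commutator_Q ha.2 hq1
      have hle : zpowers q1 ≤ normalizer (D.W : Set G) :=
        zpowers_le.2 (D.S_le_norm_W (D.Q_le_S hq1))
      have hc := Cfsg.Lib.Coprime.card_sup_mul_card_inf hle
      have h1 : Nat.card (zpowers q1) ≤ 3 := by
        rw [Nat.card_zpowers]; exact orderOf_le_of_pow_eq_one (by norm_num) (D.hQexp q1 hq1)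
      have h2 : 1 ≤ Nat.card ↥(D.W ⊓ zpowers q1) := Nat.card_pos
      have h3 := card_le_of_le h'
      rw [D.sup_eq.2] at hc
      rw [D.hQcard] at h3
      nlinarith
    obtain ⟨k, hk⟩ := (hgen _).1 (D.cm_W hq hm1)
    have hqk : q * q1 ^ (3 - k.val) ∈ D.Q := mul_mem hq (pow_mem hq1 _)
    refine h _ hqk (fun hW' => hqn ?_) ?_
    · rw [show q = q * q1 ^ (3 - k.val) * (q1 ^ (3 - k.val))⁻¹ by group]
      exact mul_mem (mem_sup_left hW') (inv_mem (pow_mem (mem_sup_right (mem_zpowers q1)) _))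
    · have hpow : ∀ n : ℕ, cm (q1 ^ n) (cm q1 w) = z ^ n := by
        intro n
        induction n with
        | zero => simp [cm]
        | succ n ih => rw [pow_succ, cm_mul hm1 (pow_mem hq1 n) hq1, ih, ← hzd, pow_succ]
      rw [cm_mul hm1 hq (pow_mem hq1 _), hpow, ← hk, ← pow_add,
        show k.val + (3 - k.val) = 3 by omega]
      exact D.hQexp _ (D.Z_le_Q hzZ)
  have hm2 : cm q2 w ∈ D.W := D.cm_J hq2 hwJ
  have hsym : cm q1 (cm q2 w) = cm q2 (cm q1 w) := by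
    have hc : q1 * q2 * q1⁻¹ * q2⁻¹ ∈ D.Z := D.commutator_Q hq1 hq2
    have e1 : q1 * (q2 * w * q2⁻¹) * q1⁻¹ = q2 * (q1 * w * q1⁻¹) * q2⁻¹ := by
      have := D.Z_cent (D.hJS (show q2 * (q1 * w * q1⁻¹) * q2⁻¹ ∈ D.J from
        (mem_normalizer_iff.1 (D.S_le_M (D.Q_le_S hq2)) _).1 ((mem_normalizer_iff.1 (D.S_le_M (D.Q_le_S hq1)) _).1 hwJ))) hc
      calc q1 * (q2 * w * q2⁻¹) * q1⁻¹ =
          (q1 * q2 * q1⁻¹ * q2⁻¹) * (q2 * (q1 * w * q1⁻¹) * q2⁻¹) * (q1 * q2 * q1⁻¹ * q2⁻¹)⁻¹ := by group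
        _ = _ := by rw [← this, mul_inv_cancel_right]
    obtain ⟨a, had⟩ : ∃ a, a = cm q1 w := ⟨_, rfl⟩
    obtain ⟨b, hbd⟩ : ∃ b, b = cm q2 w := ⟨_, rfl⟩
    rw [← had] at hm1 hq2c ⊢
    rw [← hbd] at hm2 ⊢
    have e2 : q1 * w * q1⁻¹ = a * w := by rw [had]; unfold cm; group
    have e3 : q2 * w * q2⁻¹ = b * w := by rw [hbd]; unfold cm; group
    have c1 : q1 * b * q1⁻¹ = cm q1 b * b := by unfold cm; group
    have c2 : q2 * a * q2⁻¹ = cm q2 a * a := by unfold cm; group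
    rw [e3, e2, show q1 * (b * w) * q1⁻¹ = q1 * b * q1⁻¹ * (q1 * w * q1⁻¹) by group,
      show q2 * (a * w) * q2⁻¹ = q2 * a * q2⁻¹ * (q2 * w * q2⁻¹) by group, e2, e3, c1, c2] at e1
    have e4 : cm q1 b * (b * a) = cm q2 a * (a * b) := by
      have := congrArg (· * w⁻¹) e1
      simpa [mul_assoc] using this
    rw [D.J_comm hm2.1 hm1.1] at e4
    exact mul_right_cancel e4
  have hz2 : cm q2 (cm q2 w) = z := by
    obtain ⟨k, hk⟩ := (hgen _).1 (D.cm_W hq2 hm2)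
    have hk0 : k.val ≠ 0 := fun h => hcubic q2 hq2 hq2W (by rw [← hk, h, pow_zero])
    have hk2 : k.val ≠ 2 := by
      intro h
      have hq12 : q1 * q2 ∈ D.Q := mul_mem hq1 hq2
      refine hcubic _ hq12 (fun hW => ?_) ?_
      · have h1 : cm (q1 * q2) (cm q1 w) = 1 := Data.cm_one_iff.2 (D.J_comm hW.1 hm1.1)
        rw [cm_mul hm1 hq1 hq2, ← hzd, hq2c, mul_one] at h1
        exact hz1 h1
      · have e : cm (q1 * q2) w = cm q1 (cm q2 w) * cm q2 w * cm q1 w := by unfold cm; group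
        have hzz : cm q1 (cm q2 w) = 1 := hsym.trans hq2c
        rw [e, hzz, one_mul]
        have hmul : ∀ q ∈ D.Q, cm q (cm q2 w * cm q1 w) = cm q (cm q2 w) * cm q (cm q1 w) := by
          intro q hq
          have hz' := D.cm_W hq hm1
          unfold cm at hz' ⊢
          obtain ⟨b, hb⟩ : ∃ b, b = q2 * w * q2⁻¹ * w⁻¹ := ⟨_, rfl⟩
          obtain ⟨a, ha⟩ : ∃ a, a = q1 * w * q1⁻¹ * w⁻¹ := ⟨_, rfl⟩
          unfold cm at hm2
          rw [← ha] at hz' ⊢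
          rw [← hb] at hm2 ⊢
          calc q * (b * a) * q⁻¹ * (b * a)⁻¹ = q * b * q⁻¹ * ((q * a * q⁻¹ * a⁻¹) * b⁻¹) := by group
            _ = q * b * q⁻¹ * (b⁻¹ * (q * a * q⁻¹ * a⁻¹)) := by rw [D.J_comm (D.Z_le_J hz') (inv_mem hm2.1)]
            _ = _ := by group
        rw [cm_mul (mul_mem hm2 hm1) hq1 hq2, hmul q1 hq1, hmul q2 hq2, hzz, hq2c, ← hzd, ← hk, h, one_mul,
          mul_one, ← pow_succ']
        exact D.hQexp _ (D.Z_le_Q hzZ)
    rw [← hk, show k.val = 1 by omega, pow_one]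
  obtain ⟨e₁, he₁⟩ : ∃ e₁, e₁ = cm q1 w * z := ⟨_, rfl⟩
  obtain ⟨e₂, he₂⟩ : ∃ e₂, e₂ = cm q2 w * z := ⟨_, rfl⟩
  have he₁W : e₁ ∈ D.W := he₁ ▸ mul_mem hm1 (D.Z_le_W hzZ)
  have he₂W : e₂ ∈ D.W := he₂ ▸ mul_mem hm2 (D.Z_le_W hzZ)
  have hzJ := D.Z_le_J hzZ
  have hp : ∀ a ∈ D.J, a ^ 3 = 1 := D.hJexp
  let e : Fin 81 → G := fun v => z ^ dg v 0 * e₁ ^ dg v 1 * e₂ ^ dg v 2 * w ^ dg v 3
  have heJ : ∀ v, e v ∈ D.J := fun v =>
    mul_mem (mul_mem (mul_mem (pow_mem hzJ _) (pow_mem he₁W.1 _)) (pow_mem he₂W.1 _)) (pow_mem hwJ _)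
  have he_add : ∀ a b, e (ad a b) = e a * e b := by
    intro a b
    obtain ⟨h0, h1, h2, h3⟩ := code_digits a b
    show z ^ dg (ad a b) 0 * e₁ ^ dg (ad a b) 1 * e₂ ^ dg (ad a b) 2 * w ^ dg (ad a b) 3 = _
    rw [h0, h1, h2, h3, pow_mod_three (hp _ hzJ), pow_mod_three (hp _ he₁W.1), pow_mod_three (hp _ he₂W.1),
      pow_mod_three (hp _ hwJ)]
    letI : CommGroup D.J := { (inferInstance : Group D.J) with mul_comm := D.hJcomm.is_comm.comm }
    have key : ∀ A B C E : D.J, ∀ a0 b0 c0 d0 a' b' c' d' : ℕ,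
        A ^ (a0 + a') * B ^ (b0 + b') * C ^ (c0 + c') * E ^ (d0 + d') =
          A ^ a0 * B ^ b0 * C ^ c0 * E ^ d0 * (A ^ a' * B ^ b' * C ^ c' * E ^ d') := by
      intro A B C E a0 b0 c0 d0 a' b' c' d'
      simp only [pow_add]
      ac_rfl
    exact congrArg Subtype.val (key ⟨z, hzJ⟩ ⟨e₁, he₁W.1⟩ ⟨e₂, he₂W.1⟩ ⟨w, hwJ⟩ _ _ _ _ _ _ _ _)
  have b1 : e 1 = z ∧ e 3 = e₁ ∧ e 9 = e₂ ∧ e 27 = w := by
    obtain ⟨⟨a0, a1, a2, a3⟩, ⟨b0, b1, b2, b3⟩, ⟨c0, c1, c2, c3⟩, ⟨d0, d1, d2, d3⟩⟩ := basis_digits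
    simp [e, a0, a1, a2, a3, b0, b1, b2, b3, c0, c1, c2, c3, d0, d1, d2, d3]
  have he0 : e 0 = 1 := by simp [e, dg]
  have he_sc : ∀ (k : Fin 3) v, e (sc k.val v) = e v ^ k.val := by
    intro k v
    fin_cases k
    · simpa [(ad_facts v).2.2.2.2.2.1] using he0
    · simp [(ad_facts v).2.2.2.2.1]
    · rw [pow_two, ← he_add, (ad_facts v).2.2.2.2.2.2.1]
  -- conjugation in coordinates
  have conj_lin : ∀ (g : G) (c₀ c₁ c₂ c₃ : Fin 81), g * z * g⁻¹ = e c₀ → g * e₁ * g⁻¹ = e c₁ →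
      g * e₂ * g⁻¹ = e c₂ → g * w * g⁻¹ = e c₃ → ∀ v, g * e v * g⁻¹ = e (lin4 c₀ c₁ c₂ c₃ v) := by
    intro g c₀ c₁ c₂ c₃ h0 h1 h2 h3 v
    have hs : ∀ c (i : Fin 4), e (sc (dg v i.val) c) = e c ^ dg v i.val := fun c i => he_sc ⟨_, code_small v i⟩ c
    unfold lin4
    rw [he_add, he_add, he_add]
    erw [hs c₀ 0, hs c₁ 1, hs c₂ 2, hs c₃ 3]
    rw [← h0, ← h1, ← h2, ← h3, conj_pow, conj_pow, conj_pow, conj_pow]
    show g * (z ^ dg v 0 * e₁ ^ dg v 1 * e₂ ^ dg v 2 * w ^ dg v 3) * g⁻¹ = _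
    simp only [show ((0 : Fin 4) : ℕ) = 0 from rfl, show ((1 : Fin 4) : ℕ) = 1 from rfl,
      show ((2 : Fin 4) : ℕ) = 2 from rfl, show ((3 : Fin 4) : ℕ) = 3 from rfl]
    group
  have hu : ∀ (q a : G), q * a * q⁻¹ = cm q a * a := fun q a => by unfold cm; group
  have fix : ∀ {q}, q ∈ D.Q → q * z * q⁻¹ = z := fun {q} hq => by rw [D.Z_cent (D.Q_le_S hq) hzZ, mul_inv_cancel_right]
  obtain ⟨a1, b1', c1, d1⟩ := b1
  have heq1 : ∀ v, q1 * e v * q1⁻¹ = e (actU 1 v) := by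
    intro v
    rw [actU_lin 1 v]
    refine conj_lin q1 _ _ _ _ ?_ ?_ ?_ ?_ v
    · rw [fix hq1, ← a1]; exact congrArg e (by decide +kernel)
    · rw [show actU 1 3 = ad 1 3 by decide +kernel, he_add, a1, b1', hu, he₁, hcz hq1 hzZ, ← hzd]
    · rw [show actU 1 9 = (9 : Fin 81) by decide +kernel, c1, hu, he₂, hcz hq1 hzZ, hsym, hq2c, one_mul]
    · rw [show actU 1 27 = ad (ad (ad 1 1) 3) 27 by decide +kernel, he_add, he_add, he_add, a1, b1', d1, hu, he₁,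
        D.J_comm hm1.1 hzJ]
      calc cm q1 w * w = z ^ 3 * cm q1 w * w := by rw [hp _ hzJ, one_mul]
        _ = _ := by simp only [pow_succ, pow_zero, one_mul, mul_assoc]
  have heq2 : ∀ v, q2 * e v * q2⁻¹ = e (actU 3 v) := by
    intro v
    rw [actU_lin 3 v]
    refine conj_lin q2 _ _ _ _ ?_ ?_ ?_ ?_ v
    · rw [fix hq2, ← a1]; exact congrArg e (by decide +kernel)
    · rw [show actU 3 3 = (3 : Fin 81) by decide +kernel, b1', hu, he₁, hcz hq2 hzZ, hq2c, one_mul]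
    · rw [show actU 3 9 = ad 1 9 by decide +kernel, he_add, a1, c1, hu, he₂, hcz hq2 hzZ, hz2]
    · rw [show actU 3 27 = ad (ad (ad 1 1) 9) 27 by decide +kernel, he_add, he_add, he_add, a1, c1, d1, hu, he₂,
        D.J_comm hm2.1 hzJ]
      calc cm q2 w * w = z ^ 3 * cm q2 w * w := by rw [hp _ hzJ, one_mul]
        _ = _ := by simp only [pow_succ, pow_zero, one_mul, mul_assoc]
  have ez : ∀ g, g ∈ D.Z ↔ ∃ k : Fin 3, e (sc k.val 1) = g := by
    intro g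
    simp only [he_sc, a1]
    exact hgen g
  have hker : ∀ v, e v = 1 → v = 0 := by
    intro v hv
    have step : ∀ (q : G) p, (∀ x, q * e x * q⁻¹ = e (actU p x)) → e (ad (actU p v) (ng v)) = 1 := by
      intro q p hqp
      rw [he_add, ← hqp v, hv, mul_one, mul_inv_cancel, one_mul, show ng v = sc (2 : Fin 3).val v from rfl, he_sc, hv,
        one_pow]
    have s1 := step q1 1 heq1
    have s2 := step q2 3 heq2
    have no_z : ∀ k : Fin 3, e (sc k.val 1) = 1 → sc k.val (1 : Fin 81) = 0 := by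
      intro k h
      rw [he_sc, a1] at h
      fin_cases k
      · rfl
      · exact absurd (by simpa using h) hz1
      · exfalso
        refine hz1 ?_
        calc z = z ^ 3 * (z ^ 2)⁻¹ := by group
          _ = 1 := by rw [hp _ hzJ, show z ^ 2 = 1 from h, inv_one, mul_one]
    -- descend along the differences
    have zero_of : ∀ u : Fin 81, dg u 3 = 0 → e u = 1 → u = 0 := by
      intro u hu3 heu
      obtain ⟨⟨k, hk⟩, ⟨k', hk'⟩⟩ := diff_facts u hu3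
      have st : ∀ (q : G) p, (∀ x, q * e x * q⁻¹ = e (actU p x)) → e (ad (actU p u) (ng u)) = 1 := by
        intro q p hqp
        rw [he_add, ← hqp u, heu, mul_one, mul_inv_cancel, one_mul, show ng u = sc (2 : Fin 3).val u from rfl, he_sc, heu,
          one_pow]
      have t1 := st q1 1 heq1
      have t2 := st q2 3 heq2
      rw [hk] at t1
      rw [hk'] at t2
      rcases diff_kills u (hk.trans (no_z k t1)) (hk'.trans (no_z k' t2)) with r | r | r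
      · exact r
      · exact absurd (a1.symm.trans (r ▸ heu)) hz1
      · exfalso
        have h := no_z 2 ((congrArg e (show sc (2 : Fin 3).val (1 : Fin 81) = u by rw [r]; decide +kernel)).trans heu)
        exact absurd h (by decide +kernel)
    have hd3 : ∀ x : Fin 81, dg (ad (actU 1 x) (ng x)) 3 = 0 ∧ dg (ad (actU 3 x) (ng x)) 3 = 0 := by decide +kernel
    rcases diff_kills v (zero_of _ (hd3 v).1 s1) (zero_of _ (hd3 v).2 s2) with r | r | r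
    · exact r
    · exact absurd (a1.symm.trans (r ▸ hv)) hz1
    · exfalso
      have h := no_z 2 ((congrArg e (show sc (2 : Fin 3).val (1 : Fin 81) = v by rw [r]; decide +kernel)).trans hv)
      exact absurd h (by decide +kernel)
  have hinj : Function.Injective e := fun a b h => by
    have h0 : e (ad a (ng b)) = 1 := by
      rw [he_add, h, ← he_add, (ad_facts b).2.2.1, he0]
    exact (show ∀ a b : Fin 81, ad a (ng b) = 0 → a = b by decide +kernel) a b (hker _ h0)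
  have hmemJ : ∀ g, g ∈ D.J ↔ ∃ v, e v = g := by
    intro g
    refine ⟨fun hg => ?_, fun ⟨v, hv⟩ => hv ▸ heJ v⟩
    let f : Fin 81 → D.J := fun v => ⟨e v, heJ v⟩
    have hf : Function.Bijective f :=
      ((Nat.bijective_iff_injective_and_card f).2 ⟨fun a b h => hinj (congrArg Subtype.val h),
        by rw [Nat.card_fin, D.hJcard]⟩)
    obtain ⟨v, hv⟩ := hf.2 ⟨g, hg⟩
    exact ⟨v, congrArg Subtype.val hv⟩
  refine ⟨{ toData := D, e := e, e_inj := hinj, e_add := he_add, memJ := hmemJ, eZ := ez, eW := ?_, uQ := ?_,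
            wconj := ⟨m, hm, ?_⟩ }, rfl⟩
  · intro g
    constructor
    · intro hg
      obtain ⟨v, hv⟩ := (hmemJ g).1 hg.1
      refine ⟨v, ?_, hv⟩
      by_contra hd
      have hd3 := code_small v 3
      have hwd3 : w ^ dg v 3 ∈ D.W := by
        have hh : z ^ dg v 0 * e₁ ^ dg v 1 * e₂ ^ dg v 2 ∈ D.W :=
          mul_mem (mul_mem (pow_mem (D.Z_le_W hzZ) _) (pow_mem he₁W _)) (pow_mem he₂W _)
        have := mul_mem (inv_mem hh) (hv ▸ hg : e v ∈ D.W)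
        rwa [show (z ^ dg v 0 * e₁ ^ dg v 1 * e₂ ^ dg v 2)⁻¹ * e v = w ^ dg v 3 by simp only [e]; group] at this
      have hc : dg v 3 = 1 ∨ dg v 3 = 2 := by
        have : dg v 3 < 3 := hd3
        omega
      rcases hc with r | r <;> rw [r] at hwd3
      · exact hout (by simpa using hwd3)
      · have := mul_mem hwd3 hwd3
        rw [← pow_add, show 2 + 2 = 3 + 1 from rfl, pow_succ, hp _ hwJ, one_mul] at this
        exact hout this
    · rintro ⟨v, hv, rfl⟩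
      show z ^ dg v 0 * e₁ ^ dg v 1 * e₂ ^ dg v 2 * w ^ dg v 3 ∈ D.W
      rw [hv, pow_zero, mul_one]
      exact mul_mem (mul_mem (pow_mem (D.Z_le_W hzZ) _) (pow_mem he₁W _)) (pow_mem he₂W _)
  · intro p
    have hgen1 : ∀ j : Fin 3, ∃ q ∈ D.Q, ∀ v, q * e v * q⁻¹ = e (actU ⟨j.val, by omega⟩ v) := by
      intro j
      fin_cases j
      · exact ⟨1, one_mem _, fun v => by simp [show (⟨0, by omega⟩ : Fin 9) = 0 from rfl, actU_zero v]⟩
      · exact ⟨q1, hq1, heq1⟩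
      · refine ⟨q1 * q1, mul_mem hq1 hq1, fun v => ?_⟩
        rw [show q1 * q1 * e v * (q1 * q1)⁻¹ = q1 * (q1 * e v * q1⁻¹) * q1⁻¹ by group, heq1, heq1]
        exact congrArg e (actU_gens 0 v).2.1.symm
    have hgen3 : ∀ j : Fin 3, ∃ q ∈ D.Q, ∀ v, q * e v * q⁻¹ = e (actU ⟨j.val * 3, by omega⟩ v) := by
      intro j
      fin_cases j
      · exact ⟨1, one_mem _, fun v => by simp [show (⟨0 * 3, by omega⟩ : Fin 9) = 0 from rfl, actU_zero v]⟩
      · exact ⟨q2, hq2, heq2⟩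
      · refine ⟨q2 * q2, mul_mem hq2 hq2, fun v => ?_⟩
        rw [show q2 * q2 * e v * (q2 * q2)⁻¹ = q2 * (q2 * e v * q2⁻¹) * q2⁻¹ by group, heq2, heq2]
        exact congrArg e (actU_gens 0 v).2.2.symm
    obtain ⟨a, ha, haq⟩ := hgen1 ⟨p.val % 3, by omega⟩
    obtain ⟨b, hb, hbq⟩ := hgen3 ⟨p.val / 3, by omega⟩
    refine ⟨a * b, mul_mem ha hb, fun v => ?_⟩
    rw [show a * b * e v * (a * b)⁻¹ = a * (b * e v * b⁻¹) * a⁻¹ by group, hbq, haq]
    exact congrArg e (actU_gens p v).1.symm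
  · have hz0 : z₀ ≠ 1 := fun h => hw1 (by rw [hwd, h, mul_one, mul_inv_cancel])
    have hZp : D.Z = zpowers z₀ := by
      refine (eq_of_le_of_card_ge (zpowers_le.2 hz₀) ?_).symm
      rw [D.card_Z, Nat.card_zpowers]
      have h3 : orderOf z₀ ∣ 3 := D.card_Z ▸ Subgroup.orderOf_dvd_natCard D.Z hz₀
      rcases (Nat.dvd_prime Nat.prime_three).1 h3 with h | h
      · exact absurd (orderOf_eq_one_iff.1 h) hz0
      · omega
    rw [hZp, MonoidHom.map_zpowers, d1, hwd]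
    rfl

end Cfsg.Lib.McLLocal
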