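import Cfsg.Agent.LocalThree.McLLocal.KData
import Mathlib.GroupTheory.SpecificGroups.Alternating

/-!
Actions of involutions used for fusion.
-/

set_option autoImplicit false
set_option maxRecDepth 100000
set_option synthInstance.maxSize 4096

namespace Cfsg.Lib.McLLocal

theorem code_pow : ∀ c : Fin 64,
    mulH (mulH (mulH c c) (mulH c c)) (mulH (mulH c c) (mulH c c)) = 0 := by decide +kernel

theorem invol_codes : mulH 2 2 = 0 ∧ mulH 35 35 = 0 ∧ mulH 35 8 = 59 ∧ mulH 59 59 = 0 ∧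
    (35 : Fin 64) ∈ codesB ∧ (59 : Fin 64) ∈ codesB ∧ (2 : Fin 64) ∈ codesB ∧ (8 : Fin 64) ∈ codesB ∧ mulH 8 8 = 16 ∧
    mulH (mulH (mulH 8 8) (mulH 8 8)) (mulH (mulH 8 8) (mulH 8 8)) = 0 ∧
    colZ 8 = 1 ∧ colW 8 = 27 ∧ colZ 2 = 2 ∧ colW 2 = 54 ∧ colZ 35 ∈ ([27, 54] : List (Fin 81)) ∧
    colW 35 ∈ ([1, 2] : List (Fin 81)) ∧ colZ 59 ∈ ([27, 54] : List (Fin 81)) ∧ colW 59 ∈ ([1, 2] : List (Fin 81)) := by
  decide +kernel

theorem middle_facts : ∀ v : Fin 81, (actH 2 v = v ↔ dg v 0 = 0 ∧ dg v 3 = 0) ∧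
    (actH 2 v = v → v ≠ 0 → ¬ Sing v) ∧ (actH 2 v = ng v → Sing v → v = 1 ∨ v = 2 ∨ v = 27 ∨ v = 54) ∧
    (actH 2 1 = ng 1 ∧ actH 2 27 = ng 27) := by decide +kernel

theorem middle_count : (Finset.univ.filter fun v : Fin 81 => actH 2 v = v).card = 9 := by decide +kernel

theorem square_fix : ∀ c ∈ codesB, ∀ v : Fin 81, dg v 1 = 0 → dg v 2 = 0 → actH 2 v = v → v = 0 := by
  intro c _
  decide +kernel

theorem six_invol : ∀ a : Equiv.Perm (Fin 6), a * a = 1 → Equiv.Perm.sign a = 1 → a ≠ 1 →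
    ∃ g : alternatingGroup (Fin 6), (g : Equiv.Perm (Fin 6)) * a * (g : Equiv.Perm (Fin 6))⁻¹ =
      Equiv.swap 0 1 * Equiv.swap 2 3 := by decide +kernel

end Cfsg.Lib.McLLocal
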