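import Cfsg.Agent.LocalThree.McLLocal.DoubleCover
import Cfsg.Agent.LocalThree.McLLocal.EightFacts
import Cfsg.Agent.LocalThree.McLLocal.SymData
import Cfsg.Agent.LocalThree.McLLocal.CoverFacts

/-!
Fusion of involutions when the centraliser maps onto the symmetric group of degree eight.
-/

set_option autoImplicit false
set_option linter.unusedSectionVars false
set_option maxRecDepth 100000
set_option synthInstance.maxSize 4096

namespace Cfsg.Lib.McLLocal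

open Subgroup Equiv
open scoped Pointwise commutatorElement

universe u

variable {G : Type u} [Group G] [Finite G]

/-- A maximal three-subgroup absorbs up to conjugation. -/
theorem conj_into_three {H P Q : Subgroup G} (hP : P ≤ H) (hPp : IsPGroup 3 P)
    (hmax : ∀ Y : Subgroup G, IsPGroup 3 Y → P ≤ Y → Y ≤ H → Y = P) (hQ : Q ≤ H) (hQp : IsPGroup 3 Q) :
    ∃ c ∈ H, ∀ q ∈ Q, c * q * c⁻¹ ∈ P := by
  haveI := fact_three
  obtain ⟨S, hS⟩ := (hPp.of_equiv (Subgroup.subgroupOfEquivOfLe hP).symm).exists_le_sylow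
  have hSP : (S : Subgroup H).map H.subtype = P := hmax _ (S.isPGroup'.map _)
    (fun x hx => ⟨⟨x, hP hx⟩, hS hx, rfl⟩) (Subgroup.map_subtype_le _)
  obtain ⟨R, hR⟩ := (hQp.of_equiv (Subgroup.subgroupOfEquivOfLe hQ).symm).exists_le_sylow
  obtain ⟨c, hc⟩ := MulAction.exists_smul_eq H R S
  refine ⟨c, c.2, fun q hq => ?_⟩
  rw [← hSP, ← hc, Sylow.coe_subgroup_smul]
  exact ⟨c * ⟨q, hQ hq⟩ * c⁻¹, ⟨⟨q, hQ hq⟩, hR hq, rfl⟩, rfl⟩

/-- The symmetric case. -/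
structure Sym (G : Type u) [Group G] [Finite G] extends Inv G where
  hP : toInv.toTop.toFrame.PointCond
  hB : ¬ toInv.CaseA
  X : Subgroup G
  X_le : X ≤ toInv.toTop.H
  t_X : t ∈ X
  cover : Cfsg.IsNonsplitDoubleCover X (alternatingGroup (Fin 8))
  ρ : ↥toInv.toTop.H →* Perm (Fin 8)
  ρ_surj : Function.Surjective ρ
  ρ_ker : ∀ h, ρ h = 1 ↔ (h : G) = 1 ∨ (h : G) = t
  X_iff : ∀ h : ↥toInv.toTop.H, (h : G) ∈ X ↔ Perm.sign (ρ h) = 1

theorem exists_Sym {I : Inv G} (hP : I.toFrame.PointCond) (hB : ¬ I.CaseA) : ∃ T : Sym G, T.toInv = I := by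
  obtain ⟨X, hX, ht, -, hc, ⟨hA, -⟩ | ⟨-, ρ, hs, hk, hi⟩⟩ := I.exists_part hP
  · exact absurd hA hB
  · exact ⟨⟨I, hP, hB, X, hX, ht, hc, ρ, hs, hk, hi⟩, rfl⟩

namespace Sym

variable (T : Sym G)

theorem rho_eq {a b : ↥T.toTop.H} (h : T.ρ a = T.ρ b) : (a : G) = b ∨ (a : G) = b * T.t := by
  have h1 : T.ρ (b⁻¹ * a) = 1 := by rw [map_mul, map_inv, h, inv_mul_cancel]
  rcases (T.ρ_ker _).1 h1 with r | r
  · exact Or.inl (inv_mul_eq_one.1 r).symm
  · exact Or.inr (inv_mul_eq_iff_eq_mul.1 r)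

theorem rho_t : T.ρ ⟨T.t, T.toInv.t_mem_H⟩ = 1 := (T.ρ_ker _).2 (Or.inr rfl)

/-- The image of an element of the fixed part. -/
noncomputable def rd (d : T.toTop.D) : Perm (Fin 8) := T.ρ ⟨d, T.toInv.D_le_H d.2⟩

/-- The image of the fixed part. -/
noncomputable def DI : Subgroup (Perm (Fin 8)) := (T.toTop.D.subgroupOf T.toTop.H).map T.ρ

theorem rd_inj : Function.Injective T.rd := by
  intro a b h
  rcases T.rho_eq h with r | r
  · exact Subtype.ext r
  · exact (T.toInv.order_three_eq (T.toInv.pow_three_D b.2) (T.toInv.pow_three_D a.2) (T.toInv.comm_H (T.toInv.D_le_H b.2)) r).elim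

theorem card_DI : Nat.card T.DI = 9 := by
  rw [← T.toTop.card_D]
  refine (Nat.card_congr (Equiv.ofBijective (fun d : T.toTop.D => (⟨T.rd d, ⟨_, mem_subgroupOf.2 d.2, rfl⟩⟩ : T.DI))
    ⟨fun a b h => T.rd_inj (congrArg Subtype.val h), fun x => ?_⟩)).symm
  obtain ⟨x, a, ha, rfl⟩ := x
  exact ⟨⟨a, mem_subgroupOf.1 ha⟩, rfl⟩

theorem commute_of_rho {x : G} (hx : x ∈ T.toTop.H) {d : G} (hd : d ∈ T.toTop.H) (h3 : d ^ 3 = 1)
    (h : T.ρ ⟨x, hx⟩ * T.ρ ⟨d, hd⟩ = T.ρ ⟨d, hd⟩ * T.ρ ⟨x, hx⟩) : Commute x d := by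
  rw [← map_mul, ← map_mul] at h
  rcases T.rho_eq h with r | r
  · exact r
  · exfalso
    change x * d = d * x * T.t at r
    have e : x * d * x⁻¹ = d * T.t := by
      rw [r, mul_assoc (d * x), ← (show Commute x⁻¹ T.t from (T.toInv.comm_H hx).inv_left).eq]
      group
    exact T.toInv.order_three_eq h3 (d' := x * d * x⁻¹) (by rw [conj_pow, h3, mul_one, mul_inv_cancel])
      (T.toInv.comm_H hd) e

/-- No involution other than the given one fixes a conjugate of the fixed part. -/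
theorem no_three_fix {x : G} (hx : x ∈ T.toTop.H) (h2 : x * x = 1) (h1 : x ≠ 1) (ht : x ≠ T.t) {h : G}
    (hh : h ∈ T.toTop.H) : ¬ ∀ d ∈ T.toTop.D, Commute x (h * d * h⁻¹) := by
  intro hc
  obtain ⟨x', hx'⟩ : ∃ x', x' = h⁻¹ * x * h := ⟨_, rfl⟩
  have hx'H : x' ∈ T.toTop.H := hx' ▸ mul_mem (mul_mem (inv_mem hh) hx) hh
  have hcd : ∀ d ∈ T.toTop.D, Commute x' d := fun d hd => by
    show x' * d = d * x'
    calc x' * d = h⁻¹ * (x * (h * d * h⁻¹)) * h := by rw [hx']; group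
      _ = h⁻¹ * ((h * d * h⁻¹) * x) * h := by rw [(hc d hd).eq]
      _ = d * x' := by rw [hx']; group
  have hM : x' ∈ T.toTop.H ⊓ T.toData.M := mem_inf.2 ⟨hx'H, T.toInv.norm_D_mem T.hP hx'H fun d hd => by
    rw [(hcd d hd).eq, mul_inv_cancel_right]; exact hd⟩
  obtain ⟨c, hca⟩ := T.toInv.exists_code hM
  obtain ⟨n1, -, -, n27⟩ := named_vectors.2.2.2.2.2.2.2 c
  have fixd : ∀ v, T.e v ∈ T.toTop.D → actH c v = v := fun v hv => T.e_inj (by
    rw [← hca v, (hcd _ hv).eq, mul_inv_cancel_right])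
  have hc4 := T.toInv.fix_code hx'H hca (n1 ▸ fixd 1 T.toTop.e1_mem_D) (n27 ▸ fixd 27 T.toTop.e27_mem_D)
  have hx2 : x' * x' = 1 := by
    rw [hx', show h⁻¹ * x * h * (h⁻¹ * x * h) = h⁻¹ * (x * x) * h by group, h2, mul_one, inv_mul_cancel]
  have hc2 : mulH c c = 0 := T.toTop.toFrame.code_unique (T.toTop.toFrame.acts_H_mul hca hca)
    (fun v => by rw [hx2, actH_zero]; exact T.toTop.toFrame.acts_one v)
  have small : ∀ y ∈ T.toTop.D, y * y = 1 → y = 1 := fun y hy hy2 => by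
    calc y = (y * y)⁻¹ * y ^ 3 := by group
      _ = 1 := by rw [hy2, T.toInv.pow_three_D hy, inv_one, one_mul]
  have hback : ∀ a, x' = a → Commute h a → x = a := fun a e hcm => by
    have : x = h * x' * h⁻¹ := by rw [hx']; group
    rw [this, e, hcm.eq, mul_inv_cancel_right]
  simp only [List.mem_cons, List.not_mem_nil, or_false] at hc4
  rcases hc4 with r | r | r | r <;> subst r
  · exact h1 (hback 1 (small _ (T.toInv.code_zero hx'H hca) hx2) (Commute.one_right h))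
  · exact absurd hc2 (by decide +kernel)
  · have h0 := T.toTop.toFrame.acts_H_mul T.hta hca
    rw [base_closed.2.2.2.2.2.2] at h0
    have hd := T.toInv.code_zero (mul_mem T.toInv.t_mem_H hx'H) h0
    have hct : Commute T.t x' := (T.toInv.comm_H hx'H).symm
    have h1' := small _ hd (by
      rw [mul_assoc, ← mul_assoc x', ← hct.eq, mul_assoc T.t x', hx2, mul_one, T.ht])
    exact ht (hback T.t (eq_inv_of_mul_eq_one_right h1' |>.trans T.toTop.t_inv) (T.toInv.comm_H hh))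
  · exact absurd hc2 (by decide +kernel)

theorem not_swap {x : G} (hx : x ∈ T.toTop.H) (h2 : x * x = 1) (h1 : x ≠ 1) (ht : x ≠ T.t) :
    ¬ IsConj (T.ρ ⟨x, hx⟩) tau := by
  intro hc
  obtain ⟨π, hπ⟩ := isConj_iff.1 hc.symm
  obtain ⟨k, hk⟩ := sylow_conj T.card_DI (R := nineG.map (MulAut.conj π).toMonoidHom) (by
    rw [← Nat.card_congr (Subgroup.equivMapOfInjective _ _ (MulAut.conj π).injective).toEquiv, card_nine])
  obtain ⟨h, hh⟩ := T.ρ_surj k
  refine T.no_three_fix hx h2 h1 ht h.2 fun d hd => ?_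
  refine T.commute_of_rho hx (mul_mem (mul_mem h.2 (T.toInv.D_le_H hd)) (inv_mem h.2))
    (by rw [conj_pow, T.toInv.pow_three_D hd, mul_one, mul_inv_cancel]) ?_
  have hρ : T.ρ ⟨(h : G) * d * (h : G)⁻¹, mul_mem (mul_mem h.2 (T.toInv.D_le_H hd)) (inv_mem h.2)⟩ =
      k * T.rd ⟨d, hd⟩ * k⁻¹ := by
    rw [← hh, rd, ← map_inv, ← map_mul, ← map_mul]
    exact congrArg T.ρ (Subtype.ext rfl)
  rw [hρ]
  have hm : k * T.rd ⟨d, hd⟩ * k⁻¹ ∈ nineG.map (MulAut.conj π).toMonoidHom :=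
    hk ▸ ⟨_, ⟨⟨d, T.toInv.D_le_H hd⟩, mem_subgroupOf.2 hd, rfl⟩, rfl⟩
  obtain ⟨σ, hσ, e⟩ := hm
  rw [← e, ← hπ]
  obtain ⟨a, b, rfl⟩ := mem_nine.1 hσ
  obtain ⟨-, -, -, t1, t2, -⟩ := nine_facts
  have hcm : Commute tau (c1 ^ a.val * c2 ^ b.val) :=
    ((show Commute tau c1 from t1).pow_right _).mul_right ((show Commute tau c2 from t2).pow_right _)
  exact (hcm.conj π).eq

theorem cent_img_card : Nat.card (centralizer ({T.rd ⟨_, T.toTop.e1_mem_D⟩} : Set (Perm (Fin 8)))) = 360 := by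
  have hz3 : T.e 1 ^ 3 = 1 := T.toInv.pow_three_D T.toTop.e1_mem_D
  let f : ↥T.toInv.C0 →* centralizer ({T.rd ⟨_, T.toTop.e1_mem_D⟩} : Set (Perm (Fin 8))) :=
    (T.ρ.comp (Subgroup.inclusion inf_le_left)).codRestrict _ fun c => by
      refine mem_centralizer_singleton_iff.2 ?_
      show T.ρ _ * T.ρ _ = T.ρ _ * T.ρ _
      rw [← map_mul, ← map_mul]
      exact congrArg T.ρ (Subtype.ext (mem_centralizer_iff.1 (mem_inf.1 c.2).2 _ ((T.eZ _).2 ⟨1, rfl⟩)).symm)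
  have hf : Function.Surjective f := by
    rintro ⟨σ, hσ⟩
    obtain ⟨h, hh⟩ := T.ρ_surj σ
    have hc : Commute (h : G) (T.e 1) := T.commute_of_rho h.2 (T.toInv.D_le_H T.toTop.e1_mem_D) hz3 (by
      rw [show (⟨(h : G), h.2⟩ : ↥T.toTop.H) = h from rfl, hh]
      exact mem_centralizer_singleton_iff.1 hσ)
    refine ⟨⟨h, mem_inf.2 ⟨h.2, mem_centralizer_iff.2 fun z hz => ?_⟩⟩, Subtype.ext hh⟩
    obtain ⟨k, rfl⟩ := (T.eZ _).1 hz
    rw [T.toTop.toFrame.e_sc]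
    exact (hc.pow_right k.val).eq.symm
  have h := card_eq_card_quotient_mul_card_subgroup f.ker
  rw [Nat.card_congr (QuotientGroup.quotientKerEquivOfSurjective f hf).toEquiv, T.toInv.card_C0_B T.hB] at h
  have h2 : Nat.card f.ker = 2 := by
    refine Nat.card_eq_two_iff.2 ⟨⟨1, one_mem _⟩, ⟨⟨T.t, T.toInv.t_C0⟩, Subtype.ext T.rho_t⟩, ?_, ?_⟩
    · intro e
      exact T.toTop.ht1 (congrArg (fun a : f.ker => ((a : ↥T.toInv.C0) : G)) e).symm
    · refine Set.eq_univ_iff_forall.2 fun a => ?_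
      rcases (T.ρ_ker _).1 (congrArg Subtype.val a.2) with r | r
      · exact Or.inl (Subtype.ext (Subtype.ext r))
      · exact Or.inr (Subtype.ext (Subtype.ext r))
  rw [h2] at h
  omega

theorem swap_mem : ∃ s ∈ T.toInv.ND, s * s = 1 ∧ s ∈ T.M₀ ∧ T.toTop.toFrame.Acts s (actH 35) := by
  obtain ⟨g, hgM, hg⟩ := T.toTop.toFrame.exists_M₀ 35 (by decide)
  obtain ⟨j, hj, hcomm, hact⟩ := T.toTop.toFrame.lift_comm T.ht T.hta hg
  obtain ⟨a, ha⟩ : ∃ a, a = j⁻¹ * g := ⟨_, rfl⟩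
  rw [← ha] at hcomm hact
  have haH := T.toInv.mem_H hcomm
  have ha2 := T.toTop.toFrame.acts_H_mul hact hact
  rw [invol_codes.2.1] at ha2
  have hd := T.toInv.code_zero (mul_mem haH haH) ha2
  have hM0 : a ∈ T.M₀ := ha ▸ mul_mem (inv_mem (T.hJM hj)) hgM
  refine ⟨a * a * a, mul_mem (mul_mem ?_ ?_) ?_, ?_, mul_mem (mul_mem hM0 hM0) hM0, ?_⟩
  iterate 3 exact mem_inf.2 ⟨haH, T.toTop.toFrame.acts_mem hact⟩
  · calc a * a * a * (a * a * a) = (a * a) ^ 3 := by rw [pow_succ, pow_two]; group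
      _ = 1 := T.toInv.pow_three_D hd
  · exact fun v => (T.toTop.toFrame.acts_mul (T.toTop.toFrame.acts_J hd.1) hact v).trans rfl

theorem invol_lift {c : Fin 64} (hc : c ∈ codesB) (h2 : mulH c c = 0) :
    ∃ g ∈ T.toInv.ND, g * g = 1 ∧ T.toTop.toFrame.Acts g (actH c) := by
  obtain ⟨a, ha, hact⟩ := T.toInv.exists_B T.hB c hc
  have ha2 := T.toTop.toFrame.acts_H_mul hact hact
  rw [h2] at ha2
  have hd := T.toInv.code_zero (mul_mem (mem_inf.1 ha).1 (mem_inf.1 ha).1) ha2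
  refine ⟨a * a * a, mul_mem (mul_mem ha ha) ha, ?_, ?_⟩
  · calc a * a * a * (a * a * a) = (a * a) ^ 3 := by rw [pow_succ, pow_two]; group
      _ = 1 := T.toInv.pow_three_D hd
  · exact fun v => (T.toTop.toFrame.acts_mul (T.toTop.toFrame.acts_J hd.1) hact v).trans rfl

theorem exists_g8 : ∃ g ∈ T.toInv.ND, g * g = T.t ∧ ∀ d ∈ T.toTop.D, Commute g d := by
  obtain ⟨a, ha, hact⟩ := T.toInv.exists_eight T.hB
  have haH := (mem_inf.1 ha).1
  have ha2 := T.toTop.toFrame.acts_H_mul hact hact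
  rw [four_facts.1] at ha2
  have ha0 := T.toTop.toFrame.acts_H_mul T.hta ha2
  rw [base_closed.2.2.2.2.2.2] at ha0
  have hd := T.toInv.code_zero (mul_mem T.toInv.t_mem_H (mul_mem haH haH)) ha0
  obtain ⟨d, hdd⟩ : ∃ d, d = T.t * (a * a) := ⟨_, rfl⟩
  rw [← hdd] at hd
  have haa : a * a = T.t * d := by rw [hdd, ← mul_assoc, T.ht, one_mul]
  have hct : Commute T.t d := (T.toInv.comm_H (T.toInv.D_le_H hd)).symm
  have h3 := T.toInv.pow_three_D hd
  refine ⟨a * a * a, mul_mem (mul_mem ha ha) ha, ?_, ?_⟩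
  · calc a * a * a * (a * a * a) = (a * a) ^ 3 := by rw [pow_succ, pow_two]; group
      _ = T.t ^ 3 * d ^ 3 := by rw [haa, hct.mul_pow]
      _ = T.t := by rw [h3, mul_one, pow_succ, pow_two, T.ht, one_mul]
  · intro e he
    have hc : a ∈ centralizer (T.toTop.D : Set G) := (T.toInv.dh_iff_cent ⟨a, ha⟩).1 (by
      rw [T.toInv.code_eq (g := ⟨a, ha⟩) hact]
      exact dh_ker' 8 (by decide +kernel) (by decide +kernel))
    have hce : Commute a e := (mem_centralizer_iff.1 hc e he).symm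
    exact (hce.mul_left hce).mul_left hce

end Sym

end Cfsg.Lib.McLLocal
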