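import Cfsg.Agent.LocalThree.McLLocal.Fusion
import Cfsg.Agent.Transfer.ThompsonTransfer

/-!
The involutions of the double cover are fused; an involution outside it is not.
-/

set_option autoImplicit false
set_option linter.unusedSectionVars false
set_option maxRecDepth 100000
set_option synthInstance.maxSize 4096

namespace Cfsg.Lib.McLLocal

open Subgroup Equiv
open scoped Pointwise commutatorElement

universe u

variable {G : Type u} [Group G] [Finite G]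

theorem nine_axes : ∀ a b : Fin 3, c1 ^ a.val * c2 ^ b.val ≠ 1 →
    (a = 0 → (c1 ^ a.val * c2 ^ b.val = c2 ∨ c1 ^ a.val * c2 ^ b.val = c2⁻¹)) ∧
    (b = 0 → (c1 ^ a.val * c2 ^ b.val = c1 ∨ c1 ^ a.val * c2 ^ b.val = c1⁻¹)) := by decide +kernel

/-- The exchange of the two three-cycles. -/
def swapAxes : Perm (Fin 8) := swap 0 3 * swap 1 4 * swap 2 5

theorem axes_swap : swapAxes * c1 * swapAxes⁻¹ = c2 ∧ swapAxes * c2 * swapAxes⁻¹ = c1 := by decide +kernel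

namespace Sym

variable (T : Sym G)

theorem exists_axes : ∃ π : Perm (Fin 8),
    (π⁻¹ * T.rd ⟨_, T.toTop.e1_mem_D⟩ * π = c1 ∨ π⁻¹ * T.rd ⟨_, T.toTop.e1_mem_D⟩ * π = c1⁻¹) ∧
    (π⁻¹ * T.rd ⟨_, T.toTop.e27_mem_D⟩ * π = c2 ∨ π⁻¹ * T.rd ⟨_, T.toTop.e27_mem_D⟩ * π = c2⁻¹) := by
  obtain ⟨k, hk⟩ := sylow_conj card_nine T.card_DI
  obtain ⟨z, hz⟩ : ∃ z, z = T.rd ⟨_, T.toTop.e1_mem_D⟩ := ⟨_, rfl⟩
  obtain ⟨w, hw⟩ : ∃ w, w = T.rd ⟨_, T.toTop.e27_mem_D⟩ := ⟨_, rfl⟩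
  have hmem : ∀ d : T.toTop.D, ∃ a b : Fin 3, k⁻¹ * T.rd d * k = c1 ^ a.val * c2 ^ b.val := by
    intro d
    have h : T.rd d ∈ nineG.map (MulAut.conj k).toMonoidHom := hk.symm ▸ ⟨_, mem_subgroupOf.2 d.2, rfl⟩
    obtain ⟨σ, hσ, e⟩ := h
    obtain ⟨a, b, rfl⟩ := mem_nine.1 hσ
    exact ⟨a, b, by rw [← e]; show k⁻¹ * (k * _ * k⁻¹) * k = _; group⟩
  have hne : ∀ d : T.toTop.D, (d : G) ≠ 1 → T.rd d ≠ 1 := fun d hd h => hd (congrArg Subtype.val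
    (T.rd_inj (a₁ := d) (a₂ := ⟨1, one_mem _⟩) (h.trans (map_one T.ρ).symm)))
  have axis : ∀ d : T.toTop.D, (d : G) ≠ 1 → Nat.card (centralizer ({T.rd d} : Set (Perm (Fin 8)))) = 360 →
      ∃ a b : Fin 3, k⁻¹ * T.rd d * k = c1 ^ a.val * c2 ^ b.val ∧ c1 ^ a.val * c2 ^ b.val ≠ 1 ∧ (a = 0 ∨ b = 0) := by
    intro d hd hcard
    obtain ⟨a, b, e⟩ := hmem d
    have h1 : c1 ^ a.val * c2 ^ b.val ≠ 1 := fun h => hne d hd (by
      calc T.rd d = k * (k⁻¹ * T.rd d * k) * k⁻¹ := by group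
        _ = 1 := by rw [e, h]; group)
    refine ⟨a, b, e, h1, ?_⟩
    by_contra hcon
    push Not at hcon
    have h36 := (three_type a b h1).2 hcon.1 hcon.2
    have hmap : (centralizer ({T.rd d} : Set (Perm (Fin 8)))).map (MulAut.conj k⁻¹).toMonoidHom ≤
        centralizer ({c1 ^ a.val * c2 ^ b.val} : Set (Perm (Fin 8))) := by
      rintro _ ⟨σ, hσ, rfl⟩
      rw [← e]
      refine mem_centralizer_singleton_iff.2 ?_
      show k⁻¹ * σ * k⁻¹⁻¹ * (k⁻¹ * T.rd d * k) = k⁻¹ * T.rd d * k * (k⁻¹ * σ * k⁻¹⁻¹)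
      calc k⁻¹ * σ * k⁻¹⁻¹ * (k⁻¹ * T.rd d * k) = k⁻¹ * (σ * T.rd d) * k := by group
        _ = k⁻¹ * (T.rd d * σ) * k := by rw [mem_centralizer_singleton_iff.1 hσ]
        _ = _ := by group
    have := card_le_of_le hmap
    rw [← Nat.card_congr (Subgroup.equivMapOfInjective _ _ (MulAut.conj k⁻¹).injective).toEquiv, hcard, h36] at this
    omega
  have hz1 : T.e 1 ≠ 1 := T.toTop.toFrame.e_ne named_vectors.1
  have hw1 : T.e 27 ≠ 1 := T.toTop.toFrame.e_ne named_vectors.2.1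
  -- the swap carries the first to the second
  obtain ⟨s, hs, -, -, hsa⟩ := T.swap_mem
  have hsH := (mem_inf.1 hs).1
  have hsz : s * T.e 1 * s⁻¹ = T.e 27 ∨ s * T.e 1 * s⁻¹ = (T.e 27)⁻¹ := by
    rw [hsa 1, (named_vectors.2.2.2.2.2.2.2 35).1, ← T.toTop.toFrame.e_inv]
    have := invol_codes.2.2.2.2.2.2.2.2.2.2.2.2.2.2.1
    simp only [List.mem_cons, List.not_mem_nil, or_false] at this
    rcases this with r | r <;> rw [r]
    · exact Or.inl rfl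
    · exact Or.inr (congrArg T.e named_vectors.2.2.2.1.symm)
  have hwc : Nat.card (centralizer ({T.rd ⟨_, T.toTop.e27_mem_D⟩} : Set (Perm (Fin 8)))) = 360 := by
    obtain ⟨r, hr⟩ : ∃ r, r = T.ρ ⟨s, hsH⟩ := ⟨_, rfl⟩
    have himg : ∀ x, (x = T.e 27 ∨ x = (T.e 27)⁻¹) → s * T.e 1 * s⁻¹ = x → ∀ hx : x ∈ T.toTop.H,
        T.ρ ⟨x, hx⟩ = r * T.rd ⟨_, T.toTop.e1_mem_D⟩ * r⁻¹ := by
      intro x _ e hx
      rw [hr, rd, ← map_inv, ← map_mul, ← map_mul]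
      exact congrArg T.ρ (Subtype.ext e.symm)
    have hset : centralizer ({T.rd ⟨_, T.toTop.e27_mem_D⟩} : Set (Perm (Fin 8))) =
        (centralizer ({T.rd ⟨_, T.toTop.e1_mem_D⟩} : Set (Perm (Fin 8)))).map (MulAut.conj r).toMonoidHom := by
      ext σ
      have hw' : T.rd ⟨_, T.toTop.e27_mem_D⟩ = r * T.rd ⟨_, T.toTop.e1_mem_D⟩ * r⁻¹ ∨
          (T.rd ⟨_, T.toTop.e27_mem_D⟩)⁻¹ = r * T.rd ⟨_, T.toTop.e1_mem_D⟩ * r⁻¹ := by
        rcases hsz with e | e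
        · exact Or.inl (himg _ (Or.inl rfl) e (T.toInv.D_le_H T.toTop.e27_mem_D))
        · refine Or.inr ?_
          rw [← himg _ (Or.inr rfl) e (inv_mem (T.toInv.D_le_H T.toTop.e27_mem_D)), rd, ← map_inv]
          exact congrArg T.ρ (Subtype.ext rfl)
      have hiff : Commute σ (T.rd ⟨_, T.toTop.e27_mem_D⟩) ↔ Commute σ (r * T.rd ⟨_, T.toTop.e1_mem_D⟩ * r⁻¹) := by
        rcases hw' with e | e
        · rw [e]
        · rw [← e, Commute.inv_right_iff]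
      rw [mem_centralizer_singleton_iff]
      constructor
      · intro h
        refine ⟨r⁻¹ * σ * r, mem_centralizer_singleton_iff.2 ?_, by show r * (r⁻¹ * σ * r) * r⁻¹ = σ; group⟩
        have h' := (hiff.1 h).eq
        calc r⁻¹ * σ * r * T.rd ⟨_, T.toTop.e1_mem_D⟩ = r⁻¹ * (σ * (r * T.rd ⟨_, T.toTop.e1_mem_D⟩ * r⁻¹)) * r := by group
          _ = r⁻¹ * ((r * T.rd ⟨_, T.toTop.e1_mem_D⟩ * r⁻¹) * σ) * r := by rw [h']
          _ = _ := by group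
      · rintro ⟨τ, hτ, rfl⟩
        exact (hiff.2 ((show Commute τ _ from mem_centralizer_singleton_iff.1 hτ).conj r)).eq
    rw [hset, ← Nat.card_congr (Subgroup.equivMapOfInjective _ _ (MulAut.conj r).injective).toEquiv]
    exact T.cent_img_card
  obtain ⟨a, b, ea, na, ha⟩ := axis ⟨_, T.toTop.e1_mem_D⟩ hz1 T.cent_img_card
  obtain ⟨a', b', ew, nw, hb⟩ := axis ⟨_, T.toTop.e27_mem_D⟩ hw1 hwc
  -- the two lie on different axes
  have hdiff : ¬ (a = 0 ∧ a' = 0) ∧ ¬ (b = 0 ∧ b' = 0) := by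
    have key : ∀ x y : Perm (Fin 8), (x = y ∨ x = y⁻¹) →
        k⁻¹ * T.rd ⟨_, T.toTop.e1_mem_D⟩ * k = x → k⁻¹ * T.rd ⟨_, T.toTop.e27_mem_D⟩ * k = y → False := by
      intro x y hxy e1 e2
      have e3 : T.rd ⟨_, T.toTop.e1_mem_D⟩ = T.rd ⟨_, T.toTop.e27_mem_D⟩ ∨
          T.rd ⟨_, T.toTop.e1_mem_D⟩ = T.rd ⟨_, inv_mem T.toTop.e27_mem_D⟩ := by
        have hinv : T.rd ⟨_, inv_mem T.toTop.e27_mem_D⟩ = (T.rd ⟨_, T.toTop.e27_mem_D⟩)⁻¹ := by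
          rw [rd, rd, ← map_inv]; exact congrArg T.ρ (Subtype.ext rfl)
        rw [hinv]
        rcases hxy with r | r
        · left
          calc T.rd ⟨_, T.toTop.e1_mem_D⟩ = k * (k⁻¹ * T.rd ⟨_, T.toTop.e1_mem_D⟩ * k) * k⁻¹ := by group
            _ = _ := by rw [e1, r, ← e2]; group
        · right
          calc T.rd ⟨_, T.toTop.e1_mem_D⟩ = k * (k⁻¹ * T.rd ⟨_, T.toTop.e1_mem_D⟩ * k) * k⁻¹ := by group
            _ = _ := by rw [e1, r, ← e2]; group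
      rcases e3 with r | r
      · exact absurd (T.e_inj (congrArg Subtype.val (T.rd_inj r))) (by decide +kernel)
      · have := congrArg Subtype.val (T.rd_inj r)
        rw [show ((⟨_, inv_mem T.toTop.e27_mem_D⟩ : T.toTop.D) : G) = (T.e 27)⁻¹ from rfl, ← T.toTop.toFrame.e_inv] at this
        exact absurd (T.e_inj this) (by decide +kernel)
    refine ⟨fun h => ?_, fun h => ?_⟩
    · rcases (nine_axes a b na).1 h.1 with r | r <;> rcases (nine_axes a' b' nw).1 h.2 with r' | r' <;>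
        refine key _ _ ?_ ea ew <;> rw [r, r'] <;> simp
    · rcases (nine_axes a b na).2 h.1 with r | r <;> rcases (nine_axes a' b' nw).2 h.2 with r' | r' <;>
        refine key _ _ ?_ ea ew <;> rw [r, r'] <;> simp
  by_cases hb0 : b = 0
  · have hb'0 : b' ≠ 0 := fun h => hdiff.2 ⟨hb0, h⟩
    exact ⟨k, ea ▸ (nine_axes a b na).2 hb0, ew ▸ (nine_axes a' b' nw).1 (hb.resolve_right hb'0)⟩
  · have ha0 := ha.resolve_right hb0
    have hb'0 : b' = 0 := hb.resolve_left fun h => hdiff.1 ⟨ha0, h⟩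
    obtain ⟨σ, hσ⟩ : ∃ σ, σ = swapAxes := ⟨_, rfl⟩
    obtain ⟨s1, s2⟩ := hσ ▸ axes_swap
    have i1 : σ * c1⁻¹ * σ⁻¹ = c2⁻¹ := by rw [← s1]; group
    have i2 : σ * c2⁻¹ * σ⁻¹ = c1⁻¹ := by rw [← s2]; group
    refine ⟨k * σ⁻¹, ?_, ?_⟩
    · rw [show (k * σ⁻¹)⁻¹ * T.rd ⟨_, T.toTop.e1_mem_D⟩ * (k * σ⁻¹) =
        σ * (k⁻¹ * T.rd ⟨_, T.toTop.e1_mem_D⟩ * k) * σ⁻¹ by group, ea]
      rcases (nine_axes a b na).1 ha0 with r | r <;> rw [r]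
      · exact Or.inl s2
      · exact Or.inr i2
    · rw [show (k * σ⁻¹)⁻¹ * T.rd ⟨_, T.toTop.e27_mem_D⟩ * (k * σ⁻¹) =
        σ * (k⁻¹ * T.rd ⟨_, T.toTop.e27_mem_D⟩ * k) * σ⁻¹ by group, ew]
      rcases (nine_axes a' b' nw).2 hb'0 with r | r <;> rw [r]
      · exact Or.inl s1
      · exact Or.inr i1

theorem rho_sq {x : G} (hx : x ∈ T.toTop.H) (h : x * x = 1 ∨ x * x = T.t) : T.ρ ⟨x, hx⟩ * T.ρ ⟨x, hx⟩ = 1 := by
  rw [← map_mul]
  exact (T.ρ_ker _).2 h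

theorem rho_conj {x : G} (hx : x ∈ T.toTop.H) {d d' : G} (hd : d ∈ T.toTop.D) (hd' : d' ∈ T.toTop.D)
    (h : x * d * x⁻¹ = d') : T.ρ ⟨x, hx⟩ * T.rd ⟨d, hd⟩ * (T.ρ ⟨x, hx⟩)⁻¹ = T.rd ⟨d', hd'⟩ := by
  rw [rd, rd, ← map_inv, ← map_mul, ← map_mul]
  exact congrArg T.ρ (Subtype.ext h)

theorem g8_odd : ∃ g ∈ T.toInv.ND, g * g = T.t ∧ (∀ d ∈ T.toTop.D, Commute g d) ∧
    ∀ hg : g ∈ T.toTop.H, Perm.sign (T.ρ ⟨g, hg⟩) = -1 := by
  obtain ⟨g, hg, hsq, hc⟩ := T.exists_g8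
  refine ⟨g, hg, hsq, hc, fun hgH => ?_⟩
  obtain ⟨π, h1, h2⟩ := T.exists_axes
  rcases Int.units_eq_one_or (Perm.sign (T.ρ ⟨g, hgH⟩)) with hs | hs
  swap
  · exact hs
  exfalso
  obtain ⟨σ, hσ⟩ : ∃ σ, σ = π⁻¹ * T.ρ ⟨g, hgH⟩ * π := ⟨_, rfl⟩
  have hσ2 : σ * σ = 1 := by
    rw [hσ, show π⁻¹ * T.ρ ⟨g, hgH⟩ * π * (π⁻¹ * T.ρ ⟨g, hgH⟩ * π) = π⁻¹ * (T.ρ ⟨g, hgH⟩ * T.ρ ⟨g, hgH⟩) * π by group,
      T.rho_sq hgH (Or.inr hsq)]
    group
  have hcm : ∀ (d : G) (hd : d ∈ T.toTop.D) (c : Perm (Fin 8)),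
      (π⁻¹ * T.rd ⟨d, hd⟩ * π = c ∨ π⁻¹ * T.rd ⟨d, hd⟩ * π = c⁻¹) → σ * c = c * σ := by
    intro d hd c hc'
    have he : Commute (T.ρ ⟨g, hgH⟩) (T.rd ⟨d, hd⟩) :=
      mul_inv_eq_iff_eq_mul.1 (T.rho_conj hgH hd hd (by rw [(hc d hd).eq, mul_inv_cancel_right]))
    have h' : Commute σ (π⁻¹ * T.rd ⟨d, hd⟩ * π) := by
      rw [hσ]
      simpa using he.conj π⁻¹
    rcases hc' with r | r <;> rw [r] at h'
    · exact h'.eq
    · exact (Commute.inv_right_iff.1 h').eq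
  have hσ1 := cent_nine hσ2 (by rw [hσ, map_mul, map_mul, map_inv, hs, mul_one, inv_mul_cancel])
    (hcm _ T.toTop.e1_mem_D _ h1) (hcm _ T.toTop.e27_mem_D _ h2)
  have : T.ρ ⟨g, hgH⟩ = 1 := by
    calc T.ρ ⟨g, hgH⟩ = π * σ * π⁻¹ := by rw [hσ]; group
      _ = 1 := by rw [hσ1]; group
  rcases (T.ρ_ker _).1 this with r | r
  · change g = 1 at r
    rw [r, one_mul] at hsq
    exact T.toTop.ht1 hsq.symm
  · change g = T.t at r
    rw [r, T.ht] at hsq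
    exact T.toTop.ht1 hsq.symm

theorem even_fpf_exists : ∃ r ∈ T.X, r * r = 1 ∧ r ≠ 1 ∧ r ≠ T.t ∧ ∀ hr : r ∈ T.toTop.H, ∀ x, T.ρ ⟨r, hr⟩ x ≠ x := by
  obtain ⟨π, h1, h2⟩ := T.exists_axes
  obtain ⟨g, hg, hgsq, hgc, hgodd⟩ := T.g8_odd
  obtain ⟨s, hs, hs2, -, hsa⟩ := T.swap_mem
  obtain ⟨q, hq, hq2, hqa⟩ := T.invol_lift invol_codes.2.2.2.2.2.1 invol_codes.2.2.2.1
  have main : ∀ r ∈ T.toInv.ND, r * r = 1 → ∀ c, T.toTop.toFrame.Acts r (actH c) → colZ c ∈ ([27, 54] : List (Fin 81)) →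
      ∀ hr : r ∈ T.toTop.H, Perm.sign (T.ρ ⟨r, hr⟩) = 1 →
        r ∈ T.X ∧ r ≠ 1 ∧ r ≠ T.t ∧ ∀ x, T.ρ ⟨r, hr⟩ x ≠ x := by
    intro r _ hr2 c hca hcz hr hsign
    have hz : r * T.e 1 * r⁻¹ = T.e 27 ∨ r * T.e 1 * r⁻¹ = (T.e 27)⁻¹ := by
      rw [hca 1, (named_vectors.2.2.2.2.2.2.2 c).1, ← T.toTop.toFrame.e_inv]
      simp only [List.mem_cons, List.not_mem_nil, or_false] at hcz
      rcases hcz with e | e <;> rw [e]
      · exact Or.inl rfl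
      · exact Or.inr (congrArg T.e named_vectors.2.2.2.1.symm)
    have hne : ∀ a : G, Commute a (T.e 1) → r ≠ a := fun a ha e => by
      rw [e, mul_inv_eq_iff_eq_mul.2 ha.eq] at hz
      rcases hz with z | z
      · exact absurd (T.e_inj z) (by decide +kernel)
      · rw [← T.toTop.toFrame.e_inv] at z
        exact absurd (T.e_inj z) (by decide +kernel)
    refine ⟨(T.X_iff ⟨r, hr⟩).2 hsign, hne 1 (Commute.one_left _),
      hne T.t (T.toInv.comm_H (T.toInv.D_le_H T.toTop.e1_mem_D)).symm, fun x hx => ?_⟩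
    obtain ⟨σ, hσ⟩ : ∃ σ, σ = π⁻¹ * T.ρ ⟨r, hr⟩ * π := ⟨_, rfl⟩
    refine swap_fpf (σ := σ) ?_ ?_ ?_ (π⁻¹ x) ?_
    · rw [hσ, show π⁻¹ * T.ρ ⟨r, hr⟩ * π * (π⁻¹ * T.ρ ⟨r, hr⟩ * π) = π⁻¹ * (T.ρ ⟨r, hr⟩ * T.ρ ⟨r, hr⟩) * π by group,
        T.rho_sq hr (Or.inl hr2)]
      group
    · rw [hσ, map_mul, map_mul, map_inv, hsign, mul_one, inv_mul_cancel]
    · have e : σ * (π⁻¹ * T.rd ⟨_, T.toTop.e1_mem_D⟩ * π) * σ⁻¹ = π⁻¹ * T.rd ⟨_, T.toTop.e27_mem_D⟩ * π ∨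
          σ * (π⁻¹ * T.rd ⟨_, T.toTop.e1_mem_D⟩ * π) * σ⁻¹ = (π⁻¹ * T.rd ⟨_, T.toTop.e27_mem_D⟩ * π)⁻¹ := by
        have hh : σ * (π⁻¹ * T.rd ⟨_, T.toTop.e1_mem_D⟩ * π) * σ⁻¹ =
            π⁻¹ * (T.ρ ⟨r, hr⟩ * T.rd ⟨_, T.toTop.e1_mem_D⟩ * (T.ρ ⟨r, hr⟩)⁻¹) * π := by rw [hσ]; group
        rcases hz with z | z
        · exact Or.inl (by rw [hh, T.rho_conj hr T.toTop.e1_mem_D T.toTop.e27_mem_D z])
        · refine Or.inr ?_
          rw [hh, T.rho_conj hr T.toTop.e1_mem_D (inv_mem T.toTop.e27_mem_D) z, rd, rd,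
            show (⟨(T.e 27)⁻¹, T.toInv.D_le_H (inv_mem T.toTop.e27_mem_D)⟩ : ↥T.toTop.H) =
              (⟨T.e 27, T.toInv.D_le_H T.toTop.e27_mem_D⟩)⁻¹ from Subtype.ext rfl, map_inv]
          group
      rcases h1 with a | a <;> rcases h2 with b | b <;> rw [a, b] at e <;>
        first
          | (rcases e with e | e
             · first | exact Or.inl e | exact Or.inr e
             · first | exact Or.inr e | exact Or.inl (e.trans (inv_inv _)))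
          | (rcases e with e | e
             · have e' := congrArg (·⁻¹) e
               simp only [mul_inv_rev, inv_inv, ← mul_assoc] at e'
               first | exact Or.inl e' | exact Or.inr e'
             · have e' := congrArg (·⁻¹) e
               simp only [mul_inv_rev, inv_inv, ← mul_assoc] at e'
               first | exact Or.inl e' | exact Or.inr e')
    · rw [hσ]
      simp [hx]
  have hsH := (mem_inf.1 hs).1
  have hqH := (mem_inf.1 hq).1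
  obtain ⟨-, -, h358, -⟩ := invol_codes
  rcases Int.units_eq_one_or (Perm.sign (T.ρ ⟨s, hsH⟩)) with h | h
  · obtain ⟨a, b, c, d⟩ := main s hs hs2 35 hsa invol_codes.2.2.2.2.2.2.2.2.2.2.2.2.2.2.1 hsH h
    exact ⟨s, a, hs2, b, c, fun _ => d⟩
  · have hgH := (mem_inf.1 hg).1
    -- the product has the same action as the second involution up to the fixed part
    have hq1 : Perm.sign (T.ρ ⟨q, hqH⟩) = 1 := by
      obtain ⟨b, hb, hba⟩ : ∃ b, b = s * g ∧ ∃ c, T.toTop.toFrame.Acts b (actH c) :=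
        ⟨_, rfl, T.toInv.exists_code (mul_mem hs hg)⟩
      have hbq : q⁻¹ * (s * g) ∈ T.toTop.D ∨ T.t * (q⁻¹ * (s * g)) ∈ T.toTop.D := by
        have hmem : q⁻¹ * (s * g) ∈ T.toInv.ND := mul_mem (inv_mem hq) (mul_mem hs hg)
        obtain ⟨cg, hcg⟩ := T.toInv.exists_code hg
        have hcg4 := T.toInv.fix_code hgH hcg
          ((named_vectors.2.2.2.2.2.2.2 cg).1.symm.trans (T.e_inj (by
            rw [← hcg 1, (hgc _ T.toTop.e1_mem_D).eq, mul_inv_cancel_right])))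
          ((named_vectors.2.2.2.2.2.2.2 cg).2.2.2.symm.trans (T.e_inj (by
            rw [← hcg 27, (hgc _ T.toTop.e27_mem_D).eq, mul_inv_cancel_right])))
        have hgg := T.toTop.toFrame.acts_H_mul hcg hcg
        have hcg2 : mulH cg cg = 16 := T.toTop.toFrame.code_unique hgg (by
          intro v; rw [hgsq]; exact T.hta v)
        have hcg8 : cg = 8 ∨ cg = 24 := by
          simp only [List.mem_cons, List.not_mem_nil, or_false] at hcg4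
          rcases hcg4 with e | e | e | e
          · rw [e] at hcg2; exact absurd hcg2 (by decide +kernel)
          · exact Or.inl e
          · rw [e] at hcg2; exact absurd hcg2 (by decide +kernel)
          · exact Or.inr e
        have hq' : T.toTop.toFrame.Acts q⁻¹ (actH 59) := by rwa [inv_eq_of_mul_eq_one_right hq2]
        have htot := T.toTop.toFrame.acts_H_mul hq' (T.toTop.toFrame.acts_H_mul hsa hcg)
        rcases hcg8 with e | e <;> rw [e] at htot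
        · rw [show mulH 59 (mulH 35 8) = 0 by decide +kernel] at htot
          exact Or.inl (T.toInv.code_zero (mem_inf.1 hmem).1 htot)
        · have h0 := T.toTop.toFrame.acts_H_mul T.hta htot
          rw [show mulH 16 (mulH 59 (mulH 35 24)) = 0 by decide +kernel] at h0
          exact Or.inr (T.toInv.code_zero (mul_mem T.toInv.t_mem_H (mem_inf.1 hmem).1) h0)
      have heven : ∀ d (hd : d ∈ T.toTop.D), Perm.sign (T.rd ⟨d, hd⟩) = 1 := fun d hd => by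
        have h3 : Perm.sign (T.rd ⟨d, hd⟩) ^ 3 = 1 := by
          rw [rd, ← map_pow, ← map_pow, show (⟨d, T.toInv.D_le_H hd⟩ : ↥T.toTop.H) ^ 3 = 1 from
            Subtype.ext (by rw [SubgroupClass.coe_pow]; exact T.toInv.pow_three_D hd), map_one, map_one]
        rcases Int.units_eq_one_or (Perm.sign (T.rd ⟨d, hd⟩)) with e | e <;> rw [e] at h3 ⊢
        exact absurd h3 (by decide)
      have hprod : ∀ hx : q⁻¹ * (s * g) ∈ T.toTop.H, Perm.sign (T.ρ ⟨_, hx⟩) = Perm.sign (T.ρ ⟨q, hqH⟩) := by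
        intro hx
        rw [show (⟨q⁻¹ * (s * g), hx⟩ : ↥T.toTop.H) = (⟨q, hqH⟩ : ↥T.toTop.H)⁻¹ * (⟨s, hsH⟩ * ⟨g, hgH⟩) from Subtype.ext rfl]
        simp only [map_mul, map_inv, h, hgodd hgH, mul_neg, mul_one, neg_neg, Int.units_inv_eq_self]
      rcases hbq with hd | hd
      · rw [← hprod (T.toInv.D_le_H hd)]
        exact heven _ hd
      · have hx : q⁻¹ * (s * g) ∈ T.toTop.H := mul_mem (inv_mem hqH) (mul_mem hsH hgH)
        rw [← hprod hx]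
        have := heven _ hd
        rwa [rd, show (⟨T.t * (q⁻¹ * (s * g)), T.toInv.D_le_H hd⟩ : ↥T.toTop.H) = ⟨T.t, T.toInv.t_mem_H⟩ * ⟨_, hx⟩ from
          Subtype.ext rfl, map_mul, T.rho_t, one_mul] at this
    obtain ⟨a, b, c, d⟩ := main q hq hq2 59 hqa invol_codes.2.2.2.2.2.2.2.2.2.2.2.2.2.2.2.2.1 hqH hq1
    exact ⟨q, a, hq2, b, c, fun _ => d⟩

theorem X_class : ∀ x y, x ∈ T.X → x * x = 1 → x ≠ 1 → x ≠ T.t → y ∈ T.X → y * y = 1 → y ≠ 1 → y ≠ T.t →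
    ∃ g ∈ T.X, g * x * g⁻¹ = y := by
  intro x y hx hx2 hx1 hxt hy hy2 hy1 hyt
  obtain ⟨-, hcls, -⟩ := cover_facts T.cover (z := ⟨T.t, T.t_X⟩) (fun h => T.toTop.ht1 (congrArg Subtype.val h))
    (fun a => Subtype.ext (T.toInv.comm_H (T.X_le a.2)).eq)
  obtain ⟨g, hg⟩ := hcls ⟨x, hx⟩ ⟨y, hy⟩ (Subtype.ext hx2) (fun h => hx1 (congrArg Subtype.val h))
    (fun h => hxt (congrArg Subtype.val h)) (Subtype.ext hy2) (fun h => hy1 (congrArg Subtype.val h))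
    (fun h => hyt (congrArg Subtype.val h))
  exact ⟨g, g.2, congrArg Subtype.val hg⟩

theorem even_fpf {x : G} (hx : x ∈ T.X) (h2 : x * x = 1) (h1 : x ≠ 1) (ht : x ≠ T.t) :
    ∀ i, T.ρ ⟨x, T.X_le hx⟩ i ≠ i := by
  obtain ⟨r, hr, hr2, hr1, hrt, hfpf⟩ := T.even_fpf_exists
  obtain ⟨g, hg, e⟩ := T.X_class r x hr hr2 hr1 hrt hx h2 h1 ht
  intro i hi
  refine hfpf (T.X_le hr) ((T.ρ ⟨g, T.X_le hg⟩)⁻¹ i) ?_
  have e' : T.ρ ⟨x, T.X_le hx⟩ = T.ρ ⟨g, T.X_le hg⟩ * T.ρ ⟨r, T.X_le hr⟩ * (T.ρ ⟨g, T.X_le hg⟩)⁻¹ := by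
    rw [← map_inv, ← map_mul, ← map_mul]
    exact congrArg T.ρ (Subtype.ext e.symm)
  rw [e'] at hi
  simp only [Perm.mul_apply] at hi
  exact (Perm.eq_inv_iff_eq.2 hi)

/-- An involution inverting the fixed part with middle fixed. -/
theorem exists_u : ∃ u ∈ T.toInv.ND, u * u = 1 ∧ T.toTop.toFrame.Acts u (actH 2) :=
  T.invol_lift invol_codes.2.2.2.2.2.2.1 invol_codes.1

theorem u_odd {u : G} (hu : u ∈ T.toTop.H) (h2 : u * u = 1) (ha : T.toTop.toFrame.Acts u (actH 2)) :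
    Perm.sign (T.ρ ⟨u, hu⟩) = -1 := by
  rcases Int.units_eq_one_or (Perm.sign (T.ρ ⟨u, hu⟩)) with h | h
  swap
  · exact h
  exfalso
  have hX : u ∈ T.X := (T.X_iff ⟨u, hu⟩).2 h
  obtain ⟨π, h1, -⟩ := T.exists_axes
  have hinv : u * T.e 1 * u⁻¹ = (T.e 1)⁻¹ := by
    rw [ha 1, ← T.toTop.toFrame.e_inv]
    exact congrArg T.e (middle_facts 1).2.2.2.1
  have hne : ∀ a : G, Commute a (T.e 1) → u ≠ a := fun a hca e => by
    rw [e, mul_inv_eq_iff_eq_mul.2 hca.eq] at hinv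
    exact T.toInv.e1_ne_inv hinv
  have hfpf := T.even_fpf hX h2 (hne 1 (Commute.one_left _))
    (hne T.t (T.toInv.comm_H (T.toInv.D_le_H T.toTop.e1_mem_D)).symm)
  obtain ⟨σ, hσ⟩ : ∃ σ, σ = π⁻¹ * T.ρ ⟨u, hu⟩ * π := ⟨_, rfl⟩
  have hσ2 : σ * σ = 1 := by
    rw [hσ, show π⁻¹ * T.ρ ⟨u, hu⟩ * π * (π⁻¹ * T.ρ ⟨u, hu⟩ * π) = π⁻¹ * (T.ρ ⟨u, hu⟩ * T.ρ ⟨u, hu⟩) * π by group,
      T.rho_sq hu (Or.inl h2)]
    group
  have e : σ * (π⁻¹ * T.rd ⟨_, T.toTop.e1_mem_D⟩ * π) * σ⁻¹ = (π⁻¹ * T.rd ⟨_, T.toTop.e1_mem_D⟩ * π)⁻¹ := by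
    rw [hσ, show π⁻¹ * T.ρ ⟨u, hu⟩ * π * (π⁻¹ * T.rd ⟨_, T.toTop.e1_mem_D⟩ * π) * (π⁻¹ * T.ρ ⟨u, hu⟩ * π)⁻¹ =
      π⁻¹ * (T.ρ ⟨u, hu⟩ * T.rd ⟨_, T.toTop.e1_mem_D⟩ * (T.ρ ⟨u, hu⟩)⁻¹) * π by group,
      T.rho_conj hu T.toTop.e1_mem_D (inv_mem T.toTop.e1_mem_D) hinv, rd, rd,
      show (⟨(T.e 1)⁻¹, T.toInv.D_le_H (inv_mem T.toTop.e1_mem_D)⟩ : ↥T.toTop.H) =
        (⟨T.e 1, T.toInv.D_le_H T.toTop.e1_mem_D⟩)⁻¹ from Subtype.ext rfl, map_inv]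
    group
  obtain ⟨i, hi⟩ : ∃ i, σ i = i := by
    rcases h1 with r | r <;> rw [r] at e
    · exact fixes_three hσ2 e
    · refine fixes_three hσ2 ?_
      have e' := congrArg (·⁻¹) e
      simpa [mul_assoc] using e'
  refine hfpf (π i) ?_
  rw [hσ] at hi
  simp only [Perm.mul_apply] at hi
  exact Perm.inv_eq_iff_eq.1 hi

end Sym

end Cfsg.Lib.McLLocal
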