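import Cfsg.Agent.LocalThree.McLLocal.Fusion2

/-!
The transfer to a normal subgroup of index two.
-/

set_option autoImplicit false
set_option linter.unusedSectionVars false
set_option maxRecDepth 100000
set_option synthInstance.maxSize 4096

namespace Cfsg.Lib.McLLocal

open Subgroup Equiv
open scoped Pointwise commutatorElement

universe u

variable {G : Type u} [Group G] [Finite G]

theorem six_two : ∀ a b : Perm (Fin 6), a * a = 1 → Perm.sign a = 1 → a ≠ 1 → b * b = 1 → Perm.sign b = 1 → b ≠ 1 →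
    ∃ g : alternatingGroup (Fin 6), (g : Perm (Fin 6)) * a * (g : Perm (Fin 6))⁻¹ = b := by
  intro a b ha ha' ha1 hb hb' hb1
  obtain ⟨g, hg⟩ := six_invol a ha ha' ha1
  obtain ⟨h, hh⟩ := six_invol b hb hb' hb1
  refine ⟨h⁻¹ * g, ?_⟩
  rw [← hg] at hh
  show ((h : Perm (Fin 6))⁻¹ * g) * a * ((h : Perm (Fin 6))⁻¹ * g)⁻¹ = b
  calc ((h : Perm (Fin 6))⁻¹ * g) * a * ((h : Perm (Fin 6))⁻¹ * g)⁻¹
      = (h : Perm (Fin 6))⁻¹ * ((g : Perm (Fin 6)) * a * (g : Perm (Fin 6))⁻¹) * h := by group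
    _ = b := by rw [← hh]; group

theorem card_lt_of_mem {A B : Subgroup G} (h : A ≤ B) {b : G} (hb : b ∈ B) (hbA : b ∉ A) : Nat.card A < Nat.card B := by
  refine Set.ncard_lt_ncard ⟨h, fun h' => hbA (h' hb)⟩ (Set.toFinite _)

namespace Sym

variable (T : Sym G)

/-- The involutions of the normal subgroup of the normaliser are conjugate. -/
theorem M₀_fused {r : G} (hr : r ∈ T.M₀) (h2 : r * r = 1) (h1 : r ≠ 1) : ∃ g : G, g * T.t * g⁻¹ = r := by
  have key : ∀ x (hx : x ∈ T.M₀), x * x = 1 → x ≠ 1 → T.φ ⟨x, hx⟩ ≠ 1 := by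
    intro x hx hx2 hx1 h
    have hJ := T.toData.mem_ker.1 h
    refine hx1 ?_
    calc x = (x * x)⁻¹ * x ^ 3 := by group
      _ = 1 := by rw [hx2, T.hJexp x hJ, inv_one, one_mul]
  have inv2 : ∀ x (hx : x ∈ T.M₀), x * x = 1 → ((T.φ ⟨x, hx⟩ : alternatingGroup (Fin 6)) : Perm (Fin 6)) *
      ((T.φ ⟨x, hx⟩ : alternatingGroup (Fin 6)) : Perm (Fin 6)) = 1 := by
    intro x hx hx2
    rw [← Subgroup.coe_mul, ← map_mul, show (⟨x, hx⟩ * ⟨x, hx⟩ : T.M₀) = 1 from Subtype.ext hx2, map_one]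
    rfl
  obtain ⟨g, hg⟩ := six_two _ _ (inv2 r hr h2) (Perm.mem_alternatingGroup.1 (T.φ ⟨r, hr⟩).2)
    (fun h => key r hr h2 h1 (Subtype.ext h)) (inv2 T.t T.htM T.ht) (Perm.mem_alternatingGroup.1 (T.φ ⟨T.t, T.htM⟩).2)
    (fun h => key T.t T.htM T.ht T.toTop.ht1 (Subtype.ext h))
  obtain ⟨⟨m, hm⟩, hmg⟩ := T.φ_surj g
  obtain ⟨j, hjd⟩ : ∃ j, j = T.t * (m * r * m⁻¹) := ⟨_, rfl⟩
  have hj : j ∈ T.J := by
    have h : T.φ (⟨T.t, T.htM⟩ * (⟨m, hm⟩ * ⟨r, hr⟩ * (⟨m, hm⟩ : T.M₀)⁻¹)) = 1 := by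
      rw [map_mul, map_mul, map_mul, map_inv, hmg]
      refine Subtype.ext ?_
      show ((T.φ ⟨T.t, T.htM⟩ : alternatingGroup (Fin 6)) : Perm (Fin 6)) * _ = 1
      rw [Subgroup.coe_mul, Subgroup.coe_mul, Subgroup.coe_inv, hg]
      exact inv2 T.t T.htM T.ht
    rw [hjd]
    exact T.toData.mem_ker.1 h
  have hm' : m * r * m⁻¹ = T.t * j := by rw [hjd, ← mul_assoc T.t, T.ht, one_mul]
  have hsq : T.t * j * (T.t * j) = 1 := by
    rw [← hm', show m * r * m⁻¹ * (m * r * m⁻¹) = m * (r * r) * m⁻¹ by group, h2, mul_one, mul_inv_cancel]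
  have hinv : T.t * j * T.t = j⁻¹ := eq_inv_of_mul_eq_one_left (by rw [← hsq]; group)
  have hj3 : j ^ 3 = 1 := T.hJexp j hj
  refine ⟨m⁻¹ * j, ?_⟩
  have e : j * T.t * j⁻¹ = T.t * j := by
    have e1 : j * T.t = T.t * j⁻¹ := by
      rw [← hinv, ← mul_assoc, ← mul_assoc, T.ht, one_mul]
    rw [e1]
    calc T.t * j⁻¹ * j⁻¹ = T.t * ((j ^ 3)⁻¹ * j) := by group
      _ = T.t * j := by rw [hj3, inv_one, one_mul]
  calc m⁻¹ * j * T.t * (m⁻¹ * j)⁻¹ = m⁻¹ * (j * T.t * j⁻¹) * m := by group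
    _ = r := by rw [e, ← hm']; group

theorem cent_J_u {u : G} (ha : T.toTop.toFrame.Acts u (actH 2)) :
    Nat.card ↥(T.J ⊓ centralizer ({u} : Set G)) = 9 ∧
      ∀ v, T.e v ∈ centralizer ({u} : Set G) → actH 2 v = v := by
  have hiff : ∀ v, T.e v ∈ centralizer ({u} : Set G) ↔ actH 2 v = v := fun v => by
    rw [mem_centralizer_singleton_iff]
    constructor
    · intro h; exact T.e_inj (by rw [← ha v, ← h, mul_inv_cancel_right])
    · intro h
      have := ha v
      rw [h] at this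
      exact (mul_inv_eq_iff_eq_mul.1 this).symm
  refine ⟨?_, fun v => (hiff v).1⟩
  classical
  let f : {v : Fin 81 // actH 2 v = v} → ↥(T.J ⊓ centralizer ({u} : Set G)) := fun v =>
    ⟨T.e v.1, mem_inf.2 ⟨T.toTop.toFrame.e_mem v.1, (hiff v.1).2 v.2⟩⟩
  have hf : Function.Bijective f := by
    refine ⟨fun a b h => Subtype.ext (T.e_inj (congrArg Subtype.val h)), fun x => ?_⟩
    obtain ⟨v, hv⟩ := (T.memJ x).1 (mem_inf.1 x.2).1
    exact ⟨⟨v, (hiff v).1 (hv.symm ▸ (mem_inf.1 x.2).2)⟩, Subtype.ext hv⟩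
  rw [← Nat.card_congr (Equiv.ofBijective f hf), Nat.card_eq_fintype_card, Fintype.card_subtype]
  exact middle_count

/-- The involution outside is not conjugate to the given one. -/
theorem u_not_conj {u : G} (hu : u ∈ T.toTop.H) (ha : T.toTop.toFrame.Acts u (actH 2)) (g : G) : g * T.t * g⁻¹ ≠ u := by
  haveI := fact_three
  intro he
  obtain ⟨W', hW'⟩ : ∃ W', W' = T.J ⊓ centralizer ({u} : Set G) := ⟨_, rfl⟩
  obtain ⟨hcard, hfix⟩ := T.cent_J_u ha
  have hW3 : IsPGroup 3 W' := IsPGroup.of_card (n := 2) (by rw [hW', hcard]; norm_num)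
  have hWC : W' ≤ centralizer ({u} : Set G) := hW' ▸ inf_le_right
  have inM : ∀ b ∈ W', b ≠ 1 → centralizer ({b} : Set G) ≤ T.toData.M := by
    intro b hb hb1
    rw [hW'] at hb
    obtain ⟨v, rfl⟩ := (T.memJ b).1 hb.1
    have hv0 : v ≠ 0 := fun e => hb1 (e ▸ T.toTop.toFrame.e_zero)
    exact T.hP v hv0 ((middle_facts v).2.1 (hfix v hb.2) hv0)
  have small : ∀ x ∈ T.toData.M, x ∈ centralizer ({u} : Set G) → (∃ k : ℕ, orderOf x = 3 ^ k) → x ∈ W' := by
    intro x hxM hxu hxo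
    obtain ⟨f, hf⟩ := T.toTop.toFrame.exists_acts hxM
    have hcomm : ∀ v, f (actH 2 v) = actH 2 (f v) := by
      intro v
      refine T.e_inj ?_
      rw [← hf, ← ha v, ← ha (f v), ← hf v]
      have hc : x * u = u * x := mem_centralizer_singleton_iff.1 hxu
      calc x * (u * T.e v * u⁻¹) * x⁻¹ = (x * u) * T.e v * (x * u)⁻¹ := by group
        _ = (u * x) * T.e v * (u * x)⁻¹ := by rw [hc]
        _ = _ := by group
    have hp : ∀ a, actH 2 a = ng a → Sing a → f a = 1 ∨ f a = 2 ∨ f a = 27 ∨ f a = 54 := fun a h hs => by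
      refine (middle_facts (f a)).2.2.1 ?_ (T.toTop.toFrame.sing_acts hf hs)
      rw [← hcomm, h]
      exact T.toTop.toFrame.acts_sc hf 2 a
    have hinj : Function.Injective f := fun a b h => T.e_inj (by
      have := (hf a).trans ((congrArg T.e h).trans (hf b).symm)
      exact mul_left_cancel (mul_right_cancel this))
    obtain ⟨n1, n27, n2, n54, s1, s27, -⟩ := named_vectors
    have m1 := hp 1 (middle_facts 1).2.2.2.1 s1
    have m27 := hp 27 (middle_facts 1).2.2.2.2 s27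
    obtain ⟨c, hc⟩ := T.toTop.toFrame.pair_acts hf (pair_images _ (by simpa using m1) _ (by simpa using m27)
      (fun h => absurd (hinj h) (by decide +kernel)) (fun h => by
        have h2 : f (sc (2 : Fin 3).val 1) = ng (f 1) := T.toTop.toFrame.acts_sc hf 2 1
        exact absurd (hinj (h.trans h2.symm)) (by decide +kernel)))
    obtain ⟨k, hk⟩ := hxo
    have h2 := T.toTop.toFrame.acts_H_mul hc hc
    have h4 := T.toTop.toFrame.acts_H_mul h2 h2
    have h8 := T.toTop.toFrame.acts_H_mul h4 h4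
    rw [code_pow c] at h8
    have hJ8 : x ^ 8 ∈ T.J := by
      have := T.toTop.toFrame.acts_zero h8
      simpa [pow_succ, mul_assoc] using this
    rw [hW']
    refine mem_inf.2 ⟨?_, hxu⟩
    have h3 : x ^ 3 ^ k = 1 := hk ▸ pow_orderOf_eq_one _
    have hb := Nat.gcd_eq_gcd_ab 8 (3 ^ k)
    rw [(Nat.Coprime.pow_right k (show Nat.Coprime 8 3 by decide)).gcd_eq_one] at hb
    have hx : x = (x ^ 8) ^ Nat.gcdA 8 (3 ^ k) * (x ^ 3 ^ k) ^ Nat.gcdB 8 (3 ^ k) := by
      conv_lhs => rw [← zpow_one x]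
      rw [← zpow_natCast, ← zpow_natCast, ← zpow_mul, ← zpow_mul, ← zpow_add, ← hb]
      norm_num
    rw [hx, h3, one_zpow, mul_one]
    exact zpow_mem hJ8 _
  have hmax : ∀ Y : Subgroup G, IsPGroup 3 Y → W' ≤ Y → Y ≤ centralizer ({u} : Set G) → Y = W' := by
    intro Y hY hWY hYu
    refine le_antisymm (fun y hy => ?_) hWY
    have ord : ∀ a ∈ Y, ∃ k : ℕ, orderOf a = 3 ^ k := fun a ha' => by
      obtain ⟨k, hk⟩ := IsPGroup.iff_orderOf.1 hY ⟨a, ha'⟩
      exact ⟨k, by rw [← hk]; exact orderOf_coe (⟨a, ha'⟩ : Y)⟩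
    obtain ⟨b, hb, hb1⟩ : ∃ b ∈ W', b ≠ 1 := by
      have hb : W' ≠ ⊥ := fun h => by rw [← hW', h, card_bot] at hcard; omega
      obtain ⟨b, hb, hb1⟩ := (Subgroup.bot_or_exists_ne_one W').resolve_left hb
      exact ⟨b, hb, hb1⟩
    haveI : Nontrivial Y := ⟨⟨⟨b, hWY hb⟩, 1, fun h => hb1 (congrArg Subtype.val h)⟩⟩
    haveI := IsPGroup.center_nontrivial hY
    obtain ⟨c, hc⟩ := exists_ne (1 : center Y)
    have hcY : ((c : Y) : G) ∈ Y := (c : Y).2
    have hcc : ∀ a ∈ Y, Commute a ((c : Y) : G) := fun a ha' => congrArg Subtype.val (mem_center_iff.1 c.2 ⟨a, ha'⟩)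
    have hcW : ((c : Y) : G) ∈ W' := small _ (inM b hb hb1 (mem_centralizer_singleton_iff.2 (hcc b (hWY hb)).symm.eq))
      (hYu hcY) (ord _ hcY)
    exact small y (inM _ hcW (fun h => hc (Subtype.ext (Subtype.ext h))) (mem_centralizer_singleton_iff.2 (hcc y hy).eq))
      (hYu hy) (ord y hy)
  have hconj : T.toTop.D.map (MulAut.conj g).toMonoidHom ≤ centralizer ({u} : Set G) := by
    rintro _ ⟨d, hd, rfl⟩
    rw [← he]
    exact T.toTop.toFrame.conj_cent rfl (T.toInv.D_le_H hd)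
  obtain ⟨c, -, hc⟩ := conj_into_three hWC hW3 hmax hconj
    ((IsPGroup.of_card (n := 2) (T.toTop.card_D.trans (by norm_num))).map _)
  have hz := hc _ ⟨T.e 1, T.toTop.e1_mem_D, rfl⟩
  rw [hW'] at hz
  obtain ⟨v, hv⟩ := (T.memJ _).1 hz.1
  have hv0 : v ≠ 0 := fun h => T.toTop.toFrame.e_ne named_vectors.1 (by
    rw [h, T.toTop.toFrame.e_zero] at hv
    exact conj_eq_one_iff.1 (conj_eq_one_iff.1 hv.symm))
  have hns := (middle_facts v).2.1 (hfix v (hv ▸ hz.2)) hv0
  exact hns (T.toTop.toFrame.sing_of_conj named_vectors.2.2.2.2.1 (g := c * g)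
    (by rw [hv]; show c * g * T.e 1 * (c * g)⁻¹ = c * (g * T.e 1 * g⁻¹) * c⁻¹; group) (T.hP v hv0 hns))

/-- Every involution of the cover is fused to the given one. -/
theorem X_fused {x : G} (hx : x ∈ T.X) (h2 : x * x = 1) (h1 : x ≠ 1) : ∃ g : G, g * T.t * g⁻¹ = x := by
  by_cases hxt : x = T.t
  · exact ⟨1, by rw [hxt]; group⟩
  obtain ⟨s, hs, hs2, hsM, hsa⟩ := T.swap_mem
  have hsH := (mem_inf.1 hs).1
  have hs1 : s ≠ 1 := fun e => by
    have := congrFun (T.toTop.toFrame.acts_unique hsa (e ▸ T.toTop.toFrame.acts_one)) 1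
    exact absurd this (by show actH 35 1 ≠ 1; decide +kernel)
  have hst : s ≠ T.t := fun e => by
    have := congrFun (T.toTop.toFrame.acts_unique hsa (e ▸ T.hta)) 1
    exact absurd this (by decide +kernel)
  have hsX : s ∈ T.X := by
    refine (T.X_iff ⟨s, hsH⟩).2 ?_
    rcases Int.units_eq_one_or (Perm.sign (T.ρ ⟨s, hsH⟩)) with h | h
    · exact h
    exfalso
    obtain ⟨u, hu, hu2, hua⟩ := T.exists_u
    have huH := (mem_inf.1 hu).1
    have hu1 : u ≠ 1 := fun e => by
      have := congrFun (T.toTop.toFrame.acts_unique hua (e ▸ T.toTop.toFrame.acts_one)) 1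
      exact absurd this (by show actH 2 1 ≠ 1; decide +kernel)
    have hut : u ≠ T.t := fun e => T.u_not_conj huH hua 1 (by rw [e]; group)
    have hut3 := (invol_types (T.rho_sq huH (Or.inl hu2)) (T.u_odd huH hu2 hua)).resolve_left (T.not_swap huH hu2 hu1 hut)
    have hst3 := (invol_types (T.rho_sq hsH (Or.inl hs2)) h).resolve_left (T.not_swap hsH hs2 hs1 hst)
    obtain ⟨σ, hσ⟩ := isConj_iff.1 (hst3.trans hut3.symm)
    obtain ⟨k, hk⟩ := T.ρ_surj σ
    have e : T.ρ ⟨(k : G) * s * (k : G)⁻¹, mul_mem (mul_mem k.2 hsH) (inv_mem k.2)⟩ = T.ρ ⟨u, huH⟩ := by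
      rw [← hσ, ← hk, ← map_inv, ← map_mul, ← map_mul]
      exact congrArg T.ρ (Subtype.ext rfl)
    rcases T.rho_eq e with r | r
    · change (k : G) * s * (k : G)⁻¹ = u at r
      obtain ⟨g, hg⟩ := T.M₀_fused hsM hs2 hs1
      exact T.u_not_conj huH hua ((k : G) * g) (by rw [← r, ← hg]; group)
    · change (k : G) * s * (k : G)⁻¹ = u * T.t at r
      have hst2 : s * T.t * (s * T.t) = 1 := by
        rw [mul_assoc, ← mul_assoc T.t, ← (T.toInv.comm_H hsH).eq, mul_assoc s T.t, T.ht, mul_one, hs2]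
      have hst1 : s * T.t ≠ 1 := fun e' => hst ((eq_inv_of_mul_eq_one_left e').trans T.toTop.t_inv)
      obtain ⟨g, hg⟩ := T.M₀_fused (mul_mem hsM T.htM) hst2 hst1
      refine T.u_not_conj huH hua ((k : G) * g) ?_
      have hkt : (k : G) * T.t * (k : G)⁻¹ = T.t := by rw [(T.toInv.comm_H k.2).eq, mul_inv_cancel_right]
      calc (k : G) * g * T.t * ((k : G) * g)⁻¹ = ((k : G) * s * (k : G)⁻¹) * ((k : G) * T.t * (k : G)⁻¹) := by
            rw [show (k : G) * g * T.t * ((k : G) * g)⁻¹ = k * (g * T.t * g⁻¹) * (k : G)⁻¹ by group, hg]; group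
        _ = u := by rw [r, hkt, mul_assoc, T.ht, mul_one]
  obtain ⟨g, hg⟩ := T.M₀_fused hsM hs2 hs1
  obtain ⟨c, -, hc⟩ := T.X_class s x hsX hs2 hs1 hst hx h2 h1 hxt
  exact ⟨c * g, by rw [← hc, ← hg]; group⟩

theorem card_X : Nat.card T.X = 40320 :=
  (cover_facts T.cover (z := ⟨T.t, T.t_X⟩) (fun h => T.toTop.ht1 (congrArg Subtype.val h))
    (fun a => Subtype.ext (T.toInv.comm_H (T.X_le a.2)).eq)).1

theorem card_H : Nat.card T.toTop.H = 80640 := by
  have h := card_eq_card_quotient_mul_card_subgroup T.ρ.ker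
  rw [Nat.card_congr (QuotientGroup.quotientKerEquivOfSurjective T.ρ T.ρ_surj).toEquiv, Nat.card_perm, Nat.card_fin] at h
  have h2 : Nat.card T.ρ.ker = 2 := by
    refine Nat.card_eq_two_iff.2 ⟨⟨1, one_mem _⟩, ⟨⟨T.t, T.toInv.t_mem_H⟩, T.rho_t⟩, ?_, ?_⟩
    · exact fun e => T.toTop.ht1 (congrArg (fun a : T.ρ.ker => ((a : ↥T.toTop.H) : G)) e).symm
    · refine Set.eq_univ_iff_forall.2 fun a => ?_
      rcases (T.ρ_ker _).1 a.2 with r | r
      · exact Or.inl (Subtype.ext (Subtype.ext r))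
      · exact Or.inr (Subtype.ext (Subtype.ext r))
  rw [h2] at h
  exact h.trans rfl

/-- A normal subgroup of index two meeting the centraliser in the cover. -/
theorem exists_index_two : ∃ G0 : Subgroup G, G0.Normal ∧ G0.index = 2 ∧ T.X = T.toTop.H ⊓ G0 := by
  haveI : Fact (Nat.Prime 2) := ⟨Nat.prime_two⟩
  obtain ⟨-, -, P', hP', hcen⟩ := cover_facts T.cover (z := ⟨T.t, T.t_X⟩) (fun h => T.toTop.ht1 (congrArg Subtype.val h))
    (fun a => Subtype.ext (T.toInv.comm_H (T.X_le a.2)).eq)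
  obtain ⟨Q, hQd⟩ : ∃ Q, Q = P'.map T.X.subtype := ⟨_, rfl⟩
  have hQX : Q ≤ T.X := hQd ▸ map_subtype_le _
  have hQc : Nat.card Q = 128 := by
    rw [hQd, ← Nat.card_congr (Subgroup.equivMapOfInjective _ _ T.X.subtype_injective).toEquiv, hP']
  have hQ2 : IsPGroup 2 Q := IsPGroup.of_card (n := 7) (by rw [hQc]; norm_num)
  have hQH := hQX.trans T.X_le
  have htQ : T.t ∈ Q := by
    -- a central element lies in every maximal two-subgroup
    by_contra hnot
    have hn : zpowers T.t ≤ normalizer (Q : Set G) := zpowers_le.2 (mem_normalizer_of_map_mem fun q hq => by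
      rwa [(T.toInv.comm_H (hQH hq)).symm.eq, mul_inv_cancel_right])
    have hp : IsPGroup 2 (zpowers T.t) := IsPGroup.of_card (n := 1) (by
      rw [Nat.card_zpowers, pow_one]; exact orderOf_eq_prime (by rw [pow_two, T.ht]) T.toTop.ht1)
    have hY : IsPGroup 2 ↥(Q ⊔ zpowers T.t) := IsPGroup.to_sup_of_normal_left' hQ2 hp hn
    have hYX : Q ⊔ zpowers T.t ≤ T.X := sup_le hQX (zpowers_le.2 T.t_X)
    obtain ⟨n, hn'⟩ := hY.exists_card_eq
    have hd := card_dvd_of_le hYX
    rw [T.card_X, hn'] at hd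
    have hlt : Nat.card Q < Nat.card ↥(Q ⊔ zpowers T.t) :=
      card_lt_of_mem le_sup_left (mem_sup_right (mem_zpowers _)) hnot
    rw [hQc, hn'] at hlt
    have : 8 ≤ n := by
      by_contra hh
      have := Nat.pow_le_pow_right (show 0 < 2 by norm_num) (show n ≤ 7 by omega)
      omega
    exact absurd ((pow_dvd_pow 2 this).trans hd) (by norm_num)
  obtain ⟨P, hP⟩ := (hQ2.of_equiv (subgroupOfEquivOfLe hQH).symm).exists_le_sylow
  obtain ⟨R, hRd⟩ : ∃ R, R = (P : Subgroup T.toTop.H).map T.toTop.H.subtype := ⟨_, rfl⟩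
  have hRc : Nat.card R = 256 := by
    rw [hRd, ← Nat.card_congr (Subgroup.equivMapOfInjective _ _ T.toTop.H.subtype_injective).toEquiv,
      P.card_eq_multiplicity, T.card_H, show (80640 : ℕ) = 2 ^ 8 * 315 by norm_num,
      Nat.factorization_mul (by norm_num) (by norm_num), Finsupp.add_apply,
      Nat.Prime.factorization_pow Nat.prime_two, Finsupp.single_eq_same,
      Nat.factorization_eq_zero_of_not_dvd (by norm_num : ¬ 2 ∣ 315)]
    norm_num
  have hQR : Q ≤ R := hRd ▸ fun q hq => ⟨⟨q, hQH hq⟩, hP (mem_subgroupOf.2 hq), rfl⟩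
  have hRH : R ≤ T.toTop.H := hRd ▸ map_subtype_le _
  have hR2 : IsPGroup 2 R := IsPGroup.of_card (n := 8) (by rw [hRc]; norm_num)
  have hzR : ∀ z ∈ R, (∀ r ∈ R, z * r = r * z) → z = 1 ∨ z = T.t := by
    intro z hz hzc
    rcases Int.units_eq_one_or (Perm.sign (T.ρ ⟨z, hRH hz⟩)) with hs | hs
    · have hzX := (T.X_iff ⟨z, hRH hz⟩).2 hs
      have hzQ : z ∈ Q := by
        by_contra hnot
        have hn : zpowers z ≤ normalizer (Q : Set G) := zpowers_le.2 (mem_normalizer_of_map_mem fun q hq => by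
          rwa [hzc q (hQR hq), mul_inv_cancel_right])
        have hY : IsPGroup 2 ↥(Q ⊔ zpowers z) :=
          IsPGroup.to_sup_of_normal_left' hQ2 (hR2.to_le (zpowers_le.2 hz)) hn
        obtain ⟨n, hn'⟩ := hY.exists_card_eq
        have hd := card_dvd_of_le (sup_le hQX (zpowers_le.2 hzX) : Q ⊔ zpowers z ≤ T.X)
        rw [T.card_X, hn'] at hd
        have hlt : Nat.card Q < Nat.card ↥(Q ⊔ zpowers z) :=
          card_lt_of_mem le_sup_left (mem_sup_right (mem_zpowers _)) hnot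
        rw [hQc, hn'] at hlt
        have : 8 ≤ n := by
          by_contra hh
          have := Nat.pow_le_pow_right (show 0 < 2 by norm_num) (show n ≤ 7 by omega)
          omega
        exact absurd ((pow_dvd_pow 2 this).trans hd) (by norm_num)
      rw [hQd] at hzQ
      obtain ⟨z', hz', rfl⟩ := hzQ
      rcases hcen z' hz' (fun q hq => Subtype.ext (hzc q (hQR (hQd ▸ ⟨q, hq, rfl⟩)))) with r | r
      · exact Or.inl (congrArg Subtype.val r)
      · exact Or.inr (congrArg Subtype.val r)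
    · exfalso
      -- an odd central element is impossible
      obtain ⟨σ, hσ⟩ : ∃ σ, σ = T.ρ ⟨z, hRH hz⟩ := ⟨_, rfl⟩
      have himg : (R.subgroupOf T.toTop.H).map T.ρ ≤ centralizer ({σ} : Set (Perm (Fin 8))) := by
        rintro _ ⟨r, hr, rfl⟩
        rw [hσ, mem_centralizer_singleton_iff, ← map_mul, ← map_mul]
        exact congrArg T.ρ (Subtype.ext (hzc r (mem_subgroupOf.1 hr)).symm)
      have hdiv := card_dvd_of_le himg
      let f : ↥(R.subgroupOf T.toTop.H) →* ↥((R.subgroupOf T.toTop.H).map T.ρ) := T.ρ.subgroupMap _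
      have hc := card_eq_card_quotient_mul_card_subgroup f.ker
      rw [Nat.card_congr (QuotientGroup.quotientKerEquivOfSurjective f (MonoidHom.subgroupMap_surjective _ _)).toEquiv,
        Nat.card_congr (subgroupOfEquivOfLe hRH).toEquiv, hRc] at hc
      have hk : Nat.card f.ker ≤ 2 := by
        let g : f.ker → zpowers T.t := fun a => ⟨(((a : ↥(R.subgroupOf T.toTop.H)) : ↥T.toTop.H) : G),
          T.toInv.mem_zt.2 ((T.ρ_ker _).1 (congrArg Subtype.val a.2))⟩
        have hg : Function.Injective g := fun a b e => Subtype.ext (Subtype.ext (Subtype.ext (congrArg Subtype.val e :)))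
        refine (Nat.card_le_card_of_injective g hg).trans ?_
        rw [Nat.card_zpowers]
        exact Nat.le_of_dvd (by norm_num) (orderOf_dvd_of_pow_eq_one (by rw [pow_two, T.ht]))
      have h128 : 128 ∣ Nat.card ↥((R.subgroupOf T.toTop.H).map T.ρ) := by
        have hpos : 0 < Nat.card f.ker := Nat.card_pos
        interval_cases hkc : Nat.card f.ker
        · exact ⟨2, by omega⟩
        · exact ⟨1, by omega⟩
      refine odd_cent_two (σ := σ) ?_ (hσ ▸ hs) (h128.trans hdiv)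
      rw [hσ, ← map_mul]
      refine (T.ρ_ker _).2 ?_
      have hz2X : z * z ∈ T.X := (T.X_iff ⟨z * z, mul_mem (hRH hz) (hRH hz)⟩).2 (by
        rw [show (⟨z * z, mul_mem (hRH hz) (hRH hz)⟩ : ↥T.toTop.H) = ⟨z, hRH hz⟩ * ⟨z, hRH hz⟩ from rfl, map_mul, map_mul, hs]
        decide)
      have hz2Q : z * z ∈ Q := by
        by_contra hnot
        have hn : zpowers (z * z) ≤ normalizer (Q : Set G) := zpowers_le.2 (mem_normalizer_of_map_mem fun q hq => by
          rwa [mul_assoc z z q, hzc q (hQR hq), ← mul_assoc z q, hzc q (hQR hq), mul_assoc q z, mul_inv_cancel_right])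
        have hY : IsPGroup 2 ↥(Q ⊔ zpowers (z * z)) :=
          IsPGroup.to_sup_of_normal_left' hQ2 (hR2.to_le (zpowers_le.2 (mul_mem hz hz))) hn
        obtain ⟨n, hn'⟩ := hY.exists_card_eq
        have hd := card_dvd_of_le (sup_le hQX (zpowers_le.2 hz2X) : Q ⊔ zpowers (z * z) ≤ T.X)
        rw [T.card_X, hn'] at hd
        have hlt : Nat.card Q < Nat.card ↥(Q ⊔ zpowers (z * z)) :=
          card_lt_of_mem le_sup_left (mem_sup_right (mem_zpowers _)) hnot
        rw [hQc, hn'] at hlt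
        have : 8 ≤ n := by
          by_contra hh
          have := Nat.pow_le_pow_right (show 0 < 2 by norm_num) (show n ≤ 7 by omega)
          omega
        exact absurd ((pow_dvd_pow 2 this).trans hd) (by norm_num)
      rw [hQd] at hz2Q
      obtain ⟨z', hz', e⟩ := hz2Q
      rcases hcen z' hz' (fun q hq => Subtype.ext (by
        show (z' : G) * q = q * z'
        rw [show (z' : G) = z * z from e]
        have := hzc q (hQR (hQd ▸ ⟨q, hq, rfl⟩))
        rw [mul_assoc, this, ← mul_assoc, this, mul_assoc])) with r | r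
      · exact Or.inl (e.symm.trans (congrArg Subtype.val r))
      · exact Or.inr (e.symm.trans (congrArg Subtype.val r))
  -- the subgroup is Sylow in the whole group
  have hnorm : normalizer (R : Set G) ≤ T.toTop.H := by
    intro g hg
    have htR : T.t ∈ R := hQR htQ
    have hgt : g * T.t * g⁻¹ ∈ R := (mem_normalizer_iff.1 hg _).1 htR
    rcases hzR _ hgt (fun r hr => by
      have hr' : g⁻¹ * r * g ∈ R := by
        have := (mem_normalizer_iff.1 (inv_mem hg) r).1 hr
        rwa [inv_inv] at this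
      calc g * T.t * g⁻¹ * r = g * (T.t * (g⁻¹ * r * g)) * g⁻¹ := by group
        _ = g * ((g⁻¹ * r * g) * T.t) * g⁻¹ := by rw [(T.toInv.comm_H (hRH hr')).eq]
        _ = r * (g * T.t * g⁻¹) := by group) with e | e
    · exact absurd (conj_eq_one_iff.1 e) T.toTop.ht1
    · exact T.toInv.mem_H (mul_inv_eq_iff_eq_mul.1 e)
  obtain ⟨P0, hP0⟩ := hR2.exists_le_sylow
  have hRP : R = (P0 : Subgroup G) := by
    haveI : Group.IsNilpotent (P0 : Subgroup G) := P0.2.isNilpotent
    refine le_antisymm hP0 ?_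
    suffices h : R.subgroupOf (P0 : Subgroup G) = ⊤ from fun x hx =>
      mem_subgroupOf.1 (h ▸ mem_top (⟨x, hx⟩ : (P0 : Subgroup G)))
    by_contra hne
    have hlt := normalizerCondition_of_isNilpotent (R.subgroupOf (P0 : Subgroup G)) (lt_top_iff_ne_top.2 hne)
    obtain ⟨x, hx, hxn⟩ := SetLike.exists_of_lt hlt
    have hxN : (x : G) ∈ normalizer (R : Set G) := mem_normalizer_of_map_mem fun y hy =>
      mem_subgroupOf.1 ((mem_normalizer_iff.1 hx ⟨y, hP0 hy⟩).1 (mem_subgroupOf.2 hy))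
    refine hxn (mem_subgroupOf.2 ?_)
    obtain ⟨S2, hS2⟩ : ∃ S2 : Subgroup G, S2 = R ⊔ zpowers (x : G) := ⟨_, rfl⟩
    have hS2p : IsPGroup 2 S2 := hS2 ▸ IsPGroup.to_sup_of_normal_left' hR2 (P0.2.to_le (zpowers_le.2 x.2)) (zpowers_le.2 hxN)
    have hS2H : S2 ≤ T.toTop.H := hS2 ▸ sup_le hRH (zpowers_le.2 (hnorm hxN))
    obtain ⟨n, hn⟩ := hS2p.exists_card_eq
    have hd := card_dvd_of_le hS2H
    rw [T.card_H, hn] at hd
    have hn8 : n ≤ 8 := by
      by_contra hh
      exact absurd ((pow_dvd_pow 2 (by omega : 9 ≤ n)).trans hd) (by norm_num)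
    have := eq_of_le_of_card_ge (hS2 ▸ le_sup_left : R ≤ S2)
      (by rw [hn, hRc]; exact (Nat.pow_le_pow_right (by norm_num) hn8).trans (by norm_num))
    rw [this, hS2]
    exact mem_sup_right (mem_zpowers _)
  have hidx : ∃ m, Odd m ∧ Q.index = 2 * m := by
    refine ⟨(P0 : Subgroup G).index, ?_, ?_⟩
    · rw [Nat.odd_iff, ← Nat.two_dvd_ne_zero]
      exact P0.not_dvd_index
    · have hrel : Q.relIndex (P0 : Subgroup G) = 2 := by
        have := (Q.subgroupOf (P0 : Subgroup G)).card_mul_index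
        rw [Nat.card_congr (subgroupOfEquivOfLe (hQR.trans hP0)).toEquiv, hQc, ← hRP, hRc] at this
        rw [← hRP]
        show (Q.subgroupOf R).index = 2
        omega
      rw [← relIndex_mul_index (hQR.trans hP0), hrel]
  obtain ⟨m, hm, hQi⟩ := hidx
  obtain ⟨u, hu, hu2, hua⟩ := T.exists_u
  have huH := (mem_inf.1 hu).1
  have hu1 : u ≠ 1 := fun e => by
    have := congrFun (T.toTop.toFrame.acts_unique hua (e ▸ T.toTop.toFrame.acts_one)) 1
    exact absurd this (by show actH 2 1 ≠ 1; decide +kernel)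
  have huo : orderOf u = 2 := orderOf_eq_prime (by rw [pow_two, hu2]) hu1
  obtain ⟨M, hMn, hMi, huM⟩ := Cfsg.Lib.Transfer.exists_index_two_not_mem Q hm hQi huo (fun g hg => by
    obtain ⟨k, hk⟩ := T.X_fused (hQX hg) (by
      rw [show g⁻¹ * u * g * (g⁻¹ * u * g) = g⁻¹ * (u * u) * g by group, hu2, mul_one, inv_mul_cancel])
      (fun e => hu1 (by
        calc u = g * (g⁻¹ * u * g) * g⁻¹ := by group
          _ = 1 := by rw [e]; group))
    exact T.u_not_conj huH hua (g * k) (by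
      calc g * k * T.t * (g * k)⁻¹ = g * (k * T.t * k⁻¹) * g⁻¹ := by group
        _ = u := by rw [hk]; group))
  refine ⟨M, hMn, hMi, ?_⟩
  haveI := hMn
  obtain ⟨ε, hε⟩ : ∃ ε, ε = QuotientGroup.mk' M := ⟨_, rfl⟩
  have hXM : T.X ≤ M := by
    intro x hx
    -- a perfect group has no quotient of order two
    have hcomm : commutator T.X = ⊤ := by
      obtain ⟨-, hq, hnc⟩ := T.cover
      obtain ⟨q⟩ := hq
      obtain ⟨f, hfd⟩ : ∃ f : T.X →* alternatingGroup (Fin 8), f = q.toMonoidHom.comp (QuotientGroup.mk' (center T.X)) := ⟨_, rfl⟩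
      have hfs : Function.Surjective f := hfd ▸ q.surjective.comp (QuotientGroup.mk'_surjective _)
      haveI : IsSimpleGroup (alternatingGroup (Fin 8)) := alternatingGroup.isSimpleGroup (by rw [Nat.card_fin]; norm_num)
      have htop : commutator (alternatingGroup (Fin 8)) = ⊤ := by
        refine (IsSimpleGroup.eq_bot_or_eq_top_of_normal (commutator (alternatingGroup (Fin 8))) inferInstance).resolve_left fun h => ?_
        have hc : ∀ a b : alternatingGroup (Fin 8), a * b = b * a := fun a b =>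
          commutatorElement_eq_one_iff_mul_comm.1 (mem_bot.1 (h ▸ commutator_mem_commutator (mem_top a) (mem_top b)))
        have hbot := alternatingGroup.center_eq_bot (α := Fin 8) (by rw [Nat.card_fin]; norm_num)
        have htc : center (alternatingGroup (Fin 8)) = ⊤ := eq_top_iff.2 fun a _ => mem_center_iff.2 fun b => hc b a
        rw [htc] at hbot
        have := Nat.card_congr ((MulEquiv.subgroupCongr hbot).toEquiv)
        rw [Nat.card_congr Subgroup.topEquiv.toEquiv, card_bot, nat_card_alternatingGroup, Nat.card_fin] at this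
        exact absurd this (by decide)
      have hsup : commutator T.X ⊔ center T.X = ⊤ := by
        have hker : f.ker = center T.X := by
          rw [hfd]; ext a; simp [MonoidHom.mem_ker]
        rw [← hker, ← Subgroup.comap_map_eq, _root_.commutator_def, map_commutator, map_top_of_surjective f hfs,
          ← _root_.commutator_def, htop, comap_top]
      by_contra hne
      refine hnc (commutator T.X) (Subgroup.isComplement'_of_disjoint_and_mul_eq_univ ?_ ?_)
      · rw [disjoint_iff]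
        by_contra hd
        have hd2 : Nat.card ↥(center T.X ⊓ commutator T.X) = 2 := by
          have h1 : 1 < Nat.card ↥(center T.X ⊓ commutator T.X) := (one_lt_card_iff_ne_bot _).2 hd
          have h2 := card_le_of_le (inf_le_left : center T.X ⊓ commutator T.X ≤ center T.X)
          rw [T.cover.1] at h2
          omega
        have hle : center T.X ≤ commutator T.X := by
          rw [← eq_of_le_of_card_ge (inf_le_left : center T.X ⊓ commutator T.X ≤ center T.X) (by rw [hd2, T.cover.1])]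
          exact inf_le_right
        exact hne (by rw [← hsup]; exact (sup_eq_left.2 hle).symm)
      · rw [← Subgroup.normal_mul, ← Subgroup.coe_top, SetLike.coe_set_eq, sup_comm]
        exact hsup
    have h : commutator T.X ≤ ((QuotientGroup.mk' M).comp T.X.subtype).ker := by
      haveI : IsCyclic (G ⧸ M) := isCyclic_of_prime_card (p := 2) (by rw [← M.index_eq_card, hMi])
      letI : CommGroup (G ⧸ M) := IsCyclic.commGroup
      exact Abelianization.commutator_subset_ker _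
    have := h (hcomm ▸ mem_top (⟨x, hx⟩ : T.X))
    exact (QuotientGroup.eq_one_iff x).1 this
  refine le_antisymm (le_inf T.X_le hXM) fun x hx => ?_
  obtain ⟨hxH, hxM⟩ := mem_inf.1 hx
  by_contra hnot
  have hodd : Perm.sign (T.ρ ⟨x, hxH⟩) = -1 :=
    (Int.units_eq_one_or _).resolve_left fun h => hnot ((T.X_iff ⟨x, hxH⟩).2 h)
  have hux : x⁻¹ * u ∈ T.X := (T.X_iff ⟨x⁻¹ * u, mul_mem (inv_mem hxH) huH⟩).2 (by
    rw [show (⟨x⁻¹ * u, mul_mem (inv_mem hxH) huH⟩ : ↥T.toTop.H) = (⟨x, hxH⟩ : ↥T.toTop.H)⁻¹ * ⟨u, huH⟩ from rfl,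
      map_mul, map_mul, map_inv, map_inv, hodd, T.u_odd huH hu2 hua]
    decide)
  have := mul_mem hxM (hXM hux)
  rw [mul_inv_cancel_left] at this
  exact huM this

end Sym

end Cfsg.Lib.McLLocal
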