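import Cfsg.Agent.LocalThree.McLLocal.CodeData
import Mathlib.GroupTheory.SpecificGroups.Dihedral

/-!
The actions on the signed pair of points.
-/

set_option autoImplicit false
set_option maxRecDepth 100000
set_option synthInstance.maxSize 4096

namespace Cfsg.Lib.McLLocal

/-- The corner of the square. -/
def vtx (v : Fin 81) : ZMod 4 := if v = 1 then 0 else if v = 27 then 1 else if v = 2 then 2 else 3

/-- The symmetry of the square. -/
def dh (k : Fin 64) : DihedralGroup 4 :=
  if vtx (colW k) = vtx (colZ k) + 1 then DihedralGroup.r (vtx (colZ k)) else DihedralGroup.sr (-vtx (colZ k))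

/-- Membership of the smaller group. -/
def eps (k c : Fin 64) : Multiplicative (ZMod 2) := Multiplicative.ofAdd (if c ∈ codesA k then 0 else 1)

theorem dh_mul : ∀ m n : Fin 64, dh (mulH m n) = dh m * dh n := by decide +kernel

theorem eps_mul : ∀ k : Fin 64, kFour k → ∀ m ∈ codesB, ∀ n ∈ codesB, eps k (mulH m n) = eps k m * eps k n := by
  decide +kernel

theorem dh_one : dh 0 = 1 ∧ dh 16 = 1 := by decide +kernel

theorem dh_ker : ∀ c : Fin 64, dh c = 1 → colZ c = 1 ∧ colW c = 27 := by decide +kernel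

theorem dh_ker' : ∀ c : Fin 64, colZ c = 1 → colW c = 27 → dh c = 1 := by decide +kernel

theorem small_ker : ∀ k : Fin 64, kFour k → (∀ c ∈ codesA k, dh c = 1 → c = 0 ∨ c = 16) ∧
    (∀ c ∈ codesB, dh c = 1 → eps k c = 1 → c = 0 ∨ c = 16) ∧ eps k 0 = 1 ∧ eps k 16 = 1 := by decide +kernel

theorem dh_surj : ∀ k : Fin 64, kFour k → (∀ d : DihedralGroup 4, ∃ c ∈ codesA k, dh c = d) ∧
    ∀ d : DihedralGroup 4, ∀ b : ZMod 2, ∃ c ∈ codesB, dh c = d ∧ eps k c = Multiplicative.ofAdd b := by decide +kernel

/-- The actions fixing the nonsingular vector. -/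
def fixList (L : List (Fin 64)) : List (Fin 64) := L.filter fun c => actH c 28 = 28

/-- The actions preserving its line. -/
def lineList (L : List (Fin 64)) : List (Fin 64) := L.filter fun c => actH c 28 = 28 ∨ actH c 28 = 56

/-- The actions fixing both points. -/
def bothList (L : List (Fin 64)) : List (Fin 64) := L.filter fun c => colZ c = 1 ∧ colW c = 27

theorem list_counts : ∀ k : Fin 64, kFour k →
    (fixList (codesA k)).toFinset.card = 4 ∧ (lineList (codesA k)).toFinset.card = 8 ∧ (bothList (codesA k)).toFinset.card = 2 ∧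
    (fixList codesB).toFinset.card = 8 ∧ (lineList codesB).toFinset.card = 16 ∧ (bothList codesB).toFinset.card = 4 := by
  decide +kernel

theorem line_squares : ∀ c ∈ codesB, (actH c 28 = 28 ∨ actH c 28 = 56) → mulH c c = 0 ∨ mulH c c = 16 := by decide +kernel

theorem point_facts : ad 1 27 = (28 : Fin 81) ∧ (28 : Fin 81) ≠ 0 ∧ ¬ Sing (28 : Fin 81) ∧ ng (28 : Fin 81) = 56 := by
  decide +kernel

theorem both_invert : ∀ v : Fin 81, (actH 16 v = v) → dg v 1 = 0 ∧ dg v 2 = 0 := by decide +kernel

end Cfsg.Lib.McLLocal
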