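import Cfsg.Agent.LocalThree.McLLocal.ZSide
import Cfsg.Agent.LocalThree.McLLocal.KData
import Cfsg.Agent.S3329
import Cfsg.Agent.S3330

/-!
The centraliser of the involution modulo the involution.
-/

set_option autoImplicit false
set_option linter.unusedSectionVars false
set_option maxRecDepth 100000
set_option synthInstance.maxSize 4096

namespace Cfsg.Lib.McLLocal

open Subgroup Equiv
open scoped Pointwise commutatorElement

universe u

variable {G : Type u} [Group G] [Finite G]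

/-- Two quotient maps with the same kernel. -/
theorem equiv_of_ker {A B C : Type*} [Group A] [Group B] [Group C] (f : A →* B) (g : A →* C)
    (hf : Function.Surjective f) (hg : Function.Surjective g) (h : ∀ a, f a = 1 ↔ g a = 1) : Nonempty (B ≃* C) :=
  ⟨((QuotientGroup.quotientKerEquivOfSurjective f hf).symm.trans
    (QuotientGroup.quotientMulEquivOfEq (by ext a; exact h a))).trans
      (QuotientGroup.quotientKerEquivOfSurjective g hg)⟩

namespace Inv

variable (I : Inv G)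

/-- The involution's subgroup. -/
def Tz : Subgroup ↥I.toTop.H := (zpowers I.t).subgroupOf I.toTop.H

instance : I.Tz.Normal := ⟨fun n hn g => by
  have hn' := mem_subgroupOf.1 hn
  refine mem_subgroupOf.2 ?_
  obtain ⟨i, hi⟩ := mem_zpowers_iff.1 hn'
  have hgt : Commute (g : G) I.t := mem_centralizer_singleton_iff.1 g.2
  show (g : G) * (n : G) * (g : G)⁻¹ ∈ _
  rw [← hi, (hgt.zpow_right i).eq, mul_inv_cancel_right]
  exact zpow_mem (mem_zpowers _) i⟩

/-- The quotient. -/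
abbrev Kt : Type u := ↥I.toTop.H ⧸ I.Tz

/-- The quotient map. -/
def km : ↥I.toTop.H →* I.Kt := QuotientGroup.mk' I.Tz

theorem km_surj : Function.Surjective I.km := QuotientGroup.mk'_surjective _

theorem mem_zt {x : G} : x ∈ zpowers I.t ↔ x = 1 ∨ x = I.t := by
  constructor
  · intro h
    obtain ⟨n, rfl⟩ := mem_zpowers_iff.1 h
    rcases Int.even_or_odd n with ⟨m, rfl⟩ | ⟨m, rfl⟩
    · refine Or.inl ?_
      rw [← two_mul, zpow_mul, zpow_two, I.ht, one_zpow]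
    · refine Or.inr ?_
      rw [zpow_add, zpow_mul, zpow_two, I.ht, one_zpow, one_mul, zpow_one]
  · rintro (rfl | rfl)
    · exact one_mem _
    · exact mem_zpowers _

theorem km_eq_one {h : ↥I.toTop.H} : I.km h = 1 ↔ (h : G) = 1 ∨ (h : G) = I.t :=
  (QuotientGroup.eq_one_iff h).trans (mem_subgroupOf.trans I.mem_zt)

theorem km_eq_iff {a b : ↥I.toTop.H} : I.km a = I.km b ↔ (a : G) = b ∨ (a : G) = b * I.t := by
  have h : I.km a = I.km b ↔ I.km (b⁻¹ * a) = 1 := by rw [map_mul, map_inv, inv_mul_eq_one, eq_comm]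
  rw [h, I.km_eq_one]
  simp only [coe_mul, coe_inv, inv_mul_eq_iff_eq_mul, mul_one]

theorem exists_rep (k : I.Kt) : ∃ h : ↥I.toTop.H, I.km h = k := I.km_surj k

/-- The image of a subgroup. -/
def img (X : Subgroup G) : Subgroup I.Kt := (X.subgroupOf I.toTop.H).map I.km

theorem mem_img {X : Subgroup G} (ht : I.t ∈ X) {h : ↥I.toTop.H} : I.km h ∈ I.img X ↔ (h : G) ∈ X := by
  refine ⟨?_, fun hh => ⟨h, mem_subgroupOf.2 hh, rfl⟩⟩
  rintro ⟨a, ha, e⟩
  rcases I.km_eq_iff.1 e with r | r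
  · exact r ▸ mem_subgroupOf.1 ha
  · have := mul_mem (mem_subgroupOf.1 ha) (inv_mem ht)
    rwa [r, mul_inv_cancel_right] at this

theorem card_img {X : Subgroup G} (hX : X ≤ I.toTop.H) (ht : I.t ∈ X) : Nat.card X = 2 * Nat.card (I.img X) := by
  let f : ↥(X.subgroupOf I.toTop.H) →* I.img X := (I.km.subgroupMap _)
  have h := card_eq_card_quotient_mul_card_subgroup f.ker
  rw [Nat.card_congr (QuotientGroup.quotientKerEquivOfSurjective f (MonoidHom.subgroupMap_surjective _ _)).toEquiv,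
    Nat.card_congr (subgroupOfEquivOfLe hX).toEquiv] at h
  rw [h, mul_comm]
  refine congrArg (· * _) ?_
  refine Nat.card_eq_two_iff.2 ⟨⟨1, one_mem _⟩,
    ⟨⟨⟨I.t, I.mem_H (Commute.refl _)⟩, mem_subgroupOf.2 ht⟩, ?_⟩, ?_, ?_⟩
  · refine MonoidHom.mem_ker.2 (Subtype.ext ?_)
    exact I.km_eq_one.2 (Or.inr rfl)
  · intro e
    exact I.toTop.ht1 (congrArg (fun a : f.ker => (((a : ↥(X.subgroupOf I.toTop.H)) : ↥I.toTop.H) : G)) e).symm
  · refine Set.eq_univ_iff_forall.2 fun a => ?_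
    rcases I.km_eq_one.1 (congrArg Subtype.val (MonoidHom.mem_ker.1 a.2)) with r | r
    · exact Or.inl (Subtype.ext (Subtype.ext (Subtype.ext r)))
    · exact Or.inr (Subtype.ext (Subtype.ext (Subtype.ext r)))

theorem t_mem_H : I.t ∈ I.toTop.H := I.mem_H (Commute.refl _)

theorem order_three_eq {d d' : G} (h3 : d ^ 3 = 1) (h3' : d' ^ 3 = 1) (hc : Commute d I.t) (h : d' = d * I.t) : False := by
  rw [h, hc.mul_pow, h3, one_mul, pow_succ, pow_two, I.ht, one_mul] at h3'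
  exact I.toTop.ht1 h3'

theorem e_H {v : Fin 81} (h1 : dg v 1 = 0) (h2 : dg v 2 = 0) : I.e v ∈ I.toTop.H :=
  (I.toTop.mem_D.2 ⟨h1, h2⟩).2

/-- An element of the fixed part in the quotient. -/
def dbar (d : I.toTop.D) : I.Kt := I.km ⟨d, I.D_le_H d.2⟩

theorem km_conj_mem (c : ↥I.toTop.H) {d x : G} (hd : d ∈ I.toTop.H) (hx : x ∈ I.toTop.H) (h3 : d ^ 3 = 1) (hx3 : x ^ 3 = 1)
    (h : I.km c * I.km ⟨d, hd⟩ * (I.km c)⁻¹ = I.km ⟨x, hx⟩) : (c : G) * d * (c : G)⁻¹ = x := by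
  rw [← map_inv, ← map_mul, ← map_mul] at h
  rcases I.km_eq_iff.1 h with r | r
  · exact r
  · exact (I.order_three_eq hx3 (by rw [← r]; show ((c : G) * d * (c : G)⁻¹) ^ 3 = 1; rw [conj_pow, h3, mul_one, mul_inv_cancel])
      (I.comm_H hx) rfl).elim

theorem pow_three_D {d : G} (hd : d ∈ I.toTop.D) : d ^ 3 = 1 := I.hJexp d hd.1

theorem cent_img {d : G} (hd : d ∈ I.toTop.D) :
    centralizer ({I.dbar ⟨d, hd⟩} : Set I.Kt) = I.img (I.toTop.H ⊓ centralizer ({d} : Set G)) := by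
  have ht : I.t ∈ I.toTop.H ⊓ centralizer ({d} : Set G) :=
    mem_inf.2 ⟨I.t_mem_H, mem_centralizer_singleton_iff.2 (I.comm_H (I.D_le_H hd)).symm⟩
  ext k
  obtain ⟨c, rfl⟩ := I.exists_rep k
  rw [I.mem_img ht, mem_centralizer_singleton_iff, mem_inf]
  constructor
  · intro h
    exact ⟨c.2, mem_centralizer_singleton_iff.2 (mul_inv_eq_iff_eq_mul.1 (I.km_conj_mem c (I.D_le_H hd) (I.D_le_H hd) (I.pow_three_D hd) (I.pow_three_D hd)
      (mul_inv_eq_iff_eq_mul.2 h)))⟩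
  · rintro ⟨-, h⟩
    show I.km c * I.km _ = I.km _ * I.km c
    rw [← map_mul, ← map_mul]
    exact congrArg I.km (Subtype.ext (mem_centralizer_singleton_iff.1 h))

theorem norm_line_img {v : Fin 81} (hv : v ≠ 0) (hd : I.e v ∈ I.toTop.D) :
    normalizer (zpowers (I.dbar ⟨_, hd⟩) : Set I.Kt) = I.img (I.toTop.H ⊓ normalizer (zpowers (I.e v) : Set G)) := by
  have ht : I.t ∈ I.toTop.H ⊓ normalizer (zpowers (I.e v) : Set G) := mem_inf.2 ⟨I.t_mem_H,
    mem_normalizer_of_map_mem fun x hx => by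
      obtain ⟨n, rfl⟩ := mem_zpowers_iff.1 hx
      rw [((I.comm_H (I.D_le_H hd)).symm.zpow_right n).eq, mul_inv_cancel_right]
      exact zpow_mem (mem_zpowers _) n⟩
  ext k
  obtain ⟨c, rfl⟩ := I.exists_rep k
  rw [I.mem_img ht, mem_inf]
  constructor
  · intro h
    refine ⟨c.2, mem_normalizer_of_map_mem fun x hx => ?_⟩
    have hm := (mem_normalizer_iff.1 h (I.dbar ⟨_, hd⟩)).1 (mem_zpowers _)
    obtain ⟨n, hn⟩ := mem_zpowers_iff.1 hm
    have hpow : I.e v ^ n ∈ I.toTop.D := zpow_mem hd n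
    have e : (c : G) * I.e v * (c : G)⁻¹ = I.e v ^ n := I.km_conj_mem c (I.D_le_H hd) (I.D_le_H hpow)
      (I.pow_three_D hd) (I.pow_three_D hpow) (by
        rw [show (⟨I.e v ^ n, I.D_le_H hpow⟩ : ↥I.toTop.H) = ⟨I.e v, I.D_le_H hd⟩ ^ n from
          Subtype.ext (SubgroupClass.coe_zpow (⟨I.e v, I.D_le_H hd⟩ : ↥I.toTop.H) n).symm, map_zpow]
        exact hn.symm)
    obtain ⟨i, rfl⟩ := mem_zpowers_iff.1 hx
    rw [← conj_zpow, e]
    exact zpow_mem (zpow_mem (mem_zpowers _) n) i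
  · rintro ⟨-, h⟩
    refine mem_normalizer_of_map_mem fun x hx => ?_
    obtain ⟨i, rfl⟩ := mem_zpowers_iff.1 hx
    obtain ⟨n, hn⟩ := mem_zpowers_iff.1 ((mem_normalizer_iff.1 h _).1 (mem_zpowers (I.e v)))
    rw [← conj_zpow]
    refine zpow_mem ?_ i
    refine mem_zpowers_iff.2 ⟨n, ?_⟩
    show I.km _ ^ n = _
    rw [← map_zpow, dbar, ← map_inv, ← map_mul, ← map_mul]
    exact congrArg I.km (Subtype.ext (by rw [SubgroupClass.coe_zpow]; exact hn))

/-- The normaliser of the fixed part in the centraliser. -/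
abbrev ND : Subgroup G := I.toTop.H ⊓ I.toData.M

theorem t_ND : I.t ∈ I.ND := mem_inf.2 ⟨I.t_mem_H, I.toFrame.acts_mem I.hta⟩

theorem D_le_ND : I.toTop.D ≤ I.ND := le_inf I.D_le_H (fun _ hx => le_normalizer hx.1)

theorem km_mem_img {X : Subgroup G} {h : ↥I.toTop.H} (hh : (h : G) ∈ X) : I.km h ∈ I.img X :=
  ⟨h, mem_subgroupOf.2 hh, rfl⟩

theorem norm_D_img (hP : I.toFrame.PointCond) : normalizer (I.img I.toTop.D : Set I.Kt) = I.img I.ND := by
  ext k
  obtain ⟨c, rfl⟩ := I.exists_rep k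
  rw [I.mem_img I.t_ND]
  constructor
  · intro h
    rw [ND, ← I.norm_D_eq hP]
    refine mem_inf.2 ⟨c.2, mem_normalizer_of_map_mem fun x hx => ?_⟩
    obtain ⟨a, ha, e⟩ := (mem_normalizer_iff.1 h _).1 (I.km_mem_img (h := ⟨x, I.D_le_H hx⟩) hx)
    rw [I.km_conj_mem c (I.D_le_H hx) a.2 (I.pow_three_D hx) (I.pow_three_D (mem_subgroupOf.1 ha)) e.symm]
    exact mem_subgroupOf.1 ha
  · intro h
    refine mem_normalizer_of_map_mem fun x hx => ?_
    obtain ⟨a, ha, rfl⟩ := hx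
    rw [← map_inv, ← map_mul, ← map_mul]
    exact I.km_mem_img (I.conj_D h (mem_subgroupOf.1 ha))

theorem cent_D_img : centralizer (I.img I.toTop.D : Set I.Kt) = I.img (I.toTop.H ⊓ centralizer (I.toTop.D : Set G)) := by
  have ht : I.t ∈ I.toTop.H ⊓ centralizer (I.toTop.D : Set G) :=
    mem_inf.2 ⟨I.t_mem_H, mem_centralizer_iff.2 fun d hd => I.comm_H (I.D_le_H hd)⟩
  ext k
  obtain ⟨c, rfl⟩ := I.exists_rep k
  rw [I.mem_img ht, mem_inf, mem_centralizer_iff, mem_centralizer_iff]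
  constructor
  · intro h
    refine ⟨c.2, fun d hd => ?_⟩
    have := h _ (I.km_mem_img (h := ⟨d, I.D_le_H hd⟩) hd)
    exact (mul_inv_eq_iff_eq_mul.1 (I.km_conj_mem c (I.D_le_H hd) (I.D_le_H hd) (I.pow_three_D hd) (I.pow_three_D hd)
      (mul_inv_eq_iff_eq_mul.2 this.symm))).symm
  · rintro ⟨-, h⟩ x ⟨a, ha, rfl⟩
    rw [← map_mul, ← map_mul]
    exact congrArg I.km (Subtype.ext (h _ (mem_subgroupOf.1 ha)))

theorem km_inj_D {a b : ↥I.toTop.H} (ha : (a : G) ∈ I.toTop.D) (hb : (b : G) ∈ I.toTop.D) (h : I.km a = I.km b) : a = b := by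
  rcases I.km_eq_iff.1 h with r | r
  · exact Subtype.ext r
  · exact (I.order_three_eq (I.pow_three_D hb) (I.pow_three_D ha) (I.comm_H b.2) r).elim

theorem card_img_D : Nat.card (I.img I.toTop.D) = 9 := by
  rw [← I.toTop.card_D]
  refine (Nat.card_congr (Equiv.ofBijective (fun d : I.toTop.D => (⟨I.dbar d, I.km_mem_img d.2⟩ : I.img I.toTop.D))
    ⟨fun a b h => ?_, fun x => ?_⟩)).symm
  · have := I.km_inj_D (a := ⟨a, I.D_le_H a.2⟩) (b := ⟨b, I.D_le_H b.2⟩) a.2 b.2 (congrArg Subtype.val h)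
    exact Subtype.ext (congrArg Subtype.val this :)
  · obtain ⟨x, a, ha, rfl⟩ := x
    exact ⟨⟨a, mem_subgroupOf.1 ha⟩, rfl⟩

theorem exists_sylow (hP : I.toFrame.PointCond) : ∃ P : Sylow 3 I.Kt, (P : Subgroup I.Kt) = I.img I.toTop.D := by
  haveI := fact_three
  obtain ⟨P, hPle⟩ := (IsPGroup.of_card (n := 2) (I.card_img_D.trans (by norm_num))).exists_le_sylow
    (p := 3) (P := I.img I.toTop.D)
  obtain ⟨R, hRd⟩ : ∃ R, R = ((P : Subgroup I.Kt).comap I.km).map I.toTop.H.subtype := ⟨_, rfl⟩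
  have hRH : R ≤ I.toTop.H := hRd ▸ map_subtype_le _
  have htR : I.t ∈ R := hRd ▸ ⟨⟨I.t, I.t_mem_H⟩, by
    show I.km _ ∈ (P : Subgroup I.Kt)
    rw [I.km_eq_one.2 (Or.inr rfl)]
    exact one_mem _, rfl⟩
  have hDR : I.toTop.D ≤ R := fun d hd => hRd ▸ ⟨⟨d, I.D_le_H hd⟩, hPle (I.km_mem_img hd), rfl⟩
  have himg : I.img R = (P : Subgroup I.Kt) := by
    ext k
    obtain ⟨c, rfl⟩ := I.exists_rep k
    rw [I.mem_img htR, hRd]
    exact ⟨fun ⟨a, ha, e⟩ => (Subtype.ext e : a = c) ▸ ha, fun h => ⟨c, h, rfl⟩⟩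
  have hcard := I.card_img hRH htR
  rw [himg] at hcard
  obtain ⟨n, hn⟩ := P.2.exists_card_eq
  have hDp : IsPGroup 3 I.toTop.D := IsPGroup.of_card (n := 2) (I.toTop.card_D.trans (by norm_num))
  obtain ⟨S', hS'⟩ := (hDp.of_equiv (subgroupOfEquivOfLe hDR).symm).exists_le_sylow
  have hSD : (S' : Subgroup R).map R.subtype = I.toTop.D := I.D_max hP (S'.2.map _)
    (fun d hd => ⟨⟨d, hDR hd⟩, hS' (mem_subgroupOf.2 hd), rfl⟩) ((map_subtype_le _).trans hRH)
  have h9 : Nat.card S' = 9 := by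
    rw [Nat.card_congr (Subgroup.equivMapOfInjective _ _ R.subtype_injective).toEquiv, hSD, I.toTop.card_D]
  have hm := S'.card_eq_multiplicity
  rw [h9, hcard, hn, Nat.factorization_mul (by norm_num) (by positivity), Finsupp.add_apply,
    Nat.Prime.factorization_pow Nat.prime_three, Finsupp.single_eq_same,
    Nat.factorization_eq_zero_of_not_dvd (by norm_num : ¬ 3 ∣ 2), zero_add, ← hn] at hm
  exact ⟨P, (eq_of_le_of_card_ge hPle (by rw [I.card_img_D, hm])).symm⟩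

theorem closure_img : Subgroup.closure {I.km ⟨I.e 28, I.e_H rfl rfl⟩, I.km ⟨I.e 1, I.e_H rfl rfl⟩} = I.img I.toTop.D := by
  refine le_antisymm ((closure_le _).2 ?_) ?_
  · rintro x (rfl | rfl)
    · exact I.km_mem_img (I.toTop.mem_D.2 (by decide +kernel))
    · exact I.km_mem_img I.toTop.e1_mem_D
  · rintro _ ⟨a, ha, rfl⟩
    obtain ⟨v, hv⟩ := (I.memJ _).1 (mem_subgroupOf.1 ha).1
    obtain ⟨i, j, e⟩ := I.mem_D_split (hv ▸ mem_subgroupOf.1 ha)
    have h28 : I.e 28 = I.e 1 * I.e 27 := by rw [← I.e_add, point_facts.1]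
    have ea : a = ⟨I.e 1, I.e_H rfl rfl⟩ ^ i.val * ((⟨I.e 1, I.e_H rfl rfl⟩ : ↥I.toTop.H)⁻¹ * ⟨I.e 28, I.e_H rfl rfl⟩) ^ j.val :=
      Subtype.ext (by
        simp only [coe_mul, SubgroupClass.coe_pow, coe_inv]
        rw [h28, inv_mul_cancel_left, ← e, hv])
    rw [ea, map_mul, map_pow, map_pow, map_mul, map_inv]
    have m1 : I.km ⟨I.e 1, I.e_H rfl rfl⟩ ∈ Subgroup.closure {I.km ⟨I.e 28, I.e_H rfl rfl⟩, I.km ⟨I.e 1, I.e_H rfl rfl⟩} :=
      subset_closure (Or.inr rfl)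
    exact mul_mem (pow_mem m1 _) (pow_mem (mul_mem (inv_mem m1) (subset_closure (Or.inl rfl))) _)

theorem img_comm : IsMulCommutative (I.img I.toTop.D) := ⟨⟨fun a b => by
  obtain ⟨_, a', ha, rfl⟩ := a
  obtain ⟨_, b', hb, rfl⟩ := b
  refine Subtype.ext ?_
  show I.km a' * I.km b' = I.km b' * I.km a'
  rw [← map_mul, ← map_mul]
  exact congrArg I.km (Subtype.ext (I.toTop.D_comm (mem_subgroupOf.1 ha) (mem_subgroupOf.1 hb)))⟩⟩

theorem img_exp : ∀ a ∈ I.img I.toTop.D, a ^ 3 = 1 := by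
  rintro _ ⟨a, ha, rfl⟩
  rw [← map_pow, show a ^ 3 = 1 from Subtype.ext (by
    rw [SubgroupClass.coe_pow]; exact I.pow_three_D (mem_subgroupOf.1 ha)), map_one]

/-- The action of an element. -/
noncomputable def code (g : ↥I.ND) : Fin 64 := (I.exists_code g.2).choose

theorem code_acts (g : ↥I.ND) : I.toFrame.Acts (g : G) (actH (I.code g)) := (I.exists_code g.2).choose_spec

theorem code_mul (g h : ↥I.ND) : I.code (g * h) = mulH (I.code g) (I.code h) :=
  I.toFrame.code_unique (I.code_acts (g * h)) (I.toFrame.acts_H_mul (I.code_acts g) (I.code_acts h))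

theorem code_one : I.code 1 = 0 :=
  I.toFrame.code_unique (I.code_acts 1) fun v => by rw [OneMemClass.coe_one, actH_zero]; exact I.toFrame.acts_one v

theorem code_eq {g : ↥I.ND} {c : Fin 64} (h : I.toFrame.Acts (g : G) (actH c)) : I.code g = c :=
  I.toFrame.code_unique (I.code_acts g) h

/-- The symmetry of the square. -/
noncomputable def toD8 : ↥I.ND →* DihedralGroup 4 where
  toFun g := dh (I.code g)
  map_one' := by rw [I.code_one]; exact dh_one.1
  map_mul' g h := by rw [I.code_mul, dh_mul]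

/-- The second coordinate. -/
noncomputable def toTwo : ↥I.ND →* Multiplicative (ZMod 2) where
  toFun g := eps I.k₀ (I.code g)
  map_one' := by rw [I.code_one]; exact (small_ker I.k₀ I.hk₀).2.2.1
  map_mul' g h := by
    rw [I.code_mul, eps_mul I.k₀ I.hk₀ _ (I.code_mem g.2 (I.code_acts g)).1 _ (I.code_mem h.2 (I.code_acts h)).1]

/-- The projection of the normaliser. -/
noncomputable def toQuot (hP : I.toFrame.PointCond) :
    ↥I.ND →* normalizer (I.img I.toTop.D : Set I.Kt) ⧸ (I.img I.toTop.D).subgroupOf (normalizer (I.img I.toTop.D : Set I.Kt)) :=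
  (QuotientGroup.mk' _).comp ((I.km.comp (Subgroup.inclusion (inf_le_left : I.ND ≤ I.toTop.H))).codRestrict _
    fun g => (I.norm_D_img hP).symm ▸ I.km_mem_img g.2)

theorem toQuot_surj (hP : I.toFrame.PointCond) : Function.Surjective (I.toQuot hP) := by
  intro q
  obtain ⟨⟨k, hk⟩, rfl⟩ := QuotientGroup.mk'_surjective _ q
  have hk' := I.norm_D_img hP ▸ hk
  obtain ⟨a, ha, rfl⟩ := hk'
  exact ⟨⟨a, mem_subgroupOf.1 ha⟩, rfl⟩

theorem toQuot_ker (hP : I.toFrame.PointCond) (g : ↥I.ND) :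
    I.toQuot hP g = 1 ↔ I.code g = 0 ∨ I.code g = 16 := by
  rw [toQuot, MonoidHom.comp_apply, QuotientGroup.mk'_apply, QuotientGroup.eq_one_iff, mem_subgroupOf]
  constructor
  · rintro ⟨a, ha, e⟩
    have haJ : (a : G) ∈ I.J := (mem_subgroupOf.1 ha).1
    rcases I.km_eq_iff.1 e with r | r
    · refine Or.inl (I.code_eq fun v => ?_)
      rw [actH_zero]
      rw [show (g : G) = (a : G) from r.symm]
      exact I.toFrame.acts_J haJ v
    · refine Or.inr (I.code_eq ?_)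
      have hg : (g : G) = (a : G) * I.t := by
        rw [show (a : G) = (g : G) * I.t from r, mul_assoc, I.ht, mul_one]
      intro v
      rw [hg, I.toFrame.acts_mul (I.toFrame.acts_J haJ) I.hta v]
      rfl
  · intro h
    rcases h with r | r
    · exact I.km_mem_img (I.code_zero (mem_inf.1 g.2).1 (r ▸ I.code_acts g))
    · have h0 := I.toFrame.acts_H_mul I.hta (r ▸ I.code_acts g)
      rw [base_closed.2.2.2.2.2.2] at h0
      have hd := I.code_zero (mul_mem I.t_mem_H (mem_inf.1 g.2).1) h0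
      refine ⟨⟨I.t * g, mul_mem I.t_mem_H (mem_inf.1 g.2).1⟩, mem_subgroupOf.2 hd, I.km_eq_iff.2 (Or.inr ?_)⟩
      exact (I.comm_H (mem_inf.1 g.2).1).symm.eq

theorem eN_A (hP : I.toFrame.PointCond) (hA : I.CaseA) : Nonempty (normalizer (I.img I.toTop.D : Set I.Kt) ⧸
    (I.img I.toTop.D).subgroupOf (normalizer (I.img I.toTop.D : Set I.Kt)) ≃* DihedralGroup 4) := by
  refine equiv_of_ker (I.toQuot hP) I.toD8 (I.toQuot_surj hP) (fun d => ?_) fun g => ?_
  · obtain ⟨c, hc, hd⟩ := (dh_surj I.k₀ I.hk₀).1 d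
    obtain ⟨g, hg, hga⟩ := I.exists_A c hc
    exact ⟨⟨g, hg⟩, (congrArg dh (I.code_eq (g := ⟨g, hg⟩) hga)).trans hd⟩
  · rw [I.toQuot_ker hP]
    refine ⟨fun h => ?_, fun h => (small_ker I.k₀ I.hk₀).1 _ ((I.code_mem g.2 (I.code_acts g)).2 hA) h⟩
    show dh _ = 1
    rcases h with r | r <;> rw [r]
    exacts [dh_one.1, dh_one.2]

theorem eN_B (hP : I.toFrame.PointCond) (hB : ¬ I.CaseA) : Nonempty (normalizer (I.img I.toTop.D : Set I.Kt) ⧸
    (I.img I.toTop.D).subgroupOf (normalizer (I.img I.toTop.D : Set I.Kt)) ≃* DihedralGroup 4 × Multiplicative (ZMod 2)) := by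
  refine equiv_of_ker (I.toQuot hP) (I.toD8.prod I.toTwo) (I.toQuot_surj hP) (fun d => ?_) fun g => ?_
  · obtain ⟨c, hc, hd, he⟩ := (dh_surj I.k₀ I.hk₀).2 d.1 (Multiplicative.toAdd d.2)
    obtain ⟨g, hg, hga⟩ := I.exists_B hB c hc
    exact ⟨⟨g, hg⟩, Prod.ext ((congrArg dh (I.code_eq (g := ⟨g, hg⟩) hga)).trans hd)
      ((congrArg (eps I.k₀) (I.code_eq (g := ⟨g, hg⟩) hga)).trans (he.trans (ofAdd_toAdd _)))⟩
  · rw [I.toQuot_ker hP]
    refine ⟨fun h => Prod.ext ?_ ?_, fun h =>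
      (small_ker I.k₀ I.hk₀).2.1 _ (I.code_mem g.2 (I.code_acts g)).1 (congrArg Prod.fst h) (congrArg Prod.snd h)⟩
    · show dh _ = 1
      rcases h with r | r <;> rw [r]
      exacts [dh_one.1, dh_one.2]
    · show eps _ _ = 1
      rcases h with r | r <;> rw [r]
      exacts [(small_ker I.k₀ I.hk₀).2.2.1, (small_ker I.k₀ I.hk₀).2.2.2]

theorem dh_iff_cent (g : ↥I.ND) : dh (I.code g) = 1 ↔ (g : G) ∈ centralizer (I.toTop.D : Set G) := by
  obtain ⟨n1, -, -, n27⟩ := named_vectors.2.2.2.2.2.2.2 (I.code g)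
  constructor
  · intro h
    obtain ⟨hZ, hW⟩ := dh_ker _ h
    refine mem_centralizer_iff.2 fun d hd => ?_
    obtain ⟨v, rfl⟩ := (I.memJ d).1 hd.1
    obtain ⟨a, b, e⟩ := I.mem_D_split hd
    have c1 : Commute (g : G) (I.e 1) := mul_inv_eq_iff_eq_mul.1 (by rw [I.code_acts g 1, n1, hZ])
    have c27 : Commute (g : G) (I.e 27) := mul_inv_eq_iff_eq_mul.1 (by rw [I.code_acts g 27, n27, hW])
    rw [e]
    exact ((c1.pow_right a.val).mul_right (c27.pow_right b.val)).eq.symm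
  · intro h
    refine dh_ker' _ ?_ ?_
    · refine n1.symm.trans (I.e_inj ?_)
      rw [← I.code_acts g 1, ← mem_centralizer_iff.1 h _ I.toTop.e1_mem_D, mul_inv_cancel_right]
    · refine n27.symm.trans (I.e_inj ?_)
      rw [← I.code_acts g 27, ← mem_centralizer_iff.1 h _ I.toTop.e27_mem_D, mul_inv_cancel_right]

theorem cn_normal : ((centralizer (I.img I.toTop.D : Set I.Kt)).subgroupOf (normalizer (I.img I.toTop.D : Set I.Kt))).Normal :=
  ⟨fun n hn g => by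
    refine mem_subgroupOf.2 (mem_centralizer_iff.2 fun x hx => ?_)
    have hx' := (mem_normalizer_iff.1 (inv_mem g.2) x).1 hx
    rw [inv_inv] at hx'
    have e := mem_centralizer_iff.1 (mem_subgroupOf.1 hn) _ hx'
    calc x * ((g : I.Kt) * n * (g : I.Kt)⁻¹) = g * ((g : I.Kt)⁻¹ * x * g * n) * (g : I.Kt)⁻¹ := by group
      _ = g * (n * ((g : I.Kt)⁻¹ * x * g)) * (g : I.Kt)⁻¹ := by rw [e]
      _ = (g : I.Kt) * n * (g : I.Kt)⁻¹ * x := by group⟩

theorem eNC_B (hP : I.toFrame.PointCond) :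
    haveI := I.cn_normal
    Nonempty (normalizer (I.img I.toTop.D : Set I.Kt) ⧸
      (centralizer (I.img I.toTop.D : Set I.Kt)).subgroupOf (normalizer (I.img I.toTop.D : Set I.Kt)) ≃* DihedralGroup 4) := by
  haveI := I.cn_normal
  refine equiv_of_ker ((QuotientGroup.mk' _).comp ((I.km.comp (Subgroup.inclusion (inf_le_left : I.ND ≤ I.toTop.H))).codRestrict _
    fun g => (I.norm_D_img hP).symm ▸ I.km_mem_img g.2)) I.toD8 (fun q => ?_) (fun d => ?_) fun g => ?_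
  · obtain ⟨⟨k, hk⟩, rfl⟩ := QuotientGroup.mk'_surjective _ q
    have hk' := I.norm_D_img hP ▸ hk
    obtain ⟨a, ha, rfl⟩ := hk'
    exact ⟨⟨a, mem_subgroupOf.1 ha⟩, rfl⟩
  · obtain ⟨c, hc, hd⟩ := (dh_surj I.k₀ I.hk₀).1 d
    obtain ⟨g, hg, hga⟩ := I.exists_A c hc
    exact ⟨⟨g, hg⟩, (congrArg dh (I.code_eq (g := ⟨g, hg⟩) hga)).trans hd⟩
  · rw [MonoidHom.comp_apply, QuotientGroup.mk'_apply, QuotientGroup.eq_one_iff, mem_subgroupOf,
      show I.toD8 g = dh (I.code g) from rfl, I.dh_iff_cent]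
    refine Iff.trans (iff_of_eq (congrArg (_ ∈ ·) I.cent_D_img)) ?_
    refine (I.mem_img (mem_inf.2 ⟨I.t_mem_H, mem_centralizer_iff.2 fun d hd => I.comm_H (I.D_le_H hd)⟩)).trans ?_
    exact ⟨fun h => (mem_inf.1 h).2, fun h => mem_inf.2 ⟨(mem_inf.1 g.2).1, h⟩⟩

theorem card_cent_D (hP : I.toFrame.PointCond) :
    (I.CaseA → centralizer (I.img I.toTop.D : Set I.Kt) = I.img I.toTop.D) ∧
    (¬ I.CaseA → Nat.card (centralizer (I.img I.toTop.D : Set I.Kt)) = 18) := by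
  have hle : I.toTop.H ⊓ centralizer (I.toTop.D : Set G) ≤ I.ND := by
    rw [ND, ← I.norm_D_eq hP]
    exact inf_le_inf_left _ (centralizer_le_normalizer _)
  have hD : I.toTop.D ≤ I.toTop.H ⊓ centralizer (I.toTop.D : Set G) :=
    le_inf I.D_le_H fun a ha => mem_centralizer_iff.2 fun b hb => I.toTop.D_comm hb ha
  have ht : I.t ∈ I.toTop.H ⊓ centralizer (I.toTop.D : Set G) :=
    mem_inf.2 ⟨I.t_mem_H, mem_centralizer_iff.2 fun d hd => I.comm_H (I.D_le_H hd)⟩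
  have h1 : ∀ g ∈ I.toTop.H ⊓ centralizer (I.toTop.D : Set G), ∀ c, I.toFrame.Acts g (actH c) → colZ c = 1 ∧ colW c = 27 := by
    intro g hg c hc
    have := (I.dh_iff_cent ⟨g, hle hg⟩).2 (mem_inf.1 hg).2
    rw [I.code_eq (g := ⟨g, hle hg⟩) hc] at this
    exact dh_ker _ this
  have h2 : ∀ g ∈ I.ND, ∀ c, I.toFrame.Acts g (actH c) → colZ c = 1 ∧ colW c = 27 →
      g ∈ I.toTop.H ⊓ centralizer (I.toTop.D : Set G) := by
    intro g hg c hc h
    refine mem_inf.2 ⟨(mem_inf.1 hg).1, (I.dh_iff_cent ⟨g, hg⟩).1 ?_⟩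
    rw [I.code_eq (g := ⟨g, hg⟩) hc]
    exact dh_ker' c h.1 h.2
  obtain ⟨-, -, cA, -, -, cB⟩ := list_counts I.k₀ I.hk₀
  refine ⟨fun hA => ?_, fun hB => ?_⟩
  · have hc := I.card_codes hle hD (bothList (codesA I.k₀)) (fun g hg c hc => by
      simp only [bothList, List.mem_filter, decide_eq_true_eq]
      exact ⟨(I.code_mem (hle hg) hc).2 hA, h1 g hg c hc⟩) fun c hc => by
      simp only [bothList, List.mem_filter, decide_eq_true_eq] at hc
      obtain ⟨g, hg, hga⟩ := I.exists_A c hc.1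
      exact ⟨g, h2 g hg c hga hc.2, hga⟩
    rw [cA] at hc
    have hi := I.card_img inf_le_left ht
    rw [hc, ← I.cent_D_img] at hi
    exact (eq_of_le_of_card_ge (I.cent_D_img.symm ▸ Subgroup.map_mono (Subgroup.comap_mono hD))
      (by rw [I.card_img_D]; omega)).symm
  · have hc := I.card_codes hle hD (bothList codesB) (fun g hg c hc => by
      simp only [bothList, List.mem_filter, decide_eq_true_eq]
      exact ⟨(I.code_mem (hle hg) hc).1, h1 g hg c hc⟩) fun c hc => by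
      simp only [bothList, List.mem_filter, decide_eq_true_eq] at hc
      obtain ⟨g, hg, hga⟩ := I.exists_B hB c hc.1
      exact ⟨g, h2 g hg c hga hc.2, hga⟩
    rw [cB] at hc
    have hi := I.card_img inf_le_left ht
    rw [hc, ← I.cent_D_img] at hi
    omega

theorem e28_D : I.e 28 ∈ I.toTop.D := I.toTop.mem_D.2 (by decide +kernel)

theorem line28_le (hP : I.toFrame.PointCond) : I.toTop.H ⊓ normalizer (zpowers (I.e 28) : Set G) ≤ I.ND := by
  haveI := fact_three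
  obtain ⟨hC0, -, hns, -⟩ : (28 : Fin 81) ≠ 0 ∧ True ∧ ¬ Sing (28 : Fin 81) ∧ True :=
    ⟨point_facts.2.1, trivial, point_facts.2.2.1, trivial⟩
  intro g hg
  obtain ⟨hgH, hgN⟩ := mem_inf.1 hg
  refine mem_inf.2 ⟨hgH, I.norm_D_mem hP hgH fun x hx => ?_⟩
  obtain ⟨D', hD'⟩ : ∃ D', D' = I.toTop.D.map (MulAut.conj g).toMonoidHom := ⟨_, rfl⟩
  have hD'H : D' ≤ I.toTop.H := by
    rw [hD']
    rintro _ ⟨d, hd, rfl⟩
    exact mul_mem (mul_mem hgH (I.D_le_H hd)) (inv_mem hgH)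
  have hD'C : D' ≤ centralizer ({I.e 28} : Set G) := by
    rw [hD']
    rintro _ ⟨d, hd, rfl⟩
    obtain ⟨n, hn⟩ := mem_zpowers_iff.1 ((mem_normalizer_iff.1 (inv_mem hgN) (I.e 28)).1 (mem_zpowers _))
    rw [inv_inv] at hn
    refine mem_centralizer_singleton_iff.2 ?_
    have hc : Commute d (g⁻¹ * I.e 28 * g) := hn ▸ (Commute.zpow_right (I.toTop.D_comm hd I.e28_D) n)
    show g * d * g⁻¹ * I.e 28 = I.e 28 * (g * d * g⁻¹)
    calc g * d * g⁻¹ * I.e 28 = g * (d * (g⁻¹ * I.e 28 * g)) * g⁻¹ := by group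
      _ = g * ((g⁻¹ * I.e 28 * g) * d) * g⁻¹ := by rw [hc.eq]
      _ = I.e 28 * (g * d * g⁻¹) := by group
  have hD'N : D' ≤ normalizer (I.toTop.D : Set G) := fun a ha =>
    mem_normalizer_of_map_mem fun d hd =>
      I.conj_D (mem_inf.2 ⟨hD'H ha, hP 28 hC0 hns (hD'C ha)⟩) hd
  have hp : IsPGroup 3 I.toTop.D := IsPGroup.of_card (n := 2) (I.toTop.card_D.trans (by norm_num))
  have := I.D_max hP (IsPGroup.to_sup_of_normal_left' hp (hD' ▸ hp.map _) hD'N) le_sup_left (sup_le I.D_le_H hD'H)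
  exact this.le (mem_sup_right (hD' ▸ ⟨x, hx, rfl⟩))

theorem acts_28 {g : G} {c : Fin 64} (hc : I.toFrame.Acts g (actH c)) :
    (g ∈ centralizer ({I.e 28} : Set G) ↔ actH c 28 = 28) ∧
    (g ∈ normalizer (zpowers (I.e 28) : Set G) ↔ actH c 28 = 28 ∨ actH c 28 = 56) := by
  refine ⟨?_, ?_⟩
  · rw [mem_centralizer_singleton_iff, ← mul_inv_eq_iff_eq_mul, hc 28]
    exact ⟨fun h => I.e_inj h, congrArg I.e⟩
  · constructor
    · intro h
      have hm := (mem_normalizer_iff.1 h (I.e 28)).1 (mem_zpowers _)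
      rw [hc 28, I.toFrame.mem_line point_facts.2.1, point_facts.2.2.2] at hm
      rcases hm with r | r
      · exfalso
        have := hc 28
        rw [r, I.toFrame.e_zero] at this
        exact I.toFrame.e_ne point_facts.2.1 (conj_eq_one_iff.1 this)
      · exact r
    · intro h
      refine mem_normalizer_of_map_mem fun x hx => ?_
      obtain ⟨n, rfl⟩ := mem_zpowers_iff.1 hx
      rw [← conj_zpow, hc 28]
      refine zpow_mem ?_ n
      rw [I.toFrame.mem_line point_facts.2.1, point_facts.2.2.2]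
      exact Or.inr h

theorem t_line : I.t ∈ I.toTop.H ⊓ normalizer (zpowers (I.e 28) : Set G) :=
  mem_inf.2 ⟨I.t_mem_H, (I.acts_28 I.hta).2.2 (Or.inl (by decide +kernel))⟩

theorem line_facts (hP : I.toFrame.PointCond) :
    ((I.img I.toTop.D).subgroupOf (centralizer ({I.dbar ⟨_, I.e28_D⟩} : Set I.Kt))).Normal ∧
    ((I.img I.toTop.D).subgroupOf (normalizer (zpowers (I.dbar ⟨_, I.e28_D⟩) : Set I.Kt))).Normal ∧
    I.img I.toTop.D ≤ normalizer (zpowers (I.dbar ⟨_, I.e28_D⟩) : Set I.Kt) ∧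
    (∀ g ∈ normalizer (zpowers (I.dbar ⟨_, I.e28_D⟩) : Set I.Kt), g ^ 2 ∈ I.img I.toTop.D) ∧
    (I.CaseA → Nat.card (centralizer ({I.dbar ⟨_, I.e28_D⟩} : Set I.Kt)) = 18 ∧
      Nat.card (normalizer (zpowers (I.dbar ⟨_, I.e28_D⟩) : Set I.Kt)) = 36) ∧
    (¬ I.CaseA → Nat.card (centralizer ({I.dbar ⟨_, I.e28_D⟩} : Set I.Kt)) = 36 ∧
      Nat.card (normalizer (zpowers (I.dbar ⟨_, I.e28_D⟩) : Set I.Kt)) = 72) := by
  obtain ⟨X, hX⟩ : ∃ X, X = I.toTop.H ⊓ centralizer ({I.e 28} : Set G) := ⟨_, rfl⟩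
  obtain ⟨Y, hY⟩ : ∃ Y, Y = I.toTop.H ⊓ normalizer (zpowers (I.e 28) : Set G) := ⟨_, rfl⟩
  have eX : centralizer ({I.dbar ⟨_, I.e28_D⟩} : Set I.Kt) = I.img X := hX ▸ I.cent_img I.e28_D
  have eY : normalizer (zpowers (I.dbar ⟨_, I.e28_D⟩) : Set I.Kt) = I.img Y :=
    hY ▸ I.norm_line_img point_facts.2.1 I.e28_D
  have hXY : X ≤ Y := by
    rw [hX, hY]
    refine inf_le_inf_left _ fun g hg => mem_normalizer_of_map_mem fun x hx => ?_
    obtain ⟨n, rfl⟩ := mem_zpowers_iff.1 hx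
    rw [← conj_zpow, mul_inv_eq_iff_eq_mul.2 (mem_centralizer_singleton_iff.1 hg)]
    exact zpow_mem (mem_zpowers _) n
  have hYN : Y ≤ I.ND := hY ▸ I.line28_le hP
  have hDX : I.toTop.D ≤ X := hX ▸ le_inf I.D_le_H fun a ha =>
    mem_centralizer_singleton_iff.2 (I.toTop.D_comm ha I.e28_D)
  have htX : I.t ∈ X := hX ▸ mem_inf.2 ⟨I.t_mem_H, mem_centralizer_singleton_iff.2 (I.comm_H (I.D_le_H I.e28_D)).symm⟩
  have htY := hXY htX
  have norm : ∀ Z : Subgroup G, Z ≤ I.ND → ((I.img I.toTop.D).subgroupOf (I.img Z)).Normal := fun Z hZ =>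
    normal_subgroupOf_of_le_normalizer ((Subgroup.map_mono (Subgroup.comap_mono hZ)).trans (I.norm_D_img hP).ge)
  obtain ⟨fA, lA, -, fB, lB, -⟩ := list_counts I.k₀ I.hk₀
  rw [eX, eY]
  refine ⟨norm X (hXY.trans hYN), norm Y hYN, Subgroup.map_mono (Subgroup.comap_mono (hDX.trans hXY)), ?_, ?_, ?_⟩
  · rintro _ ⟨a, ha, rfl⟩
    have haN := hYN (mem_subgroupOf.1 ha)
    obtain ⟨c, hc⟩ := I.exists_code haN
    have hl := (I.acts_28 hc).2.1 (mem_inf.1 (hY ▸ mem_subgroupOf.1 ha : (a : G) ∈ I.toTop.H ⊓ normalizer (zpowers (I.e 28) : Set G))).2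
    have h2 := I.toFrame.acts_H_mul hc hc
    rw [← map_pow, pow_two]
    rcases line_squares c (I.code_mem haN hc).1 hl with r | r <;> rw [r] at h2
    · exact I.km_mem_img (I.code_zero (mul_mem a.2 a.2) h2)
    · have h0 := I.toFrame.acts_H_mul I.hta h2
      rw [base_closed.2.2.2.2.2.2] at h0
      refine ⟨⟨I.t * ((a : G) * a), mul_mem I.t_mem_H (mul_mem a.2 a.2)⟩,
        mem_subgroupOf.2 (I.code_zero (mul_mem I.t_mem_H (mul_mem a.2 a.2)) h0), I.km_eq_iff.2 (Or.inr ?_)⟩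
      exact (I.comm_H (mul_mem a.2 a.2)).symm.eq
  all_goals intro hcase; refine ⟨?_, ?_⟩
  · have hc := I.card_codes (hXY.trans hYN) hDX (fixList (codesA I.k₀)) (fun g hg c hc => by
      simp only [fixList, List.mem_filter, decide_eq_true_eq]
      exact ⟨(I.code_mem (hYN (hXY hg)) hc).2 hcase, (I.acts_28 hc).1.1 (mem_inf.1 (hX ▸ hg : g ∈ I.toTop.H ⊓ _)).2⟩)
      fun c hc => by
      simp only [fixList, List.mem_filter, decide_eq_true_eq] at hc
      obtain ⟨g, hg, hga⟩ := I.exists_A c hc.1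
      exact ⟨g, hX ▸ mem_inf.2 ⟨(mem_inf.1 hg).1, (I.acts_28 hga).1.2 hc.2⟩, hga⟩
    have := I.card_img (hX ▸ inf_le_left) htX
    rw [hc, fA] at this
    omega
  · have hc := I.card_codes hYN (hDX.trans hXY) (lineList (codesA I.k₀)) (fun g hg c hc => by
      simp only [lineList, List.mem_filter, decide_eq_true_eq]
      exact ⟨(I.code_mem (hYN hg) hc).2 hcase, (I.acts_28 hc).2.1 (mem_inf.1 (hY ▸ hg : g ∈ I.toTop.H ⊓ _)).2⟩)
      fun c hc => by
      simp only [lineList, List.mem_filter, decide_eq_true_eq] at hc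
      obtain ⟨g, hg, hga⟩ := I.exists_A c hc.1
      exact ⟨g, hY ▸ mem_inf.2 ⟨(mem_inf.1 hg).1, (I.acts_28 hga).2.2 hc.2⟩, hga⟩
    have := I.card_img (hY ▸ inf_le_left) htY
    rw [hc, lA] at this
    omega
  · have hc := I.card_codes (hXY.trans hYN) hDX (fixList codesB) (fun g hg c hc => by
      simp only [fixList, List.mem_filter, decide_eq_true_eq]
      exact ⟨(I.code_mem (hYN (hXY hg)) hc).1, (I.acts_28 hc).1.1 (mem_inf.1 (hX ▸ hg : g ∈ I.toTop.H ⊓ _)).2⟩)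
      fun c hc => by
      simp only [fixList, List.mem_filter, decide_eq_true_eq] at hc
      obtain ⟨g, hg, hga⟩ := I.exists_B hcase c hc.1
      exact ⟨g, hX ▸ mem_inf.2 ⟨(mem_inf.1 hg).1, (I.acts_28 hga).1.2 hc.2⟩, hga⟩
    have := I.card_img (hX ▸ inf_le_left) htX
    rw [hc, fB] at this
    omega
  · have hc := I.card_codes hYN (hDX.trans hXY) (lineList codesB) (fun g hg c hc => by
      simp only [lineList, List.mem_filter, decide_eq_true_eq]
      exact ⟨(I.code_mem (hYN hg) hc).1, (I.acts_28 hc).2.1 (mem_inf.1 (hY ▸ hg : g ∈ I.toTop.H ⊓ _)).2⟩)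
      fun c hc => by
      simp only [lineList, List.mem_filter, decide_eq_true_eq] at hc
      obtain ⟨g, hg, hga⟩ := I.exists_B hcase c hc.1
      exact ⟨g, hY ▸ mem_inf.2 ⟨(mem_inf.1 hg).1, (I.acts_28 hga).2.2 hc.2⟩, hga⟩
    have := I.card_img (hY ▸ inf_le_left) htY
    rw [hc, lB] at this
    omega

theorem t_NZ : I.t ∈ I.NZ := I.E1_le_NZ I.t_mem_E1

theorem t_C0 : I.t ∈ I.C0 := I.E0_le_C0 I.t_mem_E0

theorem cent_z_eq : centralizer ({I.dbar ⟨_, I.toTop.e1_mem_D⟩} : Set I.Kt) = I.img I.C0 := by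
  rw [I.cent_img I.toTop.e1_mem_D]
  congr 1
  unfold C0
  rw [I.toFrame.Z_eq_line, zpowers_eq_closure, centralizer_closure]

theorem norm_z_eq : normalizer (zpowers (I.dbar ⟨_, I.toTop.e1_mem_D⟩) : Set I.Kt) = I.img I.NZ := by
  rw [I.norm_line_img named_vectors.1 I.toTop.e1_mem_D]
  congr 1
  show _ = I.toTop.H ⊓ normalizer (I.Z : Set G)
  rw [I.toFrame.Z_eq_line]

/-- The projection of a subgroup of the normaliser of the centre. -/
noncomputable def toImg {X : Subgroup G} (hX : X ≤ I.toTop.H) : ↥X →* I.img X :=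
  (I.km.comp (Subgroup.inclusion hX)).codRestrict _ fun g => I.km_mem_img g.2

theorem toImg_surj {X : Subgroup G} (hX : X ≤ I.toTop.H) : Function.Surjective (I.toImg hX) := by
  rintro ⟨k, a, ha, rfl⟩
  exact ⟨⟨a, mem_subgroupOf.1 ha⟩, rfl⟩

theorem toImg_ker {X : Subgroup G} (hX : X ≤ I.toTop.H) (g : ↥X) : I.toImg hX g = 1 ↔ (g : G) = 1 ∨ (g : G) = I.t := by
  exact Subtype.ext_iff.trans (I.km_eq_one (h := Subgroup.inclusion hX g))

theorem img_equiv_range {X : Subgroup G} (hX : X ≤ I.toTop.H) {A : Type*} [Group A] [Finite A] (f : ↥X →* A)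
    (hf : ∀ g, f g = 1 ↔ (g : G) = 1 ∨ (g : G) = I.t) (Y : Subgroup A) (hY : f.range ≤ Y)
    (hc : Nat.card X = 2 * Nat.card Y) (ht : I.t ∈ X) : Nonempty (I.img X ≃* Y) := by
  obtain ⟨e⟩ := equiv_of_ker (I.toImg hX) f.rangeRestrict (I.toImg_surj hX) f.rangeRestrict_surjective fun g => by
    rw [I.toImg_ker hX, ← hf, Subtype.ext_iff]; rfl
  have h := I.card_img hX ht
  rw [Nat.card_congr e.toEquiv] at h
  exact ⟨e.trans (MulEquiv.subgroupCongr (eq_of_le_of_card_ge hY (by omega)))⟩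

theorem rho_C0 (x : ↥I.C0) : Perm.sign (I.rho3 (Subgroup.inclusion I.C0_le_NZ x)) = 1 :=
  I.rho3_sign.1 x.2

theorem card_alt_three : Nat.card (alternatingGroup (Fin 3)) = 3 := by
  rw [nat_card_alternatingGroup, Nat.card_eq_fintype_card, Fintype.card_fin]; rfl

theorem card_alt_five : Nat.card (alternatingGroup (Fin 5)) = 60 := by
  rw [nat_card_alternatingGroup, Nat.card_eq_fintype_card, Fintype.card_fin]; rfl

theorem three_equiv : Nonempty (alternatingGroup (Fin 3) ≃* Multiplicative (ZMod 3)) := by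
  haveI := fact_three
  exact ⟨mulEquivOfPrimeCardEq (p := 3) card_alt_three (by rw [Nat.card_congr Multiplicative.toAdd, Nat.card_zmod])⟩

/-- The pairs with matching signs. -/
abbrev matched : Subgroup (Perm (Fin 3) × Perm (Fin 5)) :=
  (((Equiv.Perm.sign).comp (MonoidHom.fst (Equiv.Perm (Fin 3)) (Equiv.Perm (Fin 5)))) *
    ((Equiv.Perm.sign).comp (MonoidHom.snd (Equiv.Perm (Fin 3)) (Equiv.Perm (Fin 5))))).ker

theorem card_matched : Nat.card matched = 360 := by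
  have h := matched.card_mul_index
  have hi : matched.index = 2 := by
    rw [Subgroup.index_ker, MonoidHom.range_eq_top.2 ?_, Nat.card_congr Subgroup.topEquiv.toEquiv,
      Nat.card_eq_fintype_card, Fintype.card_units_int]
    intro s
    obtain ⟨p, hp⟩ := Equiv.Perm.sign_surjective (Fin 3) s
    exact ⟨(p, 1), by simp [hp]⟩
  rw [hi, Nat.card_prod, Nat.card_perm, Nat.card_perm, Nat.card_eq_fintype_card (α := Fin 3),
    Nat.card_eq_fintype_card (α := Fin 5), Fintype.card_fin, Fintype.card_fin] at h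
  simp only [Nat.factorial] at h
  omega

theorem eC_A (hA : I.CaseA) : Nonempty (centralizer ({I.dbar ⟨_, I.toTop.e1_mem_D⟩} : Set I.Kt) ≃*
    Multiplicative (ZMod 3) × alternatingGroup (Fin 5)) := by
  obtain ⟨f, hfd⟩ : ∃ f, f = I.rho.comp (Subgroup.inclusion I.C0_le_NZ) := ⟨_, rfl⟩
  obtain ⟨e⟩ := I.img_equiv_range (X := I.C0) inf_le_left f (fun g => hfd ▸ I.rho_ker)
    ((alternatingGroup (Fin 3)).prod (alternatingGroup (Fin 5))) (by
      rintro _ ⟨x, rfl⟩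
      subst hfd
      refine ⟨Perm.mem_alternatingGroup.2 (I.rho_C0 x), Perm.mem_alternatingGroup.2 ?_⟩
      exact (I.sign_match hA (Subgroup.inclusion I.C0_le_NZ x)).symm.trans (I.rho_C0 x))
    (by rw [I.C0_eq_E0 hA, I.toTop.card_E0, Nat.card_congr (Subgroup.prodEquiv _ _).toEquiv, Nat.card_prod,
      card_alt_three, card_alt_five]) I.t_C0
  obtain ⟨e3⟩ := three_equiv
  exact ⟨((MulEquiv.subgroupCongr I.cent_z_eq).trans e).trans
    ((Subgroup.prodEquiv _ _).trans (e3.prodCongr (MulEquiv.refl _)))⟩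

theorem eC_B (hB : ¬ I.CaseA) : Nonempty (centralizer ({I.dbar ⟨_, I.toTop.e1_mem_D⟩} : Set I.Kt) ≃*
    Multiplicative (ZMod 3) × Perm (Fin 5)) := by
  obtain ⟨f, hfd⟩ : ∃ f, f = I.rho.comp (Subgroup.inclusion I.C0_le_NZ) := ⟨_, rfl⟩
  obtain ⟨e⟩ := I.img_equiv_range (X := I.C0) inf_le_left f (fun g => hfd ▸ I.rho_ker)
    ((alternatingGroup (Fin 3)).prod ⊤) (by
      rintro _ ⟨x, rfl⟩
      subst hfd
      exact ⟨Perm.mem_alternatingGroup.2 (I.rho_C0 x), mem_top _⟩)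
    (by rw [I.card_C0_B hB, Nat.card_congr (Subgroup.prodEquiv _ _).toEquiv, Nat.card_prod,
      card_alt_three, Nat.card_congr Subgroup.topEquiv.toEquiv, Nat.card_perm, Nat.card_eq_fintype_card, Fintype.card_fin]; rfl) I.t_C0
  obtain ⟨e3⟩ := three_equiv
  exact ⟨((MulEquiv.subgroupCongr I.cent_z_eq).trans e).trans
    ((Subgroup.prodEquiv _ _).trans (e3.prodCongr Subgroup.topEquiv))⟩

theorem eL_A (hA : I.CaseA) : Nonempty (normalizer (zpowers (I.dbar ⟨_, I.toTop.e1_mem_D⟩) : Set I.Kt) ≃* matched) := by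
  obtain ⟨e⟩ := I.img_equiv_range (X := I.NZ) inf_le_left I.rho (fun g => I.rho_ker) matched (by
      rintro _ ⟨x, rfl⟩
      rw [MonoidHom.mem_ker]
      show Perm.sign (I.rho3 x) * Perm.sign (I.rho5 x) = 1
      rw [I.sign_match hA, ← pow_two, Int.units_sq])
    (by rw [card_matched]; exact I.card_NZ_cases.1 hA) I.t_NZ
  exact ⟨(MulEquiv.subgroupCongr I.norm_z_eq).trans e⟩

theorem eL_B (hB : ¬ I.CaseA) :
    Nonempty (normalizer (zpowers (I.dbar ⟨_, I.toTop.e1_mem_D⟩) : Set I.Kt) ≃* Perm (Fin 3) × Perm (Fin 5)) := by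
  obtain ⟨e⟩ := I.img_equiv_range (X := I.NZ) inf_le_left I.rho (fun g => I.rho_ker) ⊤ le_top
    (by
      rw [Nat.card_congr Subgroup.topEquiv.toEquiv, Nat.card_prod, Nat.card_perm, Nat.card_perm,
        Nat.card_eq_fintype_card (α := Fin 3), Nat.card_eq_fintype_card (α := Fin 5), Fintype.card_fin, Fintype.card_fin]
      exact (I.card_NZ_cases.2 hB).trans rfl) I.t_NZ
  exact ⟨((MulEquiv.subgroupCongr I.norm_z_eq).trans e).trans Subgroup.topEquiv⟩

theorem quot_A (hP : I.toFrame.PointCond) (hA : I.CaseA) : Nonempty (I.Kt ≃* alternatingGroup (Fin 8)) := by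
  obtain ⟨P, hPD⟩ := I.exists_sylow hP
  obtain ⟨eN⟩ := I.eN_A hP hA
  obtain ⟨eC⟩ := I.eC_A hA
  obtain ⟨eL⟩ := I.eL_A hA
  obtain ⟨hyn, hyNn, hyN, hsq, hcA, -⟩ := I.line_facts hP
  obtain ⟨hy, hny⟩ := hcA hA
  haveI := hyNn
  refine Cfsg.Agent.S3329.result P (I.img I.toTop.D) hPD.symm (I.dbar ⟨_, I.e28_D⟩) (I.dbar ⟨_, I.toTop.e1_mem_D⟩)
    I.closure_img I.img_comm I.card_img_D I.img_exp ((I.card_cent_D hP).1 hA) eN hyn hy _ rfl hyN (hyNn := hyNn) ?_ ?_ eC eL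
  · have h := card_eq_card_quotient_mul_card_subgroup ((I.img I.toTop.D).subgroupOf
      (normalizer (zpowers (I.dbar ⟨_, I.e28_D⟩) : Set I.Kt)))
    rw [hny, Nat.card_congr (subgroupOfEquivOfLe hyN).toEquiv, I.card_img_D] at h
    omega
  · intro g
    obtain ⟨a, rfl⟩ := QuotientGroup.mk_surjective g
    rw [← QuotientGroup.mk_pow, QuotientGroup.eq_one_iff, mem_subgroupOf]
    exact hsq a a.2

theorem quot_B (hP : I.toFrame.PointCond) (hB : ¬ I.CaseA) : Nonempty (I.Kt ≃* Perm (Fin 8)) ∨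
    ∃ N : Subgroup I.Kt, N.Normal ∧ Nonempty (N ≃* alternatingGroup (Fin 5) × alternatingGroup (Fin 5)) ∧
      N.index = 4 ∧ ∀ g : I.Kt, g ^ 2 ∈ N := by
  obtain ⟨P, hPD⟩ := I.exists_sylow hP
  obtain ⟨eN⟩ := I.eN_B hP hB
  haveI := I.cn_normal
  obtain ⟨eNC⟩ := I.eNC_B hP
  obtain ⟨eC⟩ := I.eC_B hB
  obtain ⟨eL⟩ := I.eL_B hB
  obtain ⟨hyn, hyNn, hyN, hsq, -, hcB⟩ := I.line_facts hP
  obtain ⟨hy, hny⟩ := hcB hB
  have hCN : centralizer ({I.dbar ⟨_, I.e28_D⟩} : Set I.Kt) ≤ normalizer (zpowers (I.dbar ⟨_, I.e28_D⟩) : Set I.Kt) := by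
    rw [← centralizer_closure, ← zpowers_eq_closure]
    exact centralizer_le_normalizer _
  rcases Cfsg.Agent.S3330.result P (I.img I.toTop.D) hPD.symm (I.dbar ⟨_, I.e28_D⟩) (I.dbar ⟨_, I.toTop.e1_mem_D⟩)
    I.closure_img I.img_comm I.card_img_D I.img_exp ((I.card_cent_D hP).2 hB) eN eNC hyn hy
    (fun g hg => hsq g (hCN hg)) _ rfl hyNn hny hsq eC eL with h | ⟨N, hN, -, h1, -, h2, h3⟩
  · exact Or.inl h
  · exact Or.inr ⟨N, hN, h1, h2, h3⟩

end Inv

end Cfsg.Lib.McLLocal
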