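import Cfsg.Agent.LocalThree.McLLocal.Endgame

/-!
The three-local identification of the McLaughlin group and its automorphism group.
-/

set_option autoImplicit false
set_option linter.unusedSectionVars false
set_option maxRecDepth 100000
set_option synthInstance.maxSize 4096

namespace Cfsg.Lib.McLLocal

open Subgroup

universe u

variable {G : Type u} [Group G] [Finite G]

/-- The three-core of a subgroup, inside the group. -/
abbrev core3 (H : Subgroup G) : Subgroup G := (Cfsg.pCore 3 H).map H.subtype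

theorem core_le {Z : Subgroup G} : core3 (centralizer (Z : Set G)) ≤ core3 (normalizer (Z : Set G)) := by
  have hle : centralizer (Z : Set G) ≤ normalizer (Z : Set G) := centralizer_le_normalizer _
  haveI hn : ((centralizer (Z : Set G)).subgroupOf (normalizer (Z : Set G))).Normal := by
    refine ⟨fun a ha g => mem_subgroupOf.2 (mem_centralizer_iff.2 fun z hz => ?_)⟩
    have hz' : (g : G)⁻¹ * z * g ∈ Z := by
      have := (mem_normalizer_iff.1 (inv_mem g.2) z).1 hz
      rwa [inv_inv] at this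
    have e := mem_centralizer_iff.1 (mem_subgroupOf.1 ha) _ hz'
    show z * ((g : G) * a * (g : G)⁻¹) = (g : G) * a * (g : G)⁻¹ * z
    calc z * ((g : G) * a * (g : G)⁻¹) = g * ((g : G)⁻¹ * z * g * a) * (g : G)⁻¹ := by group
      _ = g * (a * ((g : G)⁻¹ * z * g)) * (g : G)⁻¹ := by rw [e]
      _ = _ := by group
  have key : (core3 (centralizer (Z : Set G))).subgroupOf (normalizer (Z : Set G)) ≤ Cfsg.pCore 3 (normalizer (Z : Set G)) := by
    haveI : ((core3 (centralizer (Z : Set G))).subgroupOf (normalizer (Z : Set G))).Normal := by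
      refine ⟨fun a ha g => ?_⟩
      obtain ⟨b, hb, hba⟩ := mem_subgroupOf.1 ha
      refine mem_subgroupOf.2 ?_
      let α : MulAut ↥(centralizer (Z : Set G)) :=
        { toFun := fun c => ⟨(g : G) * c * (g : G)⁻¹, mem_subgroupOf.1 (hn.conj_mem ⟨(c : G), hle c.2⟩ (mem_subgroupOf.2 c.2) g)⟩
          invFun := fun c => ⟨(g : G)⁻¹ * c * g, by
            have := mem_subgroupOf.1 (hn.conj_mem ⟨(c : G), hle c.2⟩ (mem_subgroupOf.2 c.2) g⁻¹)
            simpa using this⟩
          left_inv := fun c => Subtype.ext (by show (g : G)⁻¹ * ((g : G) * c * (g : G)⁻¹) * g = c; group)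
          right_inv := fun c => Subtype.ext (by show (g : G) * ((g : G)⁻¹ * c * g) * (g : G)⁻¹ = c; group)
          map_mul' := fun a b => Subtype.ext (by show (g : G) * (a * b : G) * (g : G)⁻¹ = _; simp only [coe_mul]; group) }
      have hm : α b ∈ Cfsg.pCore 3 ↥(centralizer (Z : Set G)) := by
        rw [← Cfsg.Lib.Components.pCore_map_equiv α]
        exact mem_map_of_mem _ hb
      exact ⟨α b, hm, by show (g : G) * b * (g : G)⁻¹ = _; rw [show (b : G) = a from hba]; rfl⟩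
    refine Cfsg.Lib.Components.le_pCore ?_
    exact (((Cfsg.Lib.Components.isPGroup_pCore 3).map _).of_equiv
      (subgroupOfEquivOfLe ((map_subtype_le _).trans hle)).symm)
  intro x hx
  exact ⟨⟨x, hle (map_subtype_le _ hx)⟩, key (mem_subgroupOf.2 hx), rfl⟩

/-- The centre lies in the abelian subgroup. -/
theorem centre_in_J (S : Sylow 3 G) (Z J : Subgroup G) (hJS : J ≤ S) (hJcard : Nat.card J = 3 ^ 4)
    (M₀ : Subgroup G) (hM₀ : M₀ = Subgroup.closure {g : G | g ∈ Subgroup.normalizer (J : Set G) ∧ ∃ k : ℕ, orderOf g = 3 ^ k})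
    (hJM : J ≤ M₀) [hJn : (J.subgroupOf M₀).Normal] (eM : M₀ ⧸ J.subgroupOf M₀ ≃* alternatingGroup (Fin 6))
    (L₀ : Subgroup G) (hL₀ : L₀ = Subgroup.closure {g : G | g ∈ Subgroup.normalizer (Z : Set G) ∧ ∃ k : ℕ, orderOf g = 3 ^ k})
    (Q : Subgroup G) (hQcard : Nat.card Q = 3 ^ 5)
    (hQL : Q ≤ L₀) [hQn : (Q.subgroupOf L₀).Normal] (eL : L₀ ⧸ Q.subgroupOf L₀ ≃* Matrix.SpecialLinearGroup (Fin 2) (ZMod 5))
    (hSN : (S : Subgroup G) ≤ normalizer (Z : Set G)) (hZC : ∀ z ∈ Z, z ∈ centralizer ((S : Subgroup G) : Set G))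
    (hZin : ∀ z ∈ Z, z ∈ (S : Subgroup G) ⊓ centralizer ((S : Subgroup G) : Set G))
    (hab' : ∀ a ∈ J, ∀ b ∈ J, a * b = b * a) (hZeq : Z = (S : Subgroup G) ⊓ centralizer ((S : Subgroup G) : Set G))
    {c : G} (hexp : orderOf c ≤ 3) (hZ3 : Z = zpowers c) (hcZ : c ∈ Z) (hc1 : c ≠ 1) (hnot : c ∉ J) : False := by
  haveI := fact_three
  have ord : ∀ g ∈ (S : Subgroup G), ∃ k : ℕ, orderOf g = 3 ^ k := fun g hg => by
    obtain ⟨k, hk⟩ := IsPGroup.iff_orderOf.1 S.2 ⟨g, hg⟩
    exact ⟨k, by rw [← hk]; exact orderOf_coe (⟨g, hg⟩ : (S : Subgroup G))⟩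
  have hcS : c ∈ (S : Subgroup G) := (hZin c hcZ).1
  have hcJ : ∀ j ∈ J, Commute c j := fun j hj => (mem_centralizer_iff.1 (hZC c hcZ) j (hJS hj)).symm
  have hcN : c ∈ normalizer (J : Set G) := mem_normalizer_of_map_mem fun j hj => by
    rwa [(hcJ j hj).eq, mul_inv_cancel_right]
  have hcM : c ∈ M₀ := hM₀ ▸ subset_closure ⟨hcN, ord c hcS⟩
  obtain ⟨φ, hφd⟩ : ∃ φ : M₀ →* alternatingGroup (Fin 6), φ = eM.toMonoidHom.comp (QuotientGroup.mk' (J.subgroupOf M₀)) := ⟨_, rfl⟩
  have hφs : Function.Surjective φ := hφd ▸ eM.surjective.comp (QuotientGroup.mk'_surjective _)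
  have hφk : φ.ker = J.subgroupOf M₀ := by subst hφd; ext x; simp [MonoidHom.mem_ker]
  obtain ⟨C, hCd⟩ : ∃ C, C = (centralizer (J : Set G)).subgroupOf M₀ := ⟨_, rfl⟩
  have hCn : C.Normal := hCd ▸ ⟨fun a ha g => mem_subgroupOf.2 (mem_centralizer_iff.2 fun j hj => by
    have hgN : (g : G) ∈ normalizer (J : Set G) :=
      (show M₀ ≤ normalizer (J : Set G) from hM₀ ▸ (closure_le _).2 fun _ h => h.1) g.2
    have hj' : (g : G)⁻¹ * j * g ∈ J := by
      have := (mem_normalizer_iff.1 (inv_mem hgN) j).1 hj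
      rwa [inv_inv] at this
    have e := mem_centralizer_iff.1 (mem_subgroupOf.1 ha) _ hj'
    show j * ((g : G) * a * (g : G)⁻¹) = (g : G) * a * (g : G)⁻¹ * j
    calc j * ((g : G) * a * (g : G)⁻¹) = g * ((g : G)⁻¹ * j * g * a) * (g : G)⁻¹ := by group
      _ = g * (a * ((g : G)⁻¹ * j * g)) * (g : G)⁻¹ := by rw [e]
      _ = _ := by group)⟩
  haveI := Data.six_simple
  have htop : C.map φ = ⊤ := by
    refine (IsSimpleGroup.eq_bot_or_eq_top_of_normal _ (hCn.map φ hφs)).resolve_left fun h => hnot ?_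
    have : (⟨c, hcM⟩ : M₀) ∈ φ.ker := mem_bot.1 (h ▸ mem_map_of_mem φ (hCd ▸ mem_subgroupOf.2
      (mem_centralizer_iff.2 fun j hj => (hcJ j hj).eq.symm)))
    rw [hφk] at this
    exact mem_subgroupOf.1 this
  -- the abelian subgroup is central in the normal subgroup, unless it is not abelian
  have hcentral : ∀ j ∈ J, ∀ m ∈ M₀, (∀ a ∈ J, ∀ b ∈ J, a * b = b * a) → m * j = j * m := by
    intro j hj m hm hab
    obtain ⟨a, ha, e⟩ : φ ⟨m, hm⟩ ∈ C.map φ := htop ▸ mem_top _
    have hk : a⁻¹ * ⟨m, hm⟩ ∈ φ.ker := by rw [MonoidHom.mem_ker, map_mul, map_inv, e, inv_mul_cancel]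
    rw [hφk, mem_subgroupOf] at hk
    have h1 : Commute ((a : G)⁻¹ * m) j := hab _ hk j hj
    have h2 : Commute (a : G) j := (mem_centralizer_iff.1 (mem_subgroupOf.1 (hCd ▸ ha)) j hj).symm
    have := h2.mul_left h1
    rwa [mul_inv_cancel_left] at this
  -- orders
  have hL : Nat.card L₀ = 120 * 243 := by
    rw [card_eq_card_quotient_mul_card_subgroup (Q.subgroupOf L₀), Nat.card_congr eL.toEquiv,
      Nat.card_congr (subgroupOfEquivOfLe hQL).toEquiv, hQcard]
    haveI : Fact (Nat.Prime 5) := ⟨by norm_num⟩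
    rw [Cfsg.Lib.Classical.SLTwoTori.card_SL2, ZMod.card]
    norm_num
  have hSL : (S : Subgroup G) ≤ L₀ := fun g hg => hL₀ ▸ subset_closure ⟨hSN hg, ord g hg⟩
  obtain ⟨n, hn⟩ := S.2.exists_card_eq
  have hn6 : n ≤ 6 := by
    have := card_dvd_of_le hSL
    rw [hn, hL] at this
    by_contra hh
    have h7 := (pow_dvd_pow 3 (show 7 ≤ n by omega)).trans this
    norm_num at h7
  have hM : Nat.card M₀ = 360 * 81 := by
    rw [card_eq_card_quotient_mul_card_subgroup (J.subgroupOf M₀), Nat.card_congr eM.toEquiv,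
      Nat.card_congr (subgroupOfEquivOfLe hJM).toEquiv, hJcard, nat_card_alternatingGroup, Nat.card_fin]
    rfl
  obtain ⟨P, hP⟩ := ((S.2.to_le hJS).of_equiv (subgroupOfEquivOfLe hJM).symm).exists_le_sylow
  have hPc : Nat.card ((P : Subgroup M₀).map M₀.subtype) = 729 := by
    rw [← Nat.card_congr (Subgroup.equivMapOfInjective _ _ M₀.subtype_injective).toEquiv, P.card_eq_multiplicity, hM,
      show (360 * 81 : ℕ) = 3 ^ 6 * 40 by norm_num, Nat.factorization_mul (by norm_num) (by norm_num),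
      Finsupp.add_apply, Nat.Prime.factorization_pow Nat.prime_three, Finsupp.single_eq_same,
      Nat.factorization_eq_zero_of_not_dvd (by norm_num : ¬ 3 ∣ 40)]
    norm_num
  obtain ⟨R, hR⟩ := (P.2.map M₀.subtype).exists_le_sylow
  obtain ⟨g, hg⟩ := MulAction.exists_smul_eq G S R
  have hRc : Nat.card (R : Subgroup G) = Nat.card (S : Subgroup G) := by
    rw [← hg, Sylow.coe_subgroup_smul]
    exact (Nat.card_congr (Subgroup.equivSMul _ (S : Subgroup G)).toEquiv).symm
  have hPR : (P : Subgroup M₀).map M₀.subtype = (R : Subgroup G) := eq_of_le_of_card_ge hR (by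
    rw [hRc, hn, hPc]
    exact (Nat.pow_le_pow_right (by norm_num) hn6).trans (by norm_num))
  have hab : ∀ a ∈ J, ∀ b ∈ J, a * b = b * a := hab'
  have hJc : J.map (MulAut.conj g⁻¹).toMonoidHom ≤ Z := by
    rintro _ ⟨j, hj, rfl⟩
    have hjR : j ∈ (R : Subgroup G) := hPR ▸ ⟨⟨j, hJM hj⟩, hP (mem_subgroupOf.2 hj), rfl⟩
    rw [← hg, Sylow.coe_subgroup_smul] at hjR
    obtain ⟨s, hs, hse⟩ := hjR
    have hse' : g * s * g⁻¹ = j := hse
    have hgj : (MulAut.conj g⁻¹).toMonoidHom j = s := by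
      show g⁻¹ * j * g⁻¹⁻¹ = s
      rw [← hse']; group
    rw [hgj, hZeq]
    refine mem_inf.2 ⟨hs, mem_centralizer_iff.2 fun r hr => ?_⟩
    have hrM : g * r * g⁻¹ ∈ M₀ := by
      have hr' : g * r * g⁻¹ ∈ (R : Subgroup G) := by
        rw [← hg, Sylow.coe_subgroup_smul]
        exact ⟨r, hr, rfl⟩
      rw [← hPR] at hr'
      exact map_subtype_le _ hr'
    have e := hcentral j hj _ hrM hab
    rw [← hse'] at e
    calc r * s = g⁻¹ * (g * r * g⁻¹ * (g * s * g⁻¹)) * g := by group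
      _ = g⁻¹ * (g * s * g⁻¹ * (g * r * g⁻¹)) * g := by rw [e]
      _ = s * r := by group
  have := card_le_of_le hJc
  rw [← Nat.card_congr (Subgroup.equivMapOfInjective _ _ (MulAut.conj g⁻¹).injective).toEquiv, hJcard, hZ3,
    Nat.card_zpowers] at this
  have h3 : orderOf c ≤ 3 := hexp
  omega

theorem main_strong (S : Sylow 3 G) (Z : Subgroup G)
    (hZ : Z = (S : Subgroup G) ⊓ Subgroup.centralizer ((S : Subgroup G) : Set G))
    (J : Subgroup G) (hJS : J ≤ S) (hJcomm : IsMulCommutative J) (hJexp : ∀ a ∈ J, a ^ 3 = 1) (hJcard : Nat.card J = 3 ^ 4)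
    (M₀ : Subgroup G) (hM₀ : M₀ = Subgroup.closure {g : G | g ∈ Subgroup.normalizer (J : Set G) ∧ ∃ k : ℕ, orderOf g = 3 ^ k})
    (hJM : J ≤ M₀) [hJn : (J.subgroupOf M₀).Normal] (eM : M₀ ⧸ J.subgroupOf M₀ ≃* alternatingGroup (Fin 6))
    (L₀ : Subgroup G) (hL₀ : L₀ = Subgroup.closure {g : G | g ∈ Subgroup.normalizer (Z : Set G) ∧ ∃ k : ℕ, orderOf g = 3 ^ k})
    (Q : Subgroup G) (hQ : Q = core3 (normalizer (Z : Set G)))
    (hQex : Cfsg.IsExtraspecial 3 Q) (hQcard : Nat.card Q = 3 ^ 5) (hQexp : ∀ a ∈ Q, a ^ 3 = 1)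
    (hQL : Q ≤ L₀) [hQn : (Q.subgroupOf L₀).Normal] (eL : L₀ ⧸ Q.subgroupOf L₀ ≃* Matrix.SpecialLinearGroup (Fin 2) (ZMod 5))
    (hiii : ∀ x ∈ J, x ≠ 1 → centralizer (core3 (centralizer ({x} : Set G)) : Set G) ≤ core3 (centralizer ({x} : Set G))) :
    Nonempty (G ≃* Cfsg.Spor.McL) ∨ Nonempty (G ≃* MulAut Cfsg.Spor.McL) := by
  haveI := fact_three
  have hpS : IsPGroup 3 (S : Subgroup G) := S.2
  -- the centre lies in the abelian subgroup
  have hZJ : ∃ z ∈ J, z ≠ 1 ∧ centralizer (Q : Set G) ≤ Q := by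
    have hQp : IsPGroup 3 Q := IsPGroup.of_card (n := 5) hQcard
    have hSN : (S : Subgroup G) ≤ normalizer (Z : Set G) := by
      refine le_trans ?_ (centralizer_le_normalizer _)
      rw [le_centralizer_iff, hZ]
      exact inf_le_right
    have hNQ : normalizer (Z : Set G) ≤ normalizer (Q : Set G) := fun g hg =>
      mem_normalizer_of_map_mem fun x hx => by
        rw [hQ] at hx ⊢
        obtain ⟨y, hy, rfl⟩ := hx
        exact ⟨⟨g, hg⟩ * y * (⟨g, hg⟩ : normalizer (Z : Set G))⁻¹,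
          (inferInstance : (Cfsg.pCore 3 (normalizer (Z : Set G))).Normal).conj_mem y hy _, rfl⟩
    have hQS : Q ≤ S := le_sylow_of_normalized S hQp (hSN.trans hNQ)
    have hZQ : Z ≤ Q := by
      have hn : (Z.subgroupOf (normalizer (Z : Set G))).Normal := normal_subgroupOf_of_le_normalizer le_rfl
      have hp : IsPGroup 3 (Z.subgroupOf (normalizer (Z : Set G))) :=
        (hpS.to_le (hZ ▸ inf_le_left)).of_equiv (subgroupOfEquivOfLe le_normalizer).symm
      intro z hz
      rw [hQ]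
      exact ⟨⟨z, le_normalizer hz⟩, Cfsg.Lib.Components.le_pCore hp hz, rfl⟩
    haveI : Nontrivial (S : Subgroup G) := Finite.one_lt_card_iff_nontrivial.1
      (lt_of_lt_of_le (by rw [hJcard]; norm_num) (card_le_of_le hJS))
    haveI := IsPGroup.center_nontrivial hpS
    obtain ⟨c, hc⟩ := exists_ne (1 : center (S : Subgroup G))
    have hcZ : ((c : (S : Subgroup G)) : G) ∈ Z := by
      rw [hZ]
      exact ⟨(c : (S : Subgroup G)).2, mem_centralizer_iff.2 fun s hs => congrArg Subtype.val (mem_center_iff.1 c.2 ⟨s, hs⟩)⟩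
    have hc1 : ((c : (S : Subgroup G)) : G) ≠ 1 := fun h => hc (Subtype.ext (Subtype.ext h))
    have hZ3 : Z = zpowers ((c : (S : Subgroup G)) : G) := by
      have hle : Z ≤ (center Q).map Q.subtype := fun z hz => ⟨⟨z, hZQ hz⟩, mem_center_iff.2 fun q => Subtype.ext (by
        have hz' : z ∈ centralizer ((S : Subgroup G) : Set G) := (hZ.le hz).2
        exact mem_centralizer_iff.1 hz' q (hQS q.2)), rfl⟩
      have h3 : Nat.card ((center Q).map Q.subtype) = 3 := by
        rw [Nat.card_congr (equivMapOfInjective (center Q) Q.subtype Q.subtype_injective).toEquiv.symm]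
        exact hQex.2
      refine (eq_of_le_of_card_ge (zpowers_le.2 hcZ) ?_).symm
      rw [Nat.card_zpowers, orderOf_eq_prime (hQexp _ (hZQ hcZ)) hc1, ← h3]
      exact card_le_of_le hle
    have hcJ : ((c : (S : Subgroup G)) : G) ∈ J := by
      by_contra hnot
      exact centre_in_J S Z J hJS hJcard M₀ hM₀ hJM eM L₀ hL₀ Q hQcard hQL eL hSN
        (fun z hz => (hZ.le hz).2) (fun z hz => hZ.le hz)
        (fun a ha b hb => congrArg Subtype.val (hJcomm.is_comm.comm (⟨a, ha⟩ : J) ⟨b, hb⟩)) hZ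
        (orderOf_le_of_pow_eq_one (by norm_num) (hQexp _ (hZQ hcZ))) hZ3 hcZ hc1 hnot
    refine ⟨_, hcJ, hc1, ?_⟩
    have hcent : centralizer (Z : Set G) = centralizer ({((c : (S : Subgroup G)) : G)} : Set G) := by
      rw [hZ3, zpowers_eq_closure, centralizer_closure]
    have h := hiii _ hcJ hc1
    rw [← hcent] at h
    have hle : core3 (centralizer (Z : Set G)) ≤ Q := hQ ▸ core_le
    exact (centralizer_le hle).trans (h.trans hle)
  obtain ⟨-, -, -, hCQ⟩ := hZJ
  let D : Data G :=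
    { S := S, Z := Z, J := J, M₀ := M₀, L₀ := L₀, Q := Q, hZ := hZ, hJS := hJS, hJcomm := hJcomm, hJexp := hJexp,
      hJcard := hJcard, hM₀ := hM₀, hJM := hJM
      φ := eM.toMonoidHom.comp (QuotientGroup.mk' _)
      φ_surj := eM.surjective.comp (QuotientGroup.mk'_surjective _)
      φ_ker := by ext x; simp [MonoidHom.mem_ker]
      hL₀ := hL₀, hQ := hQ, hQex := hQex, hQcard := hQcard, hQexp := hQexp, hQL := hQL
      ψ := eL.toMonoidHom.comp (QuotientGroup.mk' _)
      ψ_surj := eL.surjective.comp (QuotientGroup.mk'_surjective _)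
      ψ_ker := by ext x; simp [MonoidHom.mem_ker]
      hCQ := hCQ }
  obtain ⟨F, hF⟩ := exists_frame D
  refine identify F fun v hv0 hns => F.cent_nonsing (fun u hu => ?_) hv0 hns
  have hJ : F.J = J := congrArg Data.J hF
  exact hiii _ (hJ ▸ F.e_mem u) (F.e_ne hu.1)

end Cfsg.Lib.McLLocal
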