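import Cfsg.Agent.LocalThree.McLLocal.TopElem

/-!
The normaliser of the fixed part in the centraliser of the involution.
-/

set_option autoImplicit false
set_option linter.unusedSectionVars false
set_option maxRecDepth 100000
set_option synthInstance.maxSize 4096

namespace Cfsg.Lib.McLLocal

open Subgroup
open scoped Pointwise commutatorElement

universe u

variable {G : Type u} [Group G] [Finite G]

/-- The centralisers of nonsingular points lie in the normaliser of the abelian subgroup. -/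
def Frame.PointCond (F : Frame G) : Prop :=
  ∀ v, v ≠ 0 → ¬ Sing v → centralizer ({F.e v} : Set G) ≤ F.toData.M

/-- The centraliser of the involution. -/
abbrev Top.H (T : Top G) : Subgroup G := centralizer ({T.t} : Set G)

namespace Inv

variable (I : Inv G)

include I

/-- No element has the extra action. -/
def CaseA : Prop := ∀ g ∈ I.toData.M, ¬ I.toFrame.Acts g (actH 8)

theorem mem_H {g : G} (h : Commute g I.t) : g ∈ I.toTop.H := mem_centralizer_singleton_iff.2 h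

theorem comm_H {g : G} (h : g ∈ I.toTop.H) : Commute g I.t := mem_centralizer_singleton_iff.1 h

theorem D_mem {x : G} : x ∈ I.toTop.D ↔ x ∈ I.J ∧ x ∈ I.toTop.H := Iff.rfl

theorem D_le_H : I.toTop.D ≤ I.toTop.H := inf_le_right

theorem norm_L₀ {g : G} (hg : g ∈ I.toData.L) {x : G} (hx : x ∈ I.L₀) : g * x * g⁻¹ ∈ I.L₀ := by
  have hle : I.L₀ ≤ I.L₀.comap (MulAut.conj g).toMonoidHom := by
    conv_lhs => rw [I.hL₀]
    refine (closure_le _).2 fun a ha => ?_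
    obtain ⟨haL, k, hk⟩ := ha
    refine I.toData.mem_L₀ (g := g * a * g⁻¹) (mul_mem (mul_mem hg haL) (inv_mem hg)) (k := k) ?_
    rw [← hk]
    exact orderOf_injective (MulAut.conj g).toMonoidHom (MulAut.conj g).injective a
  exact hle hx

theorem norm_E0 {g : G} (hg : g ∈ I.toData.L) (ht : g ∈ I.toTop.H) {x : G} (hx : x ∈ I.toTop.E0) :
    g * x * g⁻¹ ∈ I.toTop.E0 :=
  mem_inf.2 ⟨I.norm_L₀ hg hx.1, mul_mem (mul_mem ht hx.2) (inv_mem ht)⟩

theorem norm_E1 {g : G} (hg : g ∈ I.toData.L) (ht : g ∈ I.toTop.H) {x : G} (hx : x ∈ I.toTop.E1) :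
    g * x * g⁻¹ ∈ I.toTop.E1 := by
  have hle : I.toTop.E1 ≤ I.toTop.E1.comap (MulAut.conj g).toMonoidHom := by
    unfold Top.E1
    rw [map_le_iff_le_comap, commutator_def, commutator_le]
    rintro a - b -
    refine ⟨⁅(⟨_, I.norm_E0 hg ht a.2⟩ : I.toTop.E0), (⟨_, I.norm_E0 hg ht b.2⟩ : I.toTop.E0)⁆,
      commutator_mem_commutator (mem_top _) (mem_top _), ?_⟩
    show (g * (a : G) * g⁻¹) * (g * (b : G) * g⁻¹) * (g * (a : G) * g⁻¹)⁻¹ * (g * (b : G) * g⁻¹)⁻¹ =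
      g * ((a : G) * b * (a : G)⁻¹ * (b : G)⁻¹) * g⁻¹
    group
  exact hle hx

theorem y_comm : Commute I.y I.t := I.toTop.E1_comm_t I.y_mem

theorem y_M : I.y ∈ I.toData.M := I.toFrame.acts_mem I.y_acts

theorem y_inv_w : I.y * I.e 27 * I.y⁻¹ = (I.e 27)⁻¹ := by
  rw [I.y_acts 27, (named_vectors.2.2.2.2.2.2.2 I.k₀).2.2.2, (code_cols I.k₀ I.hk₀).2.1, ← I.toFrame.e_inv]
  exact congrArg I.e (named_vectors.2.2.2.1).symm

theorem y_fix_z : I.y * I.e 1 * I.y⁻¹ = I.e 1 := I.toTop.e1_comm_of_cent (I.toTop.E1_cent_Z I.y_mem)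

theorem t_mem_E1 : I.t ∈ I.toTop.E1 := I.y_sq ▸ mul_mem I.y_mem I.y_mem

theorem f1_t : I.toTop.eq1 ⟨I.t, I.t_mem_E1⟩ = negOne := by
  have hw3 : I.e 27 ^ 3 = 1 := I.hJexp _ (I.toFrame.e_mem 27)
  obtain ⟨x, hx⟩ : ∃ x, x = I.toTop.eq1 ⟨I.e 27, I.w_mem⟩ := ⟨_, rfl⟩
  have hx1 : x ≠ 1 := fun h => I.toFrame.e_ne named_vectors.2.1
    (congrArg Subtype.val (I.toTop.eq1.map_eq_one_iff.1 (hx ▸ h)))
  have hx3 : x * (x * x) = 1 := by
    rw [hx, ← map_mul, ← map_mul, show (⟨I.e 27, I.w_mem⟩ * (⟨I.e 27, I.w_mem⟩ * ⟨I.e 27, I.w_mem⟩) : I.toTop.E1) = 1 from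
      Subtype.ext (by show I.e 27 * (I.e 27 * I.e 27) = 1; rw [← hw3, pow_succ, pow_two, mul_assoc]), map_one]
  rw [← inverter_sq x hx3 hx1 (I.toTop.eq1 ⟨I.y, I.y_mem⟩) (by
    rw [hx, ← map_inv, ← map_mul, ← map_mul, ← map_inv]
    exact congrArg I.toTop.eq1 (Subtype.ext I.y_inv_w)), ← map_mul]
  exact congrArg I.toTop.eq1 (Subtype.ext I.y_sq.symm)

theorem Z_le_D : I.Z ≤ I.toTop.D := fun x hx => by
  obtain ⟨k, rfl⟩ := (I.eZ _).1 hx
  rw [I.toFrame.e_sc]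
  exact pow_mem I.toTop.e1_mem_D _

theorem mem_D_split {v : Fin 81} (h : I.e v ∈ I.toTop.D) : ∃ a b : Fin 3, I.e v = I.e 1 ^ a.val * I.e 27 ^ b.val := by
  have hd : ∀ v : Fin 81, dg v 1 = 0 → dg v 2 = 0 → ∃ a b : Fin 3, v = ad (sc a.val 1) (sc b.val 27) := by decide +kernel
  obtain ⟨a, b, rfl⟩ := hd v (I.toTop.mem_D.1 h).1 (I.toTop.mem_D.1 h).2
  exact ⟨a, b, by rw [I.e_add, I.toFrame.e_sc, I.toFrame.e_sc]⟩

/-- An element fixing both points twists the inverting element by the involution at most. -/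
theorem fix_code {x : G} (ht : x ∈ I.toTop.H) {c : Fin 64} (hc : I.toFrame.Acts x (actH c)) (hZ : colZ c = 1)
    (hW : colW c = 27) : c ∈ ([0, 8, 16, 24] : List (Fin 64)) := by
  obtain ⟨h1, -, -, h27⟩ := named_vectors.2.2.2.2.2.2.2 c
  have hx1 : x * I.e 1 * x⁻¹ = I.e 1 := by rw [hc 1, h1, hZ]
  have hxw : x * I.e 27 * x⁻¹ = I.e 27 := by rw [hc 27, h27, hW]
  have hxL : x ∈ I.toData.L := by
    refine centralizer_le_normalizer _ (mem_centralizer_iff.2 fun z hz => ?_)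
    obtain ⟨k, rfl⟩ := (I.eZ _).1 hz
    rw [I.toFrame.e_sc]
    exact ((show Commute x (I.e 1) from mul_inv_eq_iff_eq_mul.1 hx1).pow_right k.val).eq.symm
  have hy' := I.norm_E1 hxL ht I.y_mem
  obtain ⟨b, hb⟩ : ∃ b, b = I.y⁻¹ * (x * I.y * x⁻¹) := ⟨_, rfl⟩
  have hbE : b ∈ I.toTop.E1 := hb ▸ mul_mem (inv_mem I.y_mem) hy'
  have hbw : b * I.e 27 * b⁻¹ = I.e 27 := by
    have e1 : x⁻¹ * I.e 27 * x = I.e 27 := by
      calc x⁻¹ * I.e 27 * x = x⁻¹ * (x * I.e 27 * x⁻¹) * x := by rw [hxw]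
        _ = I.e 27 := by group
    rw [hb]
    calc I.y⁻¹ * (x * I.y * x⁻¹) * I.e 27 * (I.y⁻¹ * (x * I.y * x⁻¹))⁻¹ =
        I.y⁻¹ * x * (I.y * (x⁻¹ * I.e 27 * x) * I.y⁻¹) * x⁻¹ * I.y := by group
      _ = I.y⁻¹ * x * (I.e 27)⁻¹ * x⁻¹ * I.y := by rw [e1, I.y_inv_w]
      _ = I.y⁻¹ * (x * I.e 27 * x⁻¹)⁻¹ * I.y := by group
      _ = I.y⁻¹ * (I.y * I.e 27 * I.y⁻¹) * I.y := by rw [hxw, I.y_inv_w]
      _ = I.e 27 := by group
  obtain ⟨w, hw⟩ : ∃ w, w = I.toTop.eq1 ⟨I.e 27, I.w_mem⟩ := ⟨_, rfl⟩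
  have hw3' : I.e 27 ^ 3 = 1 := I.hJexp _ (I.toFrame.e_mem 27)
  have hw1 : w ≠ 1 := fun h => I.toFrame.e_ne named_vectors.2.1
    (congrArg Subtype.val (I.toTop.eq1.map_eq_one_iff.1 (hw ▸ h)))
  have hw3 : w * (w * w) = 1 := by
    rw [hw, ← map_mul, ← map_mul, show (⟨I.e 27, I.w_mem⟩ * (⟨I.e 27, I.w_mem⟩ * ⟨I.e 27, I.w_mem⟩) : I.toTop.E1) = 1 from
      Subtype.ext (by show I.e 27 * (I.e 27 * I.e 27) = 1; rw [← hw3', pow_succ, pow_two, mul_assoc]), map_one]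
  have hmem := three_cent w hw3 hw1 (I.toTop.eq1 ⟨b, hbE⟩) (by
    rw [hw, ← map_mul, ← map_mul]
    exact congrArg I.toTop.eq1 (Subtype.ext (mul_inv_eq_iff_eq_mul.1 hbw)))
  simp only [List.mem_cons, List.not_mem_nil, or_false] at hmem
  have hJ : ∀ j : G, j ∈ I.J → b = j → mulH c I.k₀ = mulH I.k₀ c := by
    intro j hj e
    have h1 := I.toFrame.acts_H_mul hc I.y_acts
    have h2 := I.toFrame.acts_H_mul I.y_acts hc
    have h3 : x * I.y = I.y * j * x := by rw [← e, hb]; group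
    refine I.toFrame.code_unique h1 fun v => ?_
    rw [h3, I.toFrame.acts_mul (I.toFrame.acts_mul I.y_acts (I.toFrame.acts_J hj)) hc v]
    exact (h2 v).symm.trans (I.toFrame.acts_mul I.y_acts hc v) |>.symm
  have hT : ∀ j : G, j ∈ I.J → b = I.t * j → mulH c I.k₀ = mulH 16 (mulH I.k₀ c) := by
    intro j hj e
    have h1 := I.toFrame.acts_H_mul hc I.y_acts
    have h2 := I.toFrame.acts_H_mul I.hta (I.toFrame.acts_H_mul I.y_acts hc)
    have h3 : x * I.y = I.t * (I.y * j * x) := by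
      rw [← mul_assoc, ← mul_assoc, ← I.y_comm.eq, mul_assoc I.y, ← e, hb]; group
    refine I.toFrame.code_unique h1 fun v => ?_
    rw [h3, I.toFrame.acts_mul I.hta (I.toFrame.acts_mul (I.toFrame.acts_mul I.y_acts (I.toFrame.acts_J hj)) hc) v]
    exact ((I.toFrame.acts_mul I.hta (I.toFrame.acts_mul I.y_acts hc) v).symm.trans (h2 v))
  have hval : ∀ p : I.toTop.E1, I.toTop.eq1 ⟨b, hbE⟩ = I.toTop.eq1 p → b = (p : G) := fun p hp =>
    congrArg Subtype.val (I.toTop.eq1.injective hp)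
  have hwJ := I.toFrame.e_mem 27
  refine iso_twisted I.k₀ c I.hk₀ hZ hW ?_
  rcases hmem with r | r | r | r | r | r
  · exact Or.inl (hJ 1 (one_mem _) (hval 1 (r.trans (map_one _).symm)))
  · exact Or.inl (hJ _ hwJ (hval ⟨_, I.w_mem⟩ (r.trans hw)))
  · exact Or.inl (hJ _ (mul_mem hwJ hwJ) (hval (⟨_, I.w_mem⟩ * ⟨_, I.w_mem⟩) (r.trans (by rw [map_mul, hw]))))
  · exact Or.inr (hT 1 (one_mem _) ((hval ⟨_, I.t_mem_E1⟩ (r.trans I.f1_t.symm)).trans (mul_one _).symm))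
  · exact Or.inr (hT _ hwJ (hval (⟨_, I.t_mem_E1⟩ * ⟨_, I.w_mem⟩) (r.trans (by rw [map_mul, I.f1_t, hw]))))
  · exact Or.inr (hT _ (mul_mem hwJ hwJ) (hval (⟨_, I.t_mem_E1⟩ * (⟨_, I.w_mem⟩ * ⟨_, I.w_mem⟩))
      (r.trans (by rw [map_mul, map_mul, I.f1_t, hw]))))

theorem exists_A : ∀ c ∈ codesA I.k₀, ∃ g ∈ I.toTop.H ⊓ I.toData.M, I.toFrame.Acts g (actH c) := by
  have base : ∀ c ∈ codes0, ∃ g ∈ I.toTop.H ⊓ I.toData.M, I.toFrame.Acts g (actH c) := by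
    intro c hc
    obtain ⟨g, -, hg⟩ := I.toFrame.exists_M₀ c hc
    obtain ⟨j, -, hcomm, hact⟩ := I.toFrame.lift_comm I.ht I.hta hg
    exact ⟨_, mem_inf.2 ⟨I.mem_H hcomm, I.toFrame.acts_mem hact⟩, hact⟩
  intro c hc
  rcases List.mem_append.1 hc with h | h
  · exact base c h
  · obtain ⟨c₀, h₀, rfl⟩ := List.mem_map.1 h
    obtain ⟨g, hg, hga⟩ := base c₀ h₀
    exact ⟨I.y * g, mul_mem (mem_inf.2 ⟨I.mem_H I.y_comm, I.y_M⟩) hg, I.toFrame.acts_H_mul I.y_acts hga⟩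

theorem exists_eight (hB : ¬ I.CaseA) : ∃ g ∈ I.toTop.H ⊓ I.toData.M, I.toFrame.Acts g (actH 8) := by
  simp only [CaseA, not_forall, not_not] at hB
  obtain ⟨g, -, hg⟩ := hB
  obtain ⟨j, -, hcomm, hact⟩ := I.toFrame.lift_comm I.ht I.hta hg
  exact ⟨_, mem_inf.2 ⟨I.mem_H hcomm, I.toFrame.acts_mem hact⟩, hact⟩

theorem exists_B (hB : ¬ I.CaseA) : ∀ c ∈ codesB, ∃ g ∈ I.toTop.H ⊓ I.toData.M, I.toFrame.Acts g (actH c) := by
  intro c hc
  obtain ⟨h, hh, e | e⟩ := (codes_closed I.k₀ I.hk₀).2.1 c hc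
  · exact e ▸ I.exists_A h hh
  · obtain ⟨g, hg, hga⟩ := I.exists_A h hh
    obtain ⟨g', hg', hga'⟩ := I.exists_eight hB
    exact ⟨g * g', mul_mem hg hg', e ▸ I.toFrame.acts_H_mul hga hga'⟩

theorem exists_code {g : G} (hg : g ∈ I.toTop.H ⊓ I.toData.M) : ∃ c, I.toFrame.Acts g (actH c) := by
  obtain ⟨f, hf⟩ := I.toFrame.exists_acts hg.2
  have hpair : ∀ u ∈ ([1, 2, 27, 54] : List (Fin 81)), f u ∈ ([1, 2, 27, 54] : List (Fin 81)) := by
    intro u hu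
    obtain ⟨h1, h2, hs⟩ := four_facts.2.2.2 u hu
    have hD : I.e (f u) ∈ I.toTop.D := by
      rw [← hf u]
      exact mem_inf.2 ⟨(mem_normalizer_iff.1 hg.2 _).1 (I.toFrame.e_mem u),
        mul_mem (mul_mem hg.1 (I.toTop.mem_D.2 ⟨h1, h2⟩).2) (inv_mem hg.1)⟩
    have := fix_sixteen.2.2.2.2.2.1 (f u) (I.toTop.mem_D.1 hD).1 (I.toTop.mem_D.1 hD).2 (I.toFrame.sing_acts hf hs)
    simpa using this
  have hinj : Function.Injective f := fun a b h => I.e_inj (by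
    have := (hf a).trans ((congrArg I.e h).trans (hf b).symm)
    exact mul_left_cancel (mul_right_cancel this))
  refine I.toFrame.pair_acts hf (pair_images _ (hpair 1 (by decide)) _ (hpair 27 (by decide)) (fun h => ?_) fun h => ?_)
  · exact absurd (hinj h) (by decide +kernel)
  · have h2 : f (sc (2 : Fin 3).val 1) = ng (f 1) := I.toFrame.acts_sc hf 2 1
    exact absurd (hinj (h.trans h2.symm)) (by decide +kernel)

/-- The actions that occur. -/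
theorem code_mem {g : G} (hg : g ∈ I.toTop.H ⊓ I.toData.M) {c : Fin 64} (hc : I.toFrame.Acts g (actH c)) :
    c ∈ codesB ∧ (I.CaseA → c ∈ codesA I.k₀) := by
  obtain ⟨h, hh, h1, h27, hB, hA⟩ := adjust_code I.k₀ I.hk₀ c
  obtain ⟨a, ha, haa⟩ := I.exists_A h hh
  have hp := I.toFrame.acts_H_mul haa hc
  have hmem := mul_mem ha hg
  have h4 := I.fix_code hmem.1 hp h1 h27
  refine ⟨hB h4, fun hcase => hA ?_⟩
  simp only [List.mem_cons, List.not_mem_nil, or_false] at h4 ⊢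
  rcases h4 with r | r | r | r
  · exact Or.inl r
  · exact absurd (r ▸ hp) (hcase _ hmem.2)
  · exact Or.inr r
  · refine absurd ?_ (hcase (a * g * I.t) (mul_mem hmem.2 (I.toFrame.acts_mem I.hta)))
    have h := I.toFrame.acts_H_mul hp I.hta
    rwa [r, show mulH 24 16 = 8 by decide +kernel] at h

theorem code_zero {g : G} (hg : g ∈ I.toTop.H) (hc : I.toFrame.Acts g (actH 0)) : g ∈ I.toTop.D :=
  ⟨I.toFrame.acts_zero hc, hg⟩

theorem card_codes {X : Subgroup G} (hX : X ≤ I.toTop.H ⊓ I.toData.M) (hD : I.toTop.D ≤ X) (S : List (Fin 64))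
    (h1 : ∀ g ∈ X, ∀ c, I.toFrame.Acts g (actH c) → c ∈ S) (h2 : ∀ c ∈ S, ∃ g ∈ X, I.toFrame.Acts g (actH c)) :
    Nat.card X = S.toFinset.card * 9 := by
  classical
  choose r hr hra using fun c : S.toFinset => h2 c.1 (List.mem_toFinset.1 c.2)
  let μ : S.toFinset × I.toTop.D → X := fun p => ⟨r p.1 * p.2, mul_mem (hr p.1) (hD p.2.2)⟩
  have hact : ∀ p : S.toFinset × I.toTop.D, I.toFrame.Acts (μ p : G) (actH p.1.1) := fun p v =>
    I.toFrame.acts_mul (hra p.1) (I.toFrame.acts_J p.2.2.1) v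
  have hμ : Function.Bijective μ := by
    refine ⟨fun p q h => ?_, fun g => ?_⟩
    · have h1 : p.1 = q.1 := Subtype.ext (I.toFrame.code_unique (hact p) (congrArg Subtype.val h ▸ hact q))
      refine Prod.ext h1 (Subtype.ext ?_)
      have h' := congrArg Subtype.val h
      simp only [μ] at h'
      rw [h1] at h'
      exact mul_left_cancel h'
    · obtain ⟨c, hc⟩ := I.exists_code (hX g.2)
      obtain ⟨p, hp⟩ : ∃ p : S.toFinset, p.1 = c := ⟨⟨c, List.mem_toFinset.2 (h1 g g.2 c hc)⟩, rfl⟩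
      have hd : (r p)⁻¹ * g ∈ I.toTop.D := by
        refine mem_inf.2 ⟨I.toFrame.ker fun v => ?_, mul_mem (inv_mem (mem_inf.1 (hX (hr p))).1) (mem_inf.1 (hX g.2)).1⟩
        rw [show (r p)⁻¹ * (g : G) * I.e v * ((r p)⁻¹ * (g : G))⁻¹ = (r p)⁻¹ * ((g : G) * I.e v * (g : G)⁻¹) * r p by group,
          hc v, ← hp, ← hra p v]
        group
        rfl
      exact ⟨(p, ⟨_, hd⟩), Subtype.ext (mul_inv_cancel_left (r p) (g : G))⟩
  rw [← Nat.card_congr (Equiv.ofBijective μ hμ), Nat.card_prod, I.toTop.card_D, Nat.card_eq_fintype_card,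
    Fintype.card_coe]

theorem sing_pair (hP : I.toFrame.PointCond) {g : G} (hg : g ∈ I.toTop.H) (hn : ∀ x ∈ I.toTop.D, g * x * g⁻¹ ∈ I.toTop.D)
    {u : Fin 81} (hu : u ∈ ([1, 2, 27, 54] : List (Fin 81))) :
    ∃ v ∈ ([1, 2, 27, 54] : List (Fin 81)), g * I.e u * g⁻¹ = I.e v := by
  obtain ⟨h1, h2, hs⟩ := four_facts.2.2.2 u hu
  have hD := hn _ (I.toTop.mem_D.2 ⟨h1, h2⟩)
  obtain ⟨v, hv⟩ := (I.memJ _).1 hD.1
  have hv0 : v ≠ 0 := fun h => I.toFrame.e_ne hs.1 (by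
    rw [h, I.toFrame.e_zero] at hv
    exact conj_eq_one_iff.1 hv.symm)
  have hvs : Sing v := by
    by_contra hns
    exact hns (I.toFrame.sing_of_conj hs hv.symm (hP v hv0 hns))
  refine ⟨v, ?_, hv.symm⟩
  have := fix_sixteen.2.2.2.2.2.1 v (I.toTop.mem_D.1 (hv ▸ hD)).1 (I.toTop.mem_D.1 (hv ▸ hD)).2 hvs
  simpa using this

/-- The normaliser of the fixed part in the centraliser normalises the abelian subgroup. -/
theorem norm_D_mem (hP : I.toFrame.PointCond) {g : G} (hg : g ∈ I.toTop.H)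
    (hn : ∀ x ∈ I.toTop.D, g * x * g⁻¹ ∈ I.toTop.D) : g ∈ I.toData.M := by
  have key : ∀ h ∈ I.toTop.H, (∀ x ∈ I.toTop.D, h * x * h⁻¹ ∈ I.toTop.D) → ∀ v, v = 1 ∨ v = 2 →
      h * I.e 1 * h⁻¹ = I.e v → h ∈ I.toData.M := by
    intro h _ hn' v hv e
    refine I.toTop.norm_D_M (mem_normalizer_of_map_mem fun z hz => ?_) hn'
    obtain ⟨k, rfl⟩ := (I.eZ _).1 hz
    rw [I.toFrame.e_sc, ← conj_pow, e]
    refine pow_mem ?_ _
    rw [I.toFrame.Z_eq_line, I.toFrame.mem_line named_vectors.1]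
    rcases hv with r | r
    · exact Or.inr (Or.inl r)
    · exact Or.inr (Or.inr (r.trans named_vectors.2.2.1.symm))
  obtain ⟨v, hv, e⟩ := I.sing_pair hP hg hn (u := 1) (by decide)
  simp only [List.mem_cons, List.not_mem_nil, or_false] at hv
  rcases hv with r | r | r | r
  · exact key g hg hn v (Or.inl r) e
  · exact key g hg hn v (Or.inr r) e
  all_goals
    obtain ⟨s, hs, hsa⟩ := I.exists_A 35 (List.mem_append_left _ (by decide))
    have hsD : ∀ x ∈ I.toTop.D, s * x * s⁻¹ ∈ I.toTop.D := fun x hx =>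
      mem_inf.2 ⟨(mem_normalizer_iff.1 hs.2 x).1 hx.1, mul_mem (mul_mem hs.1 hx.2) (inv_mem hs.1)⟩
    have hsg := key (s * g) (mul_mem hs.1 hg) (fun x hx => by
      rw [show s * g * x * (s * g)⁻¹ = s * (g * x * g⁻¹) * s⁻¹ by group]
      exact hsD _ (hn x hx)) (actH 35 v) (by
        rw [r]
        first | exact Or.inl (by decide +kernel) | exact Or.inr (by decide +kernel)) (by
      rw [show s * g * I.e 1 * (s * g)⁻¹ = s * (g * I.e 1 * g⁻¹) * s⁻¹ by group, e, hsa v])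
    have := mul_mem (inv_mem (mem_inf.1 hs).2) hsg
    rwa [inv_mul_cancel_left] at this

theorem conj_D {g : G} (hg : g ∈ I.toTop.H ⊓ I.toData.M) {x : G} (hx : x ∈ I.toTop.D) :
    g * x * g⁻¹ ∈ I.toTop.D :=
  mem_inf.2 ⟨(mem_normalizer_iff.1 hg.2 x).1 hx.1, mul_mem (mul_mem hg.1 hx.2) (inv_mem hg.1)⟩

theorem norm_D_eq (hP : I.toFrame.PointCond) :
    I.toTop.H ⊓ normalizer (I.toTop.D : Set G) = I.toTop.H ⊓ I.toData.M :=
  le_antisymm (fun g hg => mem_inf.2 ⟨hg.1, I.norm_D_mem hP hg.1 fun x hx => (mem_normalizer_iff.1 hg.2 x).1 hx⟩)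
    fun g hg => mem_inf.2 ⟨hg.1, mem_normalizer_of_map_mem fun x hx => I.conj_D hg hx⟩

/-- The fixed part is a Sylow subgroup of the centraliser. -/
theorem D_max (hP : I.toFrame.PointCond) {P : Subgroup G} (hp : IsPGroup 3 P) (hD : I.toTop.D ≤ P) (hH : P ≤ I.toTop.H) :
    P = I.toTop.D := by
  haveI := fact_three
  haveI : Group.IsNilpotent P := hp.isNilpotent
  refine le_antisymm ?_ hD
  suffices h : I.toTop.D.subgroupOf P = ⊤ from fun x hx =>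
    mem_subgroupOf.1 (h ▸ mem_top (⟨x, hx⟩ : P))
  by_contra hne
  have hlt := normalizerCondition_of_isNilpotent (I.toTop.D.subgroupOf P) (lt_top_iff_ne_top.2 hne)
  obtain ⟨x, hx, hxn⟩ := SetLike.exists_of_lt hlt
  refine hxn (mem_subgroupOf.2 ?_)
  have hxM : (x : G) ∈ I.toTop.H ⊓ I.toData.M := mem_inf.2 ⟨hH x.2, I.norm_D_mem hP (hH x.2) fun y hy =>
    mem_subgroupOf.1 ((mem_normalizer_iff.1 hx ⟨y, hD hy⟩).1 (mem_subgroupOf.2 hy))⟩
  obtain ⟨c, hc⟩ := I.exists_code hxM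
  have hc8 := codes_order c (I.code_mem hxM hc).1
  have h2 := I.toFrame.acts_H_mul hc hc
  have h4 := I.toFrame.acts_H_mul h2 h2
  have h8 := I.toFrame.acts_H_mul h4 h4
  rw [hc8] at h8
  obtain ⟨k, hk⟩ := IsPGroup.iff_orderOf.1 hp x
  have ho : orderOf (x : G) = 3 ^ k := by rw [← hk]; exact orderOf_coe x
  have hJ8 : (x : G) ^ 8 ∈ I.J := by
    have := I.toFrame.acts_zero h8
    simpa [pow_succ, mul_assoc] using this
  refine mem_inf.2 ⟨?_, hH x.2⟩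
  have h3 : (x : G) ^ 3 ^ k = 1 := ho ▸ pow_orderOf_eq_one _
  have hcop : (Nat.gcd 8 (3 ^ k) : ℕ) = 1 := (Nat.Coprime.pow_right k (show Nat.Coprime 8 3 by decide)).gcd_eq_one
  have hb := Nat.gcd_eq_gcd_ab 8 (3 ^ k)
  rw [hcop] at hb
  have : (x : G) = ((x : G) ^ 8) ^ Nat.gcdA 8 (3 ^ k) * ((x : G) ^ 3 ^ k) ^ Nat.gcdB 8 (3 ^ k) := by
    conv_lhs => rw [← zpow_one (x : G)]
    rw [← zpow_natCast, ← zpow_natCast, ← zpow_mul, ← zpow_mul, ← zpow_add, ← hb]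
    norm_num
  rw [this, h3, one_zpow, mul_one]
  exact zpow_mem hJ8 _

end Inv

end Cfsg.Lib.McLLocal
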