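import Cfsg.Agent.LocalThree.McLLocal.Frame

/-!
The conjugates of the centre inside the abelian subgroup are the ten singular points.
-/

set_option autoImplicit false
set_option linter.unusedSectionVars false
set_option maxRecDepth 100000
set_option synthInstance.maxSize 4096

namespace Cfsg.Lib.McLLocal

open Subgroup Equiv
open scoped Pointwise

universe u

theorem six_normaliser : (swap (0 : Fin 6) 1 * swap 1 2) * (swap 3 4 * swap 4 5) = (swap 3 4 * swap 4 5) * (swap 0 1 * swap 1 2) ∧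
    (swap (0 : Fin 6) 3 * (swap 1 4 * swap 4 2 * swap 2 5)) * (swap 0 1 * swap 1 2) * (swap (0 : Fin 6) 3 * (swap 1 4 * swap 4 2 * swap 2 5))⁻¹ =
      swap 3 4 * swap 4 5 ∧
    (swap (0 : Fin 6) 3 * (swap 1 4 * swap 4 2 * swap 2 5)) * (swap 3 4 * swap 4 5) * (swap (0 : Fin 6) 3 * (swap 1 4 * swap 4 2 * swap 2 5))⁻¹ =
      (swap 0 1 * swap 1 2) * (swap 0 1 * swap 1 2) ∧
    Perm.sign (swap (0 : Fin 6) 3 * (swap 1 4 * swap 4 2 * swap 2 5)) = 1 ∧
    (swap (0 : Fin 6) 3 * (swap 1 4 * swap 4 2 * swap 2 5)) ^ 4 = 1 ∧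
    (swap (0 : Fin 6) 3 * (swap 1 4 * swap 4 2 * swap 2 5)) ^ 2 ≠ 1 := by decide +kernel

/-- A Sylow three-subgroup of the alternating group of degree six, with a normalising element of order four. -/
theorem six_sylows : Nat.card (Sylow 3 (alternatingGroup (Fin 6))) ≤ 10 ∧
    ∀ P : Sylow 3 (alternatingGroup (Fin 6)), ∃ r : alternatingGroup (Fin 6),
      r ∈ normalizer ((P : Subgroup (alternatingGroup (Fin 6))) : Set (alternatingGroup (Fin 6))) ∧ r ^ 4 = 1 ∧ r ^ 2 ≠ 1 := by
  haveI := fact_three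
  obtain ⟨hab, h1, h2, hsg, h4, h2n⟩ := six_normaliser
  obtain ⟨a, had⟩ : ∃ a : alternatingGroup (Fin 6), a = ⟨swap 0 1 * swap 1 2, Perm.mem_alternatingGroup.2 (by decide +kernel)⟩ := ⟨_, rfl⟩
  obtain ⟨b, hbd⟩ : ∃ b : alternatingGroup (Fin 6), b = ⟨swap 3 4 * swap 4 5, Perm.mem_alternatingGroup.2 (by decide +kernel)⟩ := ⟨_, rfl⟩
  obtain ⟨r, hrd⟩ : ∃ r : alternatingGroup (Fin 6), r = ⟨swap 0 3 * (swap 1 4 * swap 4 2 * swap 2 5), Perm.mem_alternatingGroup.2 hsg⟩ := ⟨_, rfl⟩
  have eab : a * b = b * a := Subtype.ext (by rw [had, hbd]; exact hab)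
  have era : r * a * r⁻¹ = b := Subtype.ext (by rw [hrd, had, hbd]; exact h1)
  have erb : r * b * r⁻¹ = a * a := Subtype.ext (by rw [hrd, had, hbd]; exact h2)
  have ha3 : a ^ 3 = 1 := Subtype.ext (by rw [had]; show (swap (0 : Fin 6) 1 * swap 1 2) ^ 3 = 1; decide +kernel)
  have hb3 : b ^ 3 = 1 := Subtype.ext (by rw [hbd]; show (swap (3 : Fin 6) 4 * swap 4 5) ^ 3 = 1; decide +kernel)
  have hr4 : r ^ 4 = 1 := Subtype.ext (by rw [hrd]; exact h4)
  have hr2 : r ^ 2 ≠ 1 := fun h => h2n (by rw [hrd] at h; exact congrArg Subtype.val h)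
  have hva : zpowers b ≤ centralizer (zpowers a : Set (alternatingGroup (Fin 6))) := by
    rw [zpowers_le]
    refine mem_centralizer_iff.2 fun x hx => ?_
    obtain ⟨k, rfl⟩ := mem_zpowers_iff.1 hx
    exact (Commute.zpow_left eab k).eq
  let P₀ : Subgroup (alternatingGroup (Fin 6)) := zpowers a ⊔ zpowers b
  have hp : IsPGroup 3 P₀ := by
    refine IsPGroup.to_sup_of_normal_left' ?_ ?_ (hva.trans (centralizer_le_normalizer _)) <;>
      refine IsPGroup.of_card (n := 1) ?_ <;> rw [Nat.card_zpowers, pow_one]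
    · exact orderOf_eq_prime ha3 (fun h => absurd (congrArg Subtype.val (had ▸ h)) (by decide +kernel))
    · exact orderOf_eq_prime hb3 (fun h => absurd (congrArg Subtype.val (hbd ▸ h)) (by decide +kernel))
  have hcard : Nat.card (alternatingGroup (Fin 6)) = 360 := by
    rw [nat_card_alternatingGroup, Nat.card_eq_fintype_card, Fintype.card_fin]; rfl
  have hP9 : 9 ≤ Nat.card P₀ := by
    have hle : zpowers a ≤ P₀ := le_sup_left
    have hlt : zpowers a < P₀ := lt_of_le_of_ne hle fun e => by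
      have hb : b ∈ zpowers a := e ▸ mem_sup_right (mem_zpowers b)
      obtain ⟨k, hk⟩ := mem_zpowers_iff.1 hb
      have hfix : (b : Perm (Fin 6)) 3 ≠ 3 := by rw [hbd]; decide +kernel
      apply hfix
      have h3 : ((a ^ k : alternatingGroup (Fin 6)) : Perm (Fin 6)) 3 = 3 := by
        rw [SubgroupClass.coe_zpow]
        exact Perm.zpow_apply_eq_self_of_apply_eq_self (by rw [had]; decide +kernel) k
      rwa [hk] at h3
    have hlt' : Nat.card (zpowers a) < Nat.card P₀ := Set.ncard_lt_ncard hlt (Set.toFinite _)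
    obtain ⟨n, hn⟩ := hp.exists_card_eq
    rw [Nat.card_zpowers, orderOf_eq_prime ha3 (fun h => absurd (congrArg Subtype.val (had ▸ h)) (by decide +kernel)),
      hn] at hlt'
    have h1n : 1 < n := by
      by_contra hc
      have := Nat.pow_le_pow_right (show 0 < 3 by norm_num) (show n ≤ 1 by omega)
      omega
    rw [hn]
    exact le_trans (show 9 ≤ 3 ^ 2 by norm_num) (Nat.pow_le_pow_right (by norm_num) h1n)
  obtain ⟨Q, hQ⟩ := hp.exists_le_sylow
  have hQ9 : Nat.card (Q : Subgroup (alternatingGroup (Fin 6))) = 9 := by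
    have h := card_le_of_le hQ
    obtain ⟨n, hn⟩ := Q.2.exists_card_eq
    have hd := card_subgroup_dvd_card (Q : Subgroup (alternatingGroup (Fin 6)))
    rw [hcard, hn] at hd
    have : n ≤ 2 := by
      by_contra hc
      have := (pow_dvd_pow 3 (show 3 ≤ n by omega)).trans hd
      norm_num at this
    have := Nat.pow_le_pow_right (show 0 < 3 by norm_num) this
    omega
  have hPQ : P₀ = (Q : Subgroup (alternatingGroup (Fin 6))) := eq_of_le_of_card_ge hQ (hQ9 ▸ hP9)
  have hrN : r ∈ normalizer ((Q : Subgroup (alternatingGroup (Fin 6))) : Set (alternatingGroup (Fin 6))) := by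
    rw [← hPQ, mem_normalizer_iff_map_conj_eq]
    refine eq_of_le_of_card_ge ?_ (Nat.card_congr (P₀.equivMapOfInjective _ (MulAut.conj r).injective).toEquiv).le
    rw [Subgroup.map_sup, MonoidHom.map_zpowers, MonoidHom.map_zpowers, sup_le_iff, zpowers_le, zpowers_le]
    exact ⟨show r * a * r⁻¹ ∈ P₀ from era ▸ mem_sup_right (mem_zpowers b),
      show r * b * r⁻¹ ∈ P₀ from erb ▸ mul_mem (mem_sup_left (mem_zpowers a)) (mem_sup_left (mem_zpowers a))⟩
  constructor
  · rw [Sylow.card_eq_index_normalizer Q]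
    have h36 : 36 ∣ Nat.card (normalizer ((Q : Subgroup (alternatingGroup (Fin 6))) : Set (alternatingGroup (Fin 6)))) := by
      have h9 := card_dvd_of_le (le_normalizer (H := (Q : Subgroup (alternatingGroup (Fin 6)))))
      rw [hQ9] at h9
      have h4' := card_dvd_of_le (zpowers_le.2 hrN)
      rw [Nat.card_zpowers, orderOf_eq_prime_pow (p := 2) (n := 1) (by rw [pow_one]; exact hr2)
        (show r ^ 2 ^ (1 + 1) = 1 from hr4)] at h4'
      exact (show Nat.Coprime 9 4 by norm_num).mul_dvd_of_dvd_of_dvd h9 h4'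
    have hidx := card_mul_index (normalizer ((Q : Subgroup (alternatingGroup (Fin 6))) : Set (alternatingGroup (Fin 6))))
    rw [hcard] at hidx
    have := Nat.le_of_dvd Nat.card_pos h36
    obtain ⟨N, hN⟩ : ∃ N, N = Nat.card (normalizer ((Q : Subgroup (alternatingGroup (Fin 6))) : Set (alternatingGroup (Fin 6)))) := ⟨_, rfl⟩
    obtain ⟨i, hi⟩ : ∃ i, i = (normalizer ((Q : Subgroup (alternatingGroup (Fin 6))) : Set (alternatingGroup (Fin 6)))).index := ⟨_, rfl⟩
    rw [← hN, ← hi] at hidx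
    rw [← hN] at this
    have : i ≤ 10 := by nlinarith
    exact hi ▸ this
  · intro P
    obtain ⟨c, hc⟩ := MulAction.exists_smul_eq (alternatingGroup (Fin 6)) Q P
    refine ⟨c * r * c⁻¹, ?_, by rw [conj_pow, hr4, mul_one, mul_inv_cancel], fun h => hr2 ?_⟩
    · refine Sylow.smul_eq_iff_mem_normalizer.1 ?_
      rw [← hc, mul_smul, mul_smul, inv_smul_smul, Sylow.smul_eq_iff_mem_normalizer.2 hrN]
    · rw [conj_pow] at h
      exact conj_eq_one_iff.1 h

/-- The ten lines. -/
def lineT (i : Fin 10) : Fin 81 := if h : i.val < 9 then actU ⟨i.val, h⟩ 27 else 1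

theorem lineT_facts : (∀ i j : Fin 10, (lineT i = lineT j ∨ lineT i = ng (lineT j)) → i = j) ∧
    ∀ v : Fin 81, Sing v → ∃ i : Fin 10, v = lineT i ∨ v = ng (lineT i) := by decide +kernel

theorem lineT_sing : ∀ i : Fin 10, Sing (lineT i) ∧ Sing (ng (lineT i)) := by decide +kernel

namespace Frame

variable {G : Type u} [Group G] [Finite G] (F : Frame G)

include F

theorem e_zero : F.e 0 = 1 := mul_eq_left.1 ((F.e_add 0 0).symm.trans (congrArg F.e (ad_facts 0).1))

theorem e_mem (v : Fin 81) : F.e v ∈ F.J := (F.memJ _).2 ⟨v, rfl⟩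

theorem e_sc (k : Fin 3) (v : Fin 81) : F.e (sc k.val v) = F.e v ^ k.val := by
  fin_cases k
  · simpa [(ad_facts v).2.2.2.2.2.1] using F.e_zero
  · simp [(ad_facts v).2.2.2.2.1]
  · rw [pow_two, ← F.e_add, (ad_facts v).2.2.2.2.2.2.1]

theorem e_inv (v : Fin 81) : F.e (ng v) = (F.e v)⁻¹ :=
  eq_inv_of_mul_eq_one_left (by rw [← F.e_add, (ad_facts v).2.2.2.1, F.e_zero])

theorem e_ne {v : Fin 81} (hv : v ≠ 0) : F.e v ≠ 1 := fun h => hv (F.e_inj (h.trans F.e_zero.symm))

theorem mem_line {v : Fin 81} (hv : v ≠ 0) {u : Fin 81} :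
    F.e u ∈ zpowers (F.e v) ↔ u = 0 ∨ u = v ∨ u = ng v := by
  have hv3 : F.e v ^ 3 = 1 := F.hJexp _ (F.e_mem v)
  have hord : orderOf (F.e v) = 3 := orderOf_eq_prime hv3 (F.e_ne hv)
  classical
  rw [mem_zpowers_iff_mem_range_orderOf, hord]
  simp only [Finset.mem_image, Finset.mem_range]
  constructor
  · rintro ⟨j, hj, e⟩
    have : F.e (sc j v) = F.e u := (F.e_sc ⟨j, hj⟩ v).trans e
    have hu := F.e_inj this
    interval_cases j
    · exact Or.inl (hu.symm.trans (ad_facts v).2.2.2.2.2.1)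
    · exact Or.inr (Or.inl (hu.symm.trans (ad_facts v).2.2.2.2.1))
    · exact Or.inr (Or.inr hu.symm)
  · rintro (r | r | r) <;> subst r
    · exact ⟨0, by norm_num, by rw [pow_zero, F.e_zero]⟩
    · exact ⟨1, by norm_num, by rw [pow_one]⟩
    · exact ⟨2, by norm_num, (F.e_sc 2 v).symm⟩

theorem Z_eq_line : F.Z = zpowers (F.e 1) := by
  haveI := fact_three
  refine (eq_of_le_of_card_ge (zpowers_le.2 ((F.eZ _).2 ⟨1, congrArg F.e (ad_facts 1).2.2.2.2.1⟩)) ?_).symm
  rw [F.toData.card_Z, Nat.card_zpowers, orderOf_eq_prime (F.hJexp _ (F.e_mem 1)) (F.e_ne (by decide +kernel))]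

/-- The conjugates of the centre. -/
def ConjZ (X : Subgroup G) : Prop := ∃ g ∈ F.toData.M, F.Z.map (MulAut.conj g).toMonoidHom = X

theorem map_map' (g h : G) (X : Subgroup G) :
    (X.map (MulAut.conj h).toMonoidHom).map (MulAut.conj g).toMonoidHom = X.map (MulAut.conj (g * h)).toMonoidHom := by
  rw [map_map]
  congr 1
  ext x
  simp [mul_assoc]

theorem conjZ_conj {X : Subgroup G} (hX : F.ConjZ X) {g : G} (hg : g ∈ F.toData.M) :
    F.ConjZ (X.map (MulAut.conj g).toMonoidHom) := by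
  obtain ⟨h, hh, rfl⟩ := hX
  exact ⟨g * h, mul_mem hg hh, (F.map_map' g h _).symm⟩

theorem conjZ_lineT (i : Fin 10) : F.ConjZ (zpowers (F.e (lineT i))) := by
  unfold lineT
  split
  · rename_i h
    obtain ⟨m, hm, hmw⟩ := F.wconj
    obtain ⟨q, hq, hqa⟩ := F.uQ ⟨i.val, h⟩
    refine ⟨q * m, mul_mem (F.toData.S_le_M (F.toData.Q_le_S hq)) (F.toData.M₀_le_M hm), ?_⟩
    rw [← F.map_map', hmw, MonoidHom.map_zpowers]
    exact congrArg zpowers (hqa 27)
  · refine ⟨1, one_mem _, ?_⟩
    rw [← F.Z_eq_line]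
    ext x
    simp

theorem stab_Z_norm_S {g : G} (hg : g ∈ F.toData.M) (hgZ : g ∈ F.toData.L) :
    g ∈ normalizer ((F.S : Subgroup G) : Set G) := by
  rw [← F.toData.sup_eq.1, mem_normalizer_iff_map_conj_eq, Subgroup.map_sup,
    mem_normalizer_iff_map_conj_eq.1 hg, mem_normalizer_iff_map_conj_eq.1 (F.toData.L_le_norm_Q hgZ)]

theorem norm_S_stab_Z {g : G} (hg : g ∈ normalizer ((F.S : Subgroup G) : Set G)) : g ∈ F.toData.L := by
  refine mem_normalizer_of_map_mem fun x hx => ?_
  rw [F.hZ] at hx ⊢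
  refine mem_inf.2 ⟨(mem_normalizer_iff.1 hg x).1 hx.1, mem_centralizer_iff.2 fun s hs => ?_⟩
  have hs' : g⁻¹ * s * g ∈ (F.S : Subgroup G) := by
    have := (mem_normalizer_iff.1 (inv_mem hg) s).1 hs
    rwa [inv_inv] at this
  have e := mem_centralizer_iff.1 hx.2 _ hs'
  calc s * (g * x * g⁻¹) = g * ((g⁻¹ * s * g) * x) * g⁻¹ := by group
    _ = g * (x * (g⁻¹ * s * g)) * g⁻¹ := by rw [e]
    _ = g * x * g⁻¹ * s := by group

/-- The image of a conjugate of the Sylow subgroup in the alternating group. -/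
noncomputable def sylImage (g : G) : Subgroup (alternatingGroup (Fin 6)) :=
  (((F.S : Subgroup G).map (MulAut.conj g).toMonoidHom).subgroupOf F.M₀).map F.φ

theorem conj_S_le {g : G} (hg : g ∈ F.toData.M) :
    (F.S : Subgroup G).map (MulAut.conj g).toMonoidHom ≤ F.M₀ := by
  rintro _ ⟨s, hs, rfl⟩
  obtain ⟨k, hk⟩ := F.toData.pow_three_mem hs
  refine F.toData.mem_M₀ (mul_mem (mul_mem hg (F.toData.S_le_M hs)) (inv_mem hg)) (k := k) ?_
  rw [← hk]
  exact orderOf_injective (MulAut.conj g).toMonoidHom (MulAut.conj g).injective s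

theorem J_le_conj_S {g : G} (hg : g ∈ F.toData.M) : F.J ≤ (F.S : Subgroup G).map (MulAut.conj g).toMonoidHom :=
  (mem_normalizer_iff_map_conj_eq.1 hg).ge.trans (map_mono F.hJS)

theorem sylImage_card {g : G} (hg : g ∈ F.toData.M) : Nat.card (F.sylImage g) = 9 := by
  obtain ⟨T, hTd⟩ : ∃ T, T = (F.S : Subgroup G).map (MulAut.conj g).toMonoidHom := ⟨_, rfl⟩
  have hle : T ≤ F.M₀ := hTd ▸ F.conj_S_le hg
  have hJT : F.J ≤ T := hTd ▸ F.J_le_conj_S hg
  have hcard : Nat.card T = 729 := by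
    rw [hTd, Nat.card_congr (Subgroup.equivMapOfInjective _ _ (MulAut.conj g).injective).toEquiv.symm, F.toData.card_S]
  unfold sylImage
  rw [← hTd]
  let f : T →* alternatingGroup (Fin 6) := F.φ.comp (Subgroup.inclusion hle)
  have hrange : f.range = (T.subgroupOf F.M₀).map F.φ := by
    rw [MonoidHom.range_comp, Subgroup.inclusion_range]
  have hker : f.ker = F.J.subgroupOf T := by
    ext x
    rw [MonoidHom.mem_ker, mem_subgroupOf]
    exact F.toData.mem_ker
  have h := card_of_hom f.rangeRestrict f.rangeRestrict_surjective hJT (by rw [MonoidHom.ker_rangeRestrict, hker])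
  rw [hcard, F.hJcard, hrange] at h
  omega

theorem conjZ_eq {g h : G} (hg : g ∈ F.toData.M) (hh : h ∈ F.toData.M) (he : F.sylImage g = F.sylImage h) :
    F.Z.map (MulAut.conj g).toMonoidHom = F.Z.map (MulAut.conj h).toMonoidHom := by
  have hS : ∀ {a b : G}, a ∈ F.toData.M → b ∈ F.toData.M → F.sylImage a = F.sylImage b →
      (F.S : Subgroup G).map (MulAut.conj a).toMonoidHom ≤ (F.S : Subgroup G).map (MulAut.conj b).toMonoidHom := by
    intro a b ha hb e x hx
    have hm : F.φ ⟨x, F.conj_S_le ha hx⟩ ∈ F.sylImage b := e ▸ mem_map_of_mem F.φ (mem_subgroupOf.2 hx)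
    obtain ⟨y, hy, hyx⟩ := hm
    have hJ' : (y : G)⁻¹ * x ∈ F.J :=
      F.toData.mem_ker.1 (show F.φ (y⁻¹ * ⟨x, F.conj_S_le ha hx⟩) = 1 by rw [map_mul, map_inv, hyx, inv_mul_cancel])
    have := mul_mem (mem_subgroupOf.1 hy) (F.J_le_conj_S hb hJ')
    rwa [mul_inv_cancel_left] at this
  have heq := le_antisymm (hS hg hh he) (hS hh hg he.symm)
  have hn : h⁻¹ * g ∈ normalizer ((F.S : Subgroup G) : Set G) := by
    rw [mem_normalizer_iff_map_conj_eq]
    show Subgroup.map (MulAut.conj (h⁻¹ * g)).toMonoidHom _ = _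
    rw [← F.map_map', heq, F.map_map', inv_mul_cancel]
    ext x
    simp
  have hZ := mem_normalizer_iff_map_conj_eq.1 (F.norm_S_stab_Z hn)
  calc F.Z.map (MulAut.conj g).toMonoidHom = (F.Z.map (MulAut.conj (h⁻¹ * g)).toMonoidHom).map (MulAut.conj h).toMonoidHom := by
        rw [F.map_map', mul_inv_cancel_left]
    _ = _ := congrArg (fun X : Subgroup G => X.map (MulAut.conj h).toMonoidHom) hZ

theorem conjZ_classify {X : Subgroup G} (hX : F.ConjZ X) : ∃ i, X = zpowers (F.e (lineT i)) := by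
  classical
  haveI := fact_three
  by_contra hcon
  push Not at hcon
  let fam : Option (Fin 10) → Subgroup G := fun o => o.elim X fun i => zpowers (F.e (lineT i))
  have hfam : ∀ o, F.ConjZ (fam o) := fun o => by cases o with
    | none => exact hX
    | some i => exact F.conjZ_lineT i
  choose gg hgM hgX using hfam
  have hsyl : ∀ o, ∃ P : Sylow 3 (alternatingGroup (Fin 6)), (P : Subgroup (alternatingGroup (Fin 6))) = F.sylImage (gg o) := by
    intro o
    have h9 := F.sylImage_card (hgM o)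
    obtain ⟨P, hP⟩ := (IsPGroup.of_card (p := 3) (n := 2) (h9.trans (by norm_num))).exists_le_sylow
    refine ⟨P, (eq_of_le_of_card_ge hP ?_).symm⟩
    obtain ⟨n, hn⟩ := P.2.exists_card_eq
    have hd := card_subgroup_dvd_card (P : Subgroup (alternatingGroup (Fin 6)))
    rw [hn, nat_card_alternatingGroup, Nat.card_eq_fintype_card, Fintype.card_fin] at hd
    have : n ≤ 2 := by
      by_contra hc
      have := (pow_dvd_pow 3 (show 3 ≤ n by omega)).trans hd
      norm_num [Nat.factorial] at this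
    rw [hn, h9]
    exact (Nat.pow_le_pow_right (show 0 < 3 by norm_num) this).trans (le_of_eq (by norm_num))
  choose P hP using hsyl
  have hfinj : Function.Injective fam := by
    rintro (_ | i) (_ | j) h
    · rfl
    · exact absurd h (hcon j)
    · exact absurd h.symm (hcon i)
    · have h' : zpowers (F.e (lineT i)) = zpowers (F.e (lineT j)) := h
      have hm : F.e (lineT i) ∈ zpowers (F.e (lineT j)) := h' ▸ mem_zpowers _
      rcases (F.mem_line (lineT_sing j).1.1).1 hm with r | r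
      · exact absurd r (lineT_sing i).1.1
      · exact congrArg some (lineT_facts.1 i j r)
  have hinj : Function.Injective P := by
    intro o o' h
    refine hfinj ?_
    rw [← hgX o, ← hgX o']
    exact F.conjZ_eq (hgM o) (hgM o') (by rw [← hP, ← hP, h])
  have := Nat.card_le_card_of_injective P hinj
  rw [Nat.card_eq_fintype_card, Fintype.card_option, Fintype.card_fin] at this
  have := six_sylows.1
  omega

/-- Conjugation in the normaliser preserves singular vectors. -/
theorem sing_conj {g : G} (hg : g ∈ F.toData.M) {v u : Fin 81} (hv : Sing v) (hu : g * F.e v * g⁻¹ = F.e u) :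
    Sing u := by
  obtain ⟨i, hi⟩ := lineT_facts.2 v hv
  obtain ⟨j, hj⟩ := F.conjZ_classify (F.conjZ_conj (F.conjZ_lineT i) hg)
  have hm : F.e v ∈ zpowers (F.e (lineT i)) :=
    (F.mem_line (lineT_sing i).1.1).2 (hi.elim (Or.inr ∘ Or.inl) (Or.inr ∘ Or.inr))
  have hm' : F.e u ∈ zpowers (F.e (lineT j)) := hu ▸ hj ▸ mem_map_of_mem _ hm
  rcases (F.mem_line (lineT_sing j).1.1).1 hm' with r | r | r
  · exfalso
    rw [r, F.e_zero] at hu
    exact F.e_ne hv.1 (conj_eq_one_iff.1 hu)
  · exact r ▸ (lineT_sing j).1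
  · exact r ▸ (lineT_sing j).2

end Frame

end Cfsg.Lib.McLLocal
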