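import Cfsg.Agent.LocalThree.McLLocal.Model
import Mathlib.Data.List.GetD

/-!
Computations on the stabiliser of a pair of singular points.
-/

set_option autoImplicit false
set_option maxRecDepth 100000
set_option synthInstance.maxSize 4096

namespace Cfsg.Lib.McLLocal

/-- The possible images of the two points. -/
def pairT : List (ℕ × ℕ) := [(1, 27), (1, 54), (2, 27), (2, 54), (27, 1), (27, 2), (54, 1), (54, 2)]

/-- The first image. -/
def pairZ (i : Fin 8) : Fin 81 := Fin.ofNat 81 (pairT.getD i.val (0, 0)).1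

/-- The second image. -/
def pairW (i : Fin 8) : Fin 81 := Fin.ofNat 81 (pairT.getD i.val (0, 0)).2

theorem pair_cases : ∀ a b : Fin 81, ((a = 1 ∨ a = 2) ∧ (b = 27 ∨ b = 54)) ∨ ((a = 27 ∨ a = 54) ∧ (b = 1 ∨ b = 2)) →
    ∃ i, pairZ i = a ∧ pairW i = b := by decide +kernel

/-- A possible image of a middle vector. -/
def Cand (i : Fin 8) (c : Fin 81) : Prop :=
  Sing (ad (ad (sc 1 (pairZ i)) c) (sc 2 (pairW i))) ∧ Sing (ad (ad (sc 2 (pairZ i)) c) (sc 1 (pairW i))) ∧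
    Sing (ad (ad (sc 1 (pairZ i)) (sc 2 c)) (sc 2 (pairW i)))

instance (i : Fin 8) (c : Fin 81) : Decidable (Cand i c) := inferInstanceAs (Decidable (_ ∧ _ ∧ _))

theorem cand_needed : Sing (ad (ad (sc 1 1) 3) (sc 2 27)) ∧ Sing (ad (ad (sc 2 1) 3) (sc 1 27)) ∧
    Sing (ad (ad (sc 1 1) (sc 2 3)) (sc 2 27)) ∧ Sing (ad (ad (sc 1 1) 9) (sc 2 27)) ∧
    Sing (ad (ad (sc 2 1) 9) (sc 1 27)) ∧ Sing (ad (ad (sc 1 1) (sc 2 9)) (sc 2 27)) := by decide +kernel

theorem pair_class : ∀ i : Fin 8, ∀ a : Fin 81, Cand i a → ∀ b : Fin 81, Cand i b →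
    (∀ v, Sing v → Sing (lin4 (pairZ i) a b (pairW i) v)) →
      ∃ h : Fin 64, colZ h = pairZ i ∧ colA h = a ∧ colB h = b ∧ colW h = pairW i := by decide +kernel

/-- The basis. -/
def basis4 : List (Fin 81) := [1, 3, 9, 27]

/-- The order is at most five, tested on the basis. -/
def OrdOK (f : Fin 81 → Fin 81) : Prop :=
  (∀ v ∈ basis4, f (f (f v)) = v) ∨ (∀ v ∈ basis4, f (f (f (f v))) = v) ∨ ∀ v ∈ basis4, f (f (f (f (f v)))) = v

instance (f : Fin 81 → Fin 81) : Decidable (OrdOK f) := inferInstanceAs (Decidable (_ ∨ _ ∨ _))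

/-- A product with a member of the radical. -/
def hu (h : Fin 64) (p : Fin 9) (v : Fin 81) : Fin 81 := actH h (actU p v)

theorem odd_class : ∀ h : Fin 64, h.val % 2 = 1 → (∀ p, OrdOK (hu h p)) →
    h ∈ ([35, 41, 51, 57] : List (Fin 64)) := by decide +kernel

theorem even_class : ∀ h : Fin 64, h.val % 2 = 0 → (∀ p, OrdOK (hu h p)) →
    ∀ s ∈ ([35, 41, 51, 57] : List (Fin 64)), (∀ p, OrdOK (hu (mulH h s) p)) →
      h ∈ ([0, 10, 16, 26] : List (Fin 64)) := by decide +kernel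

theorem quarter_class : ∀ h ∈ ([0, 10, 16, 26] : List (Fin 64)), h ≠ 10 → h ≠ 26 → mulH h h = 0 := by decide +kernel

theorem base_closed : mulH 10 10 = 16 ∧ mulH 26 26 = 16 ∧ mulH 10 16 = 26 ∧ mulH 26 16 = 10 ∧
    (∀ s ∈ ([35, 41, 51, 57] : List (Fin 64)), ∀ h ∈ ([35, 41, 51, 57] : List (Fin 64)),
      h = s ∨ h = mulH 10 s ∨ h = mulH 16 s ∨ h = mulH 26 s) ∧
    (∀ h : Fin 64, mulH 16 h = mulH h 16) ∧ mulH 16 16 = 0 := by decide +kernel

theorem hu_zero : ∀ h : Fin 64, ∀ v, hu h 0 v = actH h v := by decide +kernel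

end Cfsg.Lib.McLLocal
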