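import Cfsg.Agent.LocalThree.McLLocal.Orbit
import Cfsg.Agent.LocalThree.McLLocal.PairData

/-!
Actions of the normaliser on the coordinates; the part fixing a hyperbolic pair of points and its central involution.
-/

set_option autoImplicit false
set_option linter.unusedSectionVars false
set_option maxRecDepth 100000
set_option synthInstance.maxSize 4096

namespace Cfsg.Lib.McLLocal

open Subgroup
open scoped Pointwise

universe u

theorem pure_vectors : ∀ k : Fin 3, (sc k.val (1 : Fin 81) = 0 ∨ sc k.val (1 : Fin 81) = 1 ∨ sc k.val (1 : Fin 81) = 2) := by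
  decide +kernel

theorem named_vectors : (1 : Fin 81) ≠ 0 ∧ (27 : Fin 81) ≠ 0 ∧ ng (1 : Fin 81) = 2 ∧ ng (27 : Fin 81) = 54 ∧
    Sing (1 : Fin 81) ∧ Sing (27 : Fin 81) ∧ (∀ p : Fin 9, actU p 1 = 1 ∧ actU p 2 = 2) ∧
    (∀ h : Fin 64, actH h 1 = colZ h ∧ actH h 3 = colA h ∧ actH h 9 = colB h ∧ actH h 27 = colW h) := by decide +kernel

namespace Frame

variable {G : Type u} [Group G] [Finite G] (F : Frame G)

include F

/-- The action in coordinates. -/
def Acts (g : G) (f : Fin 81 → Fin 81) : Prop := ∀ v, g * F.e v * g⁻¹ = F.e (f v)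

theorem acts_unique {g : G} {f f' : Fin 81 → Fin 81} (h : F.Acts g f) (h' : F.Acts g f') : f = f' :=
  funext fun v => F.e_inj ((h v).symm.trans (h' v))

theorem acts_mem {g : G} {f : Fin 81 → Fin 81} (h : F.Acts g f) : g ∈ F.toData.M :=
  mem_normalizer_of_map_mem fun x hx => by
    obtain ⟨v, rfl⟩ := (F.memJ x).1 hx
    rw [h v]
    exact F.e_mem _

theorem exists_acts {g : G} (hg : g ∈ F.toData.M) : ∃ f, F.Acts g f := by
  choose f hf using fun v => (F.memJ _).1 ((mem_normalizer_iff.1 hg (F.e v)).1 (F.e_mem v))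
  exact ⟨f, fun v => (hf v).symm⟩

theorem acts_mul {g g' : G} {f f' : Fin 81 → Fin 81} (h : F.Acts g f) (h' : F.Acts g' f') :
    F.Acts (g * g') fun v => f (f' v) := fun v => by
  rw [show g * g' * F.e v * (g * g')⁻¹ = g * (g' * F.e v * g'⁻¹) * g⁻¹ by group, h', h]

theorem acts_add {g : G} {f : Fin 81 → Fin 81} (h : F.Acts g f) (v w : Fin 81) : f (ad v w) = ad (f v) (f w) :=
  F.e_inj (by rw [← h, F.e_add, F.e_add, ← h, ← h]; group)

theorem acts_sc {g : G} {f : Fin 81 → Fin 81} (h : F.Acts g f) (k : Fin 3) (v : Fin 81) :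
    f (sc k.val v) = sc k.val (f v) :=
  F.e_inj (by rw [← h, F.e_sc, F.e_sc, ← h, conj_pow])

theorem acts_lin {g : G} {f : Fin 81 → Fin 81} (h : F.Acts g f) (v : Fin 81) :
    f v = lin4 (f 1) (f 3) (f 9) (f 27) v := by
  conv_lhs => rw [(ad_facts v).2.2.2.2.2.2.2]
  unfold lin4
  rw [F.acts_add h, F.acts_add h, F.acts_add h]
  have hs : ∀ (i : Fin 4) c, f (sc (dg v i.val) c) = sc (dg v i.val) (f c) :=
    fun i c => F.acts_sc h ⟨_, code_small v i⟩ c
  erw [hs 0, hs 1, hs 2, hs 3]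
  rfl

theorem acts_one : F.Acts 1 id := fun v => by simp

theorem acts_J {j : G} (hj : j ∈ F.J) : F.Acts j id := fun v => by
  rw [F.toData.J_comm hj (F.e_mem v), mul_inv_cancel_right]
  rfl

theorem ker {g : G} (h : F.Acts g id) : g ∈ F.J := by
  rw [← F.toData.cent_J]
  refine mem_centralizer_iff.2 fun x hx => ?_
  obtain ⟨v, rfl⟩ := (F.memJ x).1 hx
  exact (mul_inv_eq_iff_eq_mul.1 (h v)).symm

theorem sing_acts {g : G} {f : Fin 81 → Fin 81} (h : F.Acts g f) {v : Fin 81} (hv : Sing v) : Sing (f v) :=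
  F.sing_conj (F.acts_mem h) hv (h v)

theorem line_image {g : G} {f : Fin 81 → Fin 81} (h : F.Acts g f) {a b : Fin 81} (hb : b ≠ 0)
    (e : (zpowers (F.e a)).map (MulAut.conj g).toMonoidHom = zpowers (F.e b)) (ha : a ≠ 0) : f a = b ∨ f a = ng b := by
  have hm : F.e (f a) ∈ zpowers (F.e b) := e ▸ ⟨F.e a, mem_zpowers _, h a⟩
  rcases (F.mem_line hb).1 hm with r | r
  · exfalso
    have := h a
    rw [r, F.e_zero] at this
    exact F.e_ne ha (conj_eq_one_iff.1 this)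
  · exact r

/-- An element preserving the pair of points acts by a member of the code group. -/
theorem pair_acts {g : G} {f : Fin 81 → Fin 81} (h : F.Acts g f)
    (hp : ((f 1 = 1 ∨ f 1 = 2) ∧ (f 27 = 27 ∨ f 27 = 54)) ∨ ((f 1 = 27 ∨ f 1 = 54) ∧ (f 27 = 1 ∨ f 27 = 2))) :
    ∃ k, F.Acts g (actH k) := by
  obtain ⟨i, hi1, hi2⟩ := pair_cases _ _ hp
  have hl := F.acts_lin h
  have hc : ∀ c : Fin 81, Sing (ad (ad (sc 1 1) c) (sc 2 27)) → Sing (ad (ad (sc 2 1) c) (sc 1 27)) →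
      Sing (ad (ad (sc 1 1) (sc 2 c)) (sc 2 27)) → Cand i (f c) := by
    intro c h1 h2 h3
    have e : ∀ a b : Fin 3, ∀ x, f (ad (ad (sc a.val 1) x) (sc b.val 27)) =
        ad (ad (sc a.val (pairZ i)) (f x)) (sc b.val (pairW i)) := fun a b x => by
      rw [F.acts_add h, F.acts_add h, F.acts_sc h, F.acts_sc h, hi1, hi2]
    refine ⟨e 1 2 c ▸ F.sing_acts h h1, e 2 1 c ▸ F.sing_acts h h2, ?_⟩
    have := F.sing_acts h h3
    have e' : f (ad (ad (sc 1 1) (sc 2 c)) (sc 2 27)) = ad (ad (sc 1 (pairZ i)) (f (sc 2 c))) (sc 2 (pairW i)) :=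
      e 1 2 (sc 2 c)
    rw [e', show f (sc 2 c) = sc 2 (f c) from F.acts_sc h 2 c] at this
    exact this
  obtain ⟨n1, n2, n3, n4, n5, n6⟩ := cand_needed
  obtain ⟨k, k1, k2, k3, k4⟩ := pair_class i (f 3) (hc 3 n1 n2 n3) (f 9) (hc 9 n4 n5 n6) fun v hv => by
    rw [hi1, hi2, ← hl]
    exact F.sing_acts h hv
  refine ⟨k, fun v => ?_⟩
  rw [h v, hl v]
  show _ = F.e (lin4 (colZ k) (colA k) (colB k) (colW k) v)
  rw [k1, k2, k3, k4, hi1, hi2]

theorem acts_H_mul {g g' : G} {m n : Fin 64} (h : F.Acts g (actH m)) (h' : F.Acts g' (actH n)) :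
    F.Acts (g * g') (actH (mulH m n)) := by
  have e := F.acts_mul h h'
  intro v
  rw [e v]
  refine congrArg F.e ?_
  show actH m (actH n v) = _
  have el := F.acts_lin e v
  beta_reduce at el
  rw [el]
  obtain ⟨c1, c2, c3, c4⟩ := mulH_cols m n
  obtain ⟨a1, a3, a9, a27⟩ := named_vectors.2.2.2.2.2.2.2 n
  show lin4 (actH m (actH n 1)) (actH m (actH n 3)) (actH m (actH n 9)) (actH m (actH n 27)) v = _
  rw [a1, a3, a9, a27, c1, c2, c3, c4]
  rfl

theorem acts_zero {g : G} (h : F.Acts g (actH 0)) : g ∈ F.J := F.ker fun v => by rw [h v, actH_zero]; rfl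

theorem M₀_ord {g : G} {f : Fin 81 → Fin 81} (hg : g ∈ F.M₀) (h : F.Acts g f) : OrdOK f := by
  rcases six_orders ((F.φ ⟨g, hg⟩ : alternatingGroup (Fin 6)) : Equiv.Perm (Fin 6)) (F.φ ⟨g, hg⟩).2 with e | e | e
  all_goals
    have e' : F.φ ⟨g, hg⟩ ^ _ = 1 := Subtype.ext e
    rw [← map_pow, F.toData.mem_ker] at e'
    have hm := F.acts_J e'
  · refine Or.inl fun v _ => ?_
    have := F.acts_unique (F.acts_mul (F.acts_mul h h) h) (by simpa [pow_succ] using hm)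
    exact congrFun this v
  · refine Or.inr (Or.inl fun v _ => ?_)
    have := F.acts_unique (F.acts_mul (F.acts_mul (F.acts_mul h h) h) h) (by simpa [pow_succ] using hm)
    exact congrFun this v
  · refine Or.inr (Or.inr fun v _ => ?_)
    have := F.acts_unique (F.acts_mul (F.acts_mul (F.acts_mul (F.acts_mul h h) h) h) h) (by simpa [pow_succ] using hm)
    exact congrFun this v

theorem M₀_hu {g : G} {k : Fin 64} (hg : g ∈ F.M₀) (h : F.Acts g (actH k)) : ∀ p, OrdOK (hu k p) := fun p => by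
  obtain ⟨q, hq, hqa⟩ := F.uQ p
  exact F.M₀_ord (f := hu k p) (mul_mem hg (F.toData.Q_le_M₀ hq)) fun v => (F.acts_mul h hqa v).trans rfl

theorem Z_line_moved {g : G} (hg : g ∈ F.toData.M) :
    g ∈ F.toData.L ∨ ∃ p : Fin 9, (zpowers (F.e 1)).map (MulAut.conj g).toMonoidHom = zpowers (F.e (actU p 27)) := by
  obtain ⟨i, hi⟩ := F.conjZ_classify
    (F.conjZ_conj (X := zpowers (F.e 1)) ⟨1, one_mem _, by rw [← F.Z_eq_line]; ext; simp⟩ hg)
  by_cases h : i.val < 9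
  · refine Or.inr ⟨⟨i.val, h⟩, ?_⟩
    rw [hi]
    simp [lineT, h]
  · refine Or.inl (mem_normalizer_iff_map_conj_eq.2 ?_)
    rw [F.Z_eq_line]
    refine hi.trans ?_
    simp [lineT, h]

/-- An element exchanging the two points. -/
theorem exists_swap : ∃ s ∈ F.M₀, ∃ k ∈ ([35, 41, 51, 57] : List (Fin 64)), F.Acts s (actH k) := by
  obtain ⟨n1, n27, n2, n54, -, -, nU, -⟩ := named_vectors
  obtain ⟨m, hm, hmw⟩ := F.wconj
  have hmM := F.toData.M₀_le_M hm
  rcases F.Z_line_moved (inv_mem hmM) with hL | ⟨p, hp⟩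
  · exfalso
    have h := mem_normalizer_iff_map_conj_eq.1 (show m ∈ F.toData.L by simpa using inv_mem hL)
    have e : zpowers (F.e 27) = zpowers (F.e 1) := by rw [← hmw, ← F.Z_eq_line]; exact h
    have hmem : F.e 27 ∈ zpowers (F.e 1) := e ▸ mem_zpowers _
    rcases (F.mem_line n1).1 hmem with r | r | r <;> exact absurd r (by decide +kernel)
  obtain ⟨q, hq, hqa⟩ := F.uQ p
  have hg : m * q ∈ F.M₀ := mul_mem hm (F.toData.Q_le_M₀ hq)
  obtain ⟨f, hf⟩ := F.exists_acts (F.toData.M₀_le_M hg)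
  have h1 : (zpowers (F.e 1)).map (MulAut.conj (m * q)).toMonoidHom = zpowers (F.e 27) := by
    rw [← F.map_map', MonoidHom.map_zpowers, MonoidHom.map_zpowers]
    have : (MulAut.conj q).toMonoidHom (F.e 1) = F.e 1 := (hqa 1).trans (congrArg F.e (nU p).1)
    rw [this, ← hmw, F.Z_eq_line, MonoidHom.map_zpowers]
  have h27 : (zpowers (F.e 27)).map (MulAut.conj (m * q)).toMonoidHom = zpowers (F.e 1) := by
    rw [← F.map_map', MonoidHom.map_zpowers _ (F.e 27),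
      show (MulAut.conj q).toMonoidHom (F.e 27) = F.e (actU p 27) from hqa 27, ← hp, F.map_map', mul_inv_cancel]
    ext x
    simp
  have a1 := F.line_image hf n27 h1 n1
  have a27 := F.line_image hf n1 h27 n27
  rw [n54] at a1
  rw [n2] at a27
  obtain ⟨k, hk⟩ := F.pair_acts hf (Or.inr ⟨a1, a27⟩)
  refine ⟨_, hg, k, odd_class k ?_ (F.M₀_hu hg hk), hk⟩
  have e := congrFun (F.acts_unique hk hf) 1
  rw [(named_vectors.2.2.2.2.2.2.2 k).1] at e
  exact (show ∀ k : Fin 64, colZ k = 27 ∨ colZ k = 54 → k.val % 2 = 1 by decide +kernel) k (e ▸ a1)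

theorem even_of_fix {k : Fin 64} (h : colZ k = 1 ∨ colZ k = 2) : k.val % 2 = 0 :=
  (show ∀ k : Fin 64, colZ k = 1 ∨ colZ k = 2 → k.val % 2 = 0 by decide +kernel) k h

/-- An element of order four modulo the abelian subgroup fixing both points. -/
theorem exists_quarter : ∃ r ∈ F.M₀, F.Acts r (actH 10) ∨ F.Acts r (actH 26) := by
  obtain ⟨n1, n27, n2, n54, -, -, nU, -⟩ := named_vectors
  haveI := fact_three
  have hSM := F.toData.S_le_M₀
  obtain ⟨P, hP⟩ : ∃ P : Sylow 3 (alternatingGroup (Fin 6)),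
      ((F.S : Subgroup G).subgroupOf F.M₀).map F.φ ≤ P :=
    (((F.S.2.of_equiv (subgroupOfEquivOfLe hSM).symm)).map _).exists_le_sylow
  have h9 : Nat.card (((F.S : Subgroup G).subgroupOf F.M₀).map F.φ) = 9 := by
    have h := F.sylImage_card (one_mem F.toData.M)
    unfold sylImage at h
    rwa [show (F.S : Subgroup G).map (MulAut.conj (1 : G)).toMonoidHom = (F.S : Subgroup G) by ext x; simp] at h
  have hPeq : ((F.S : Subgroup G).subgroupOf F.M₀).map F.φ = (P : Subgroup (alternatingGroup (Fin 6))) := by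
    refine eq_of_le_of_card_ge hP ?_
    obtain ⟨n, hn⟩ := P.2.exists_card_eq
    have hd := card_subgroup_dvd_card (P : Subgroup (alternatingGroup (Fin 6)))
    rw [hn, nat_card_alternatingGroup, Nat.card_eq_fintype_card, Fintype.card_fin] at hd
    have : n ≤ 2 := by
      by_contra hc
      have := (pow_dvd_pow 3 (show 3 ≤ n by omega)).trans hd
      norm_num [Nat.factorial] at this
    rw [hn, h9]
    exact (Nat.pow_le_pow_right (show 0 < 3 by norm_num) this).trans (le_of_eq (by norm_num))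
  obtain ⟨r, hrN, hr4, hr2⟩ := six_sylows.2 P
  obtain ⟨⟨g, hg⟩, hgr⟩ := F.φ_surj r
  have hgS : g ∈ normalizer ((F.S : Subgroup G) : Set G) := by
    refine mem_normalizer_of_map_mem fun x hx => ?_
    have h1 : F.φ ⟨x, hSM hx⟩ ∈ (P : Subgroup (alternatingGroup (Fin 6))) :=
      hP (mem_map_of_mem F.φ (mem_subgroupOf.2 hx))
    have h2 := (mem_normalizer_iff.1 hrN _).1 h1
    rw [← hgr, ← map_inv, ← map_mul, ← map_mul, ← hPeq] at h2
    obtain ⟨y, hy, hye⟩ := h2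
    have hJ' : (y : G)⁻¹ * (g * x * g⁻¹) ∈ F.J :=
      F.toData.mem_ker.1 (show F.φ (y⁻¹ * (⟨g, hg⟩ * ⟨x, hSM hx⟩ * (⟨g, hg⟩ : F.M₀)⁻¹)) = 1 by
        rw [map_mul, map_inv, hye, inv_mul_cancel])
    have := mul_mem (mem_subgroupOf.1 hy) (F.hJS hJ')
    rwa [mul_inv_cancel_left] at this
  have hgM := F.toData.M₀_le_M hg
  have hgL := F.norm_S_stab_Z hgS
  obtain ⟨i, hi⟩ := F.conjZ_classify (F.conjZ_conj (F.conjZ_lineT ⟨0, by norm_num⟩) hgM)
  have hline0 : lineT ⟨0, by norm_num⟩ = (27 : Fin 81) := by decide +kernel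
  rw [hline0] at hi
  by_cases hi9 : i.val < 9
  swap
  · exfalso
    have e1 : zpowers (F.e (lineT i)) = F.Z := by rw [F.Z_eq_line]; simp [lineT, hi9]
    have h := mem_normalizer_iff_map_conj_eq.1 (inv_mem hgL)
    have e2 : zpowers (F.e 27) = F.Z := by
      rw [← h, ← e1, ← hi]
      show _ = Subgroup.map (MulAut.conj g⁻¹).toMonoidHom _
      rw [F.map_map', inv_mul_cancel]
      ext x
      simp
    have hmem : F.e 27 ∈ zpowers (F.e 1) := by rw [← F.Z_eq_line, ← e2]; exact mem_zpowers _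
    rcases (F.mem_line n1).1 hmem with r | r | r <;> exact absurd r (by decide +kernel)
  obtain ⟨q, hq, hqa⟩ := F.uQ ⟨i.val, hi9⟩
  have hg' : q⁻¹ * g ∈ F.M₀ := mul_mem (inv_mem (F.toData.Q_le_M₀ hq)) hg
  obtain ⟨f, hf⟩ := F.exists_acts (F.toData.M₀_le_M hg')
  have hq1 : (zpowers (F.e 1)).map (MulAut.conj (q⁻¹ * g)).toMonoidHom = zpowers (F.e 1) := by
    rw [← F.Z_eq_line]
    exact mem_normalizer_iff_map_conj_eq.1 (mul_mem (inv_mem (F.toData.S_le_L (F.toData.Q_le_S hq))) hgL)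
  have hq27 : (zpowers (F.e 27)).map (MulAut.conj (q⁻¹ * g)).toMonoidHom = zpowers (F.e 27) := by
    rw [← F.map_map', hi, show lineT i = actU ⟨i.val, hi9⟩ 27 by simp [lineT, hi9], ← hqa 27,
      show zpowers (q * F.e 27 * q⁻¹) = (zpowers (F.e 27)).map (MulAut.conj q).toMonoidHom by
        rw [MonoidHom.map_zpowers]; rfl, F.map_map', inv_mul_cancel]
    ext x
    simp
  have a1 := F.line_image hf n1 hq1 n1
  have a27 := F.line_image hf n27 hq27 n27
  rw [n2] at a1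
  rw [n54] at a27
  obtain ⟨k, hk⟩ := F.pair_acts hf (Or.inl ⟨a1, a27⟩)
  have e := congrFun (F.acts_unique hk hf) 1
  rw [(named_vectors.2.2.2.2.2.2.2 k).1] at e
  obtain ⟨s, hs, k', hk', hsk⟩ := F.exists_swap
  have hk4 := even_class k (F.even_of_fix (e ▸ a1)) (F.M₀_hu hg' hk) k' hk' (F.M₀_hu (mul_mem hg' hs) (F.acts_H_mul hk hsk))
  refine ⟨_, hg', ?_⟩
  by_contra hcon
  push Not at hcon
  have h0 := quarter_class k hk4 (fun r => hcon.1 (r ▸ hk)) (fun r => hcon.2 (r ▸ hk))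
  have hJ2 : (q⁻¹ * g) * (q⁻¹ * g) ∈ F.J := F.acts_zero (h0 ▸ F.acts_H_mul hk hk)
  -- the image squares into the Sylow subgroup
  obtain ⟨u, hu⟩ : ∃ u, u = F.φ ⟨q⁻¹, inv_mem (F.toData.Q_le_M₀ hq)⟩ := ⟨_, rfl⟩
  have huP : u ∈ (P : Subgroup (alternatingGroup (Fin 6))) :=
    hu ▸ hP (mem_map_of_mem F.φ (mem_subgroupOf.2 (inv_mem (F.toData.Q_le_S hq))))
  have hsq : u * r * (u * r) = 1 := by
    have h2 : F.φ (⟨q⁻¹ * g, hg'⟩ * ⟨q⁻¹ * g, hg'⟩) = 1 := F.toData.mem_ker.2 hJ2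
    rw [map_mul, show (⟨q⁻¹ * g, hg'⟩ : F.M₀) = ⟨q⁻¹, inv_mem (F.toData.Q_le_M₀ hq)⟩ * ⟨g, hg⟩ from rfl, map_mul,
      hgr, ← hu] at h2
    exact h2
  have hr2P : r ^ 2 ∈ (P : Subgroup (alternatingGroup (Fin 6))) := by
    have h3 : r ^ 2 = (u * (r * u * r⁻¹))⁻¹ * (u * r * (u * r)) := by rw [pow_two]; group
    rw [h3, hsq, mul_one]
    exact inv_mem (mul_mem huP ((mem_normalizer_iff.1 hrN u).1 huP))
  have h1 : (r ^ 2) ^ 2 = 1 := by rw [← pow_mul]; exact hr4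
  obtain ⟨j, hj⟩ := P.2 ⟨_, hr2P⟩
  have h3 : (r ^ 2) ^ 3 ^ j = 1 := congrArg Subtype.val hj
  have := pow_gcd_eq_one.mpr ⟨h1, h3⟩
  rw [(Nat.Coprime.pow_right j (show Nat.Coprime 2 3 by decide)).gcd_eq_one, pow_one] at this
  exact hr2 this

/-- The eight actions of the pair stabiliser inside the normal subgroup. -/
theorem exists_M₀ : ∀ k ∈ ([0, 10, 16, 26, 35, 41, 51, 57] : List (Fin 64)), ∃ g ∈ F.M₀, F.Acts g (actH k) := by
  obtain ⟨r, hr, hk⟩ := F.exists_quarter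
  obtain ⟨s, hs, k', hk', hsk⟩ := F.exists_swap
  obtain ⟨e10, e26, e1016, e2616, hcos, -⟩ := base_closed
  obtain ⟨r16, hr16, h16⟩ : ∃ g ∈ F.M₀, F.Acts g (actH 16) := by
    rcases hk with h | h
    · exact ⟨r * r, mul_mem hr hr, e10 ▸ F.acts_H_mul h h⟩
    · exact ⟨r * r, mul_mem hr hr, e26 ▸ F.acts_H_mul h h⟩
  have both : (∃ g ∈ F.M₀, F.Acts g (actH 10)) ∧ ∃ g ∈ F.M₀, F.Acts g (actH 26) := by
    rcases hk with h | h
    · exact ⟨⟨r, hr, h⟩, r * r16, mul_mem hr hr16, e1016 ▸ F.acts_H_mul h h16⟩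
    · exact ⟨⟨r * r16, mul_mem hr hr16, e2616 ▸ F.acts_H_mul h h16⟩, r, hr, h⟩
  obtain ⟨⟨a, ha, ha10⟩, b, hb, hb26⟩ := both
  have swapCase : ∀ h ∈ ([35, 41, 51, 57] : List (Fin 64)), ∃ g ∈ F.M₀, F.Acts g (actH h) := by
    intro h hh
    rcases hcos k' hk' h hh with e | e | e | e
    · exact ⟨s, hs, e ▸ hsk⟩
    · exact ⟨a * s, mul_mem ha hs, e ▸ F.acts_H_mul ha10 hsk⟩
    · exact ⟨r16 * s, mul_mem hr16 hs, e ▸ F.acts_H_mul h16 hsk⟩
    · exact ⟨b * s, mul_mem hb hs, e ▸ F.acts_H_mul hb26 hsk⟩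
  intro k hk
  fin_cases hk
  · exact ⟨1, one_mem _, fun v => by rw [F.acts_one v, actH_zero]; rfl⟩
  · exact ⟨a, ha, ha10⟩
  · exact ⟨r16, hr16, h16⟩
  · exact ⟨b, hb, hb26⟩
  all_goals exact swapCase _ (by decide)

/-- The involution fixing the pair and negating the middle. -/
theorem exists_invol : ∃ t ∈ F.M₀, t * t = 1 ∧ t ≠ 1 ∧ F.Acts t (actH 16) := by
  obtain ⟨g, hg, h⟩ := F.exists_M₀ 16 (by decide)
  obtain ⟨-, -, -, -, -, -, e16⟩ := base_closed
  have hJ2 : g * g ∈ F.J := F.acts_zero (e16 ▸ F.acts_H_mul h h)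
  refine ⟨g * g * g, mul_mem (mul_mem hg hg) hg, ?_, ?_, ?_⟩
  · calc g * g * g * (g * g * g) = (g * g) ^ 3 := by rw [pow_succ, pow_two]; group
      _ = 1 := F.hJexp _ hJ2
  · intro e
    have := F.acts_mul (F.acts_J hJ2) h
    have e1 := F.acts_unique this (show F.Acts (g * g * g) id by rw [e]; exact F.acts_one)
    exact absurd (congrFun e1 3) (by show actH 16 3 ≠ 3; decide +kernel)
  · exact fun v => (F.acts_mul (F.acts_J hJ2) h v).trans rfl

/-- Actions lift to the centraliser of the involution. -/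
theorem lift_comm {t : G} (ht : t * t = 1) (hta : F.Acts t (actH 16)) {g : G} {k : Fin 64} (hg : F.Acts g (actH k)) :
    ∃ j ∈ F.J, Commute (j⁻¹ * g) t ∧ F.Acts (j⁻¹ * g) (actH k) := by
  obtain ⟨-, -, -, -, -, hcen, -⟩ := base_closed
  have h1 := F.acts_H_mul hg hta
  have h2 := F.acts_H_mul hta hg
  rw [hcen] at h2
  have hj : t * (g * t * g⁻¹) ∈ F.J := by
    refine F.ker fun v => ?_
    have e : ∀ x, g * t * F.e x * (g * t)⁻¹ = t * g * F.e x * (t * g)⁻¹ := fun x => (h1 x).trans (h2 x).symm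
    obtain ⟨x, hx⟩ : ∃ x, F.e x = g⁻¹ * F.e v * g := by
      have := (mem_normalizer_iff.1 (inv_mem (F.acts_mem hg)) (F.e v)).1 (F.e_mem v)
      rw [inv_inv] at this
      exact (F.memJ _).1 this
    show t * (g * t * g⁻¹) * F.e v * (t * (g * t * g⁻¹))⁻¹ = F.e (id v)
    rw [show t * (g * t * g⁻¹) * F.e v * (t * (g * t * g⁻¹))⁻¹ = t * (g * t * (g⁻¹ * F.e v * g) * (g * t)⁻¹) * t⁻¹ by group,
      ← hx, e x, hx, show t * (t * g * (g⁻¹ * F.e v * g) * (t * g)⁻¹) * t⁻¹ = t * t * F.e v * (t * t)⁻¹ by group, ht]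
    simp
  obtain ⟨j, hjd⟩ : ∃ j, j = t * (g * t * g⁻¹) := ⟨_, rfl⟩
  rw [← hjd] at hj
  have hgt : g * t * g⁻¹ = t * j := by rw [hjd, ← mul_assoc t t, ht, one_mul]
  have hinv : t * j * t = j⁻¹ := by
    have h : t * j * (t * j) = 1 := by
      rw [← hgt, show g * t * g⁻¹ * (g * t * g⁻¹) = g * (t * t) * g⁻¹ by group, ht, mul_one, mul_inv_cancel]
    exact eq_inv_of_mul_eq_one_left (by rw [← h]; group)
  refine ⟨j, hj, ?_, fun v => ?_⟩
  · have e : j⁻¹ * (t * j) * j = t := by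
      have hj3 : j ^ 3 = 1 := F.hJexp _ hj
      rw [← hinv]
      calc t * j * t * (t * j) * j = t * j * (t * t) * j * j := by group
        _ = t * (j ^ 3) := by rw [ht, pow_succ, pow_two]; group
        _ = t := by rw [hj3, mul_one]
    rw [← hgt] at e
    show j⁻¹ * g * t = t * (j⁻¹ * g)
    calc j⁻¹ * g * t = j⁻¹ * (g * t * g⁻¹) * j * (j⁻¹ * g) := by group
      _ = _ := by rw [e]
  · rw [F.acts_mul (F.acts_J (inv_mem hj)) hg v]
    rfl

end Frame

end Cfsg.Lib.McLLocal
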