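import Cfsg.Agent.LocalThree.McLLocal.PairData

/-!
Computations on nonsingular points.
-/

set_option autoImplicit false
set_option maxRecDepth 100000
set_option synthInstance.maxSize 4096

namespace Cfsg.Lib.McLLocal

/-- A middle vector. -/
def Mid (v : Fin 81) : Prop := v ≠ 0 ∧ dg v 0 = 0 ∧ dg v 3 = 0

instance : DecidablePred Mid := fun _ => inferInstanceAs (Decidable (_ ∧ _ ∧ _))

theorem nonsing_normal : ∀ v : Fin 81, v ≠ 0 → ¬ Sing v →
    ∃ p : Fin 9, Mid (actU p v) ∨ ∃ p' : Fin 9, Mid (actU p' (actH 35 (actU p v))) := by decide +kernel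

theorem mid_stab : ∀ v : Fin 81, Mid v → ∃ p p' : Fin 9, p ≠ 0 ∧ p' ≠ 0 ∧ actU p v = v ∧
    actH 35 (actU p' (actH 35 v)) = v := by decide +kernel

theorem swap_self : mulH 35 35 = 0 := by decide +kernel

theorem actU_nontrivial : ∀ p : Fin 9, p ≠ 0 →
    (∃ x ∈ basis4, actU p x ≠ x) ∧ (Finset.univ.filter fun v : Fin 81 => actU p v = v).card = 9 ∧
    ∃ x ∈ basis4, actH 35 (actU p (actH 35 x)) ≠ x := by decide +kernel

theorem fixed_sing : ∀ p : Fin 9, p ≠ 0 →
    ∀ v : Fin 81, Sing v → (actU p v = v ∨ actU p v = ng v) → v = 1 ∨ v = 2 := by decide +kernel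

theorem fixed_sing_swap : ∀ p : Fin 9, p ≠ 0 →
    ∀ v : Fin 81, Sing v →
      (actH 35 (actU p (actH 35 v)) = v ∨ actH 35 (actU p (actH 35 v)) = ng v) → v = 27 ∨ v = 54 := by decide +kernel

end Cfsg.Lib.McLLocal
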