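import Cfsg.Agent.LocalThree.McLLocal.Pair
import Cfsg.Agent.LocalThree.McLLocal.PointData
import Mathlib.GroupTheory.Nilpotent

/-!
Centralisers of points of the module.
-/

set_option autoImplicit false
set_option linter.unusedSectionVars false
set_option maxRecDepth 100000
set_option synthInstance.maxSize 4096

namespace Cfsg.Lib.McLLocal

open Subgroup
open scoped Pointwise

universe u

variable {G : Type u} [Group G] [Finite G]

/-- The condition on the three-core of a centraliser. -/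
def CoreSelf (a : G) : Prop :=
  centralizer (((Cfsg.pCore 3 (centralizer ({a} : Set G))).map (centralizer ({a} : Set G)).subtype : Subgroup G) : Set G) ≤
    (Cfsg.pCore 3 (centralizer ({a} : Set G))).map (centralizer ({a} : Set G)).subtype

namespace Frame

variable (F : Frame G)

include F

theorem conj_cent {g a b : G} (h : g * a * g⁻¹ = b) {c : G} (hc : c ∈ centralizer ({a} : Set G)) :
    g * c * g⁻¹ ∈ centralizer ({b} : Set G) := by
  rw [mem_centralizer_singleton_iff] at hc ⊢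
  rw [← h, show g * c * g⁻¹ * (g * a * g⁻¹) = g * (c * a) * g⁻¹ by group, hc]
  group

/-- Every element of the Sylow subgroup acts as a member of the radical. -/
theorem S_acts {s : G} (hs : s ∈ (F.S : Subgroup G)) : ∃ p, F.Acts s (actU p) := by
  classical
  choose q hq hqa using F.uQ
  have hinj : ∀ a b : Fin 9, (q b)⁻¹ * q a ∈ F.J → a = b := by
    intro a b h
    have h' := F.acts_mul (hqa b) (F.acts_J h)
    rw [mul_inv_cancel_left] at h'
    have := F.acts_unique (hqa a) h'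
    exact (show ∀ a b : Fin 9, actU a 27 = actU b 27 → a = b by decide +kernel) a b (congrFun this 27)
  have hle : F.J ≤ (F.S : Subgroup G) := F.hJS
  let f : Fin 9 → (F.S : Subgroup G) ⧸ F.J.subgroupOf F.S := fun a =>
    QuotientGroup.mk ⟨q a, F.toData.Q_le_S (hq a)⟩
  have hf : Function.Injective f := fun a b h => hinj a b (by
    have := QuotientGroup.eq.1 h.symm
    exact mem_subgroupOf.1 this)
  have hcard : Nat.card ((F.S : Subgroup G) ⧸ F.J.subgroupOf F.S) = 9 := by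
    have h := card_eq_card_quotient_mul_card_subgroup (F.J.subgroupOf (F.S : Subgroup G))
    rw [F.toData.card_S, Nat.card_congr (subgroupOfEquivOfLe hle).toEquiv, F.hJcard] at h
    omega
  obtain ⟨a, ha⟩ := ((Nat.bijective_iff_injective_and_card f).2 ⟨hf, by rw [Nat.card_fin, hcard]⟩).2
    (QuotientGroup.mk ⟨s, hs⟩)
  have hj : (q a)⁻¹ * s ∈ F.J := mem_subgroupOf.1 (QuotientGroup.eq.1 ha)
  refine ⟨a, fun v => ?_⟩
  have := F.acts_mul (hqa a) (F.acts_J hj) v
  rwa [mul_inv_cancel_left] at this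

/-- For a middle vector. -/
theorem cent_mid {v : Fin 81} (hv : Mid v) (hC : CoreSelf (F.e v)) : centralizer ({F.e v} : Set G) ≤ F.toData.M := by
  haveI := fact_three
  obtain ⟨R, hRd⟩ : ∃ R, R = (Cfsg.pCore 3 (centralizer ({F.e v} : Set G))).map (centralizer ({F.e v} : Set G)).subtype :=
    ⟨_, rfl⟩
  have hC' : centralizer (R : Set G) ≤ R := hRd ▸ hC
  have hRC : R ≤ centralizer ({F.e v} : Set G) := hRd ▸ map_subtype_le _
  have hRp : IsPGroup 3 R := hRd ▸ (Cfsg.Lib.Components.isPGroup_pCore 3).map _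
  have hCn : centralizer ({F.e v} : Set G) ≤ normalizer (R : Set G) := by
    intro g hg
    rw [hRd]
    refine mem_normalizer_of_map_mem fun x hx => ?_
    obtain ⟨y, hy, rfl⟩ := hx
    exact ⟨⟨g, hg⟩ * y * (⟨g, hg⟩ : centralizer ({F.e v} : Set G))⁻¹,
      (inferInstance : (Cfsg.pCore 3 (centralizer ({F.e v} : Set G))).Normal).conj_mem y hy _, rfl⟩
  have hJC : F.J ≤ centralizer ({F.e v} : Set G) := fun j hj =>
    mem_centralizer_singleton_iff.2 (F.toData.J_comm hj (F.e_mem v))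
  have hJR : F.J ≤ normalizer (R : Set G) := hJC.trans hCn
  -- the part in the normaliser
  have key : R ⊓ F.toData.M ≤ F.J := by
    intro x hx
    by_contra hxJ
    obtain ⟨p, p', hp, hp', hpv, hpv'⟩ := mid_stab v hv
    obtain ⟨q, hq, hqa⟩ := F.uQ p
    obtain ⟨q', hq', hqa'⟩ := F.uQ p'
    obtain ⟨s, hs, hsa⟩ := F.exists_M₀ 35 (by decide)
    have hsM := F.toData.M₀_le_M hs
    have hs2 : s * s ∈ F.J := F.acts_zero (swap_self ▸ F.acts_H_mul hsa hsa)
    obtain ⟨u', hu'd⟩ : ∃ u', u' = s * q' * s⁻¹ := ⟨_, rfl⟩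
    have hu'a : F.Acts u' fun y => actH 35 (actU p' (actH 35 y)) := by
      have e : u' = s * q' * s * (s * s)⁻¹ := by rw [hu'd]; group
      rw [e]
      exact fun y => (F.acts_mul (F.acts_mul (F.acts_mul hsa (f' := actU p') hqa') hsa) (F.acts_J (inv_mem hs2)) y).trans rfl
    have hqM := F.toData.S_le_M (F.toData.Q_le_S hq)
    have hu'M : u' ∈ F.toData.M :=
      hu'd ▸ mul_mem (mul_mem hsM (F.toData.S_le_M (F.toData.Q_le_S hq'))) (inv_mem hsM)
    have hqC : q ∈ centralizer ({F.e v} : Set G) := mem_centralizer_singleton_iff.2 (by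
      have := hqa v
      rw [hpv] at this
      exact mul_inv_eq_iff_eq_mul.1 this)
    have hu'C : u' ∈ centralizer ({F.e v} : Set G) := mem_centralizer_singleton_iff.2 (by
      have := hu'a v
      beta_reduce at this
      rw [hpv'] at this
      exact mul_inv_eq_iff_eq_mul.1 this)
    have fixes : ∀ u ∈ F.toData.M, u ∈ centralizer ({F.e v} : Set G) → u ^ 3 = 1 →
        ∃ i, (zpowers (F.e (lineT i))).map (MulAut.conj u).toMonoidHom = zpowers (F.e (lineT i)) ∧
          (zpowers (F.e (lineT i))).map (MulAut.conj x).toMonoidHom = zpowers (F.e (lineT i)) := by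
      intro u hu huC hu3
      obtain ⟨X, hXd⟩ : ∃ X, X = R ⊓ F.toData.M := ⟨_, rfl⟩
      have hn : zpowers u ≤ normalizer (X : Set G) := zpowers_le.2 (mem_normalizer_of_map_mem fun y hy => by
        rw [hXd] at hy ⊢
        exact mem_inf.2 ⟨(mem_normalizer_iff.1 (hCn huC) y).1 hy.1, mul_mem (mul_mem hu hy.2) (inv_mem hu)⟩)
      have hup : IsPGroup 3 (zpowers u) := by
        obtain ⟨j, -, hj⟩ := (Nat.dvd_prime_pow Nat.prime_three).1
          (orderOf_dvd_of_pow_eq_one (show u ^ 3 ^ 1 = 1 by rw [pow_one]; exact hu3))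
        exact IsPGroup.of_card (n := j) (by rw [Nat.card_zpowers, hj])
      have hT : IsPGroup 3 ↥(X ⊔ zpowers u) :=
        IsPGroup.to_sup_of_normal_left' (hRp.to_le (hXd ▸ inf_le_left)) hup hn
      have hle : X ⊔ zpowers u ≤ F.toData.M := sup_le (hXd ▸ inf_le_right) (zpowers_le.2 hu)
      obtain ⟨P, hP⟩ := (hT.of_equiv (subgroupOfEquivOfLe hle).symm).exists_le_sylow
      obtain ⟨⟨g, hg⟩, hgP⟩ := MulAction.exists_smul_eq F.toData.M (F.S.subtype F.toData.S_le_M) P
      have hcj : ∀ y ∈ X ⊔ zpowers u, ∃ s' ∈ (F.S : Subgroup G), g * s' * g⁻¹ = y := by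
        intro y hy
        have h1 : (⟨y, hle hy⟩ : F.toData.M) ∈ P := hP (mem_subgroupOf.2 hy)
        rw [← hgP] at h1
        obtain ⟨s', hs', e⟩ := h1
        exact ⟨s', mem_subgroupOf.1 hs', congrArg Subtype.val e⟩
      obtain ⟨i, hi⟩ := F.conjZ_classify ⟨g, hg, rfl⟩
      have hfix : ∀ y ∈ X ⊔ zpowers u,
          (zpowers (F.e (lineT i))).map (MulAut.conj y).toMonoidHom = zpowers (F.e (lineT i)) := by
        intro y hy
        obtain ⟨s', hs', rfl⟩ := hcj y hy
        rw [← hi, F.map_map', show g * s' * g⁻¹ * g = g * s' by group, ← F.map_map']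
        exact congrArg (fun K : Subgroup G => K.map (MulAut.conj g).toMonoidHom)
          (mem_normalizer_iff_map_conj_eq.1 (F.toData.S_le_L hs'))
      exact ⟨i, hfix u (mem_sup_right (mem_zpowers u)), hfix x (mem_sup_left (hXd.symm ▸ hx))⟩
    have hval : ∀ (y : G) (f : Fin 81 → Fin 81), F.Acts y f → ∀ i,
        (zpowers (F.e (lineT i))).map (MulAut.conj y).toMonoidHom = zpowers (F.e (lineT i)) →
          f (lineT i) = lineT i ∨ f (lineT i) = ng (lineT i) :=
      fun y f hy i h => F.line_image hy (lineT_sing i).1.1 h (lineT_sing i).1.1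
    obtain ⟨i, hiu, hix⟩ := fixes q hqM hqC (F.hQexp q hq)
    obtain ⟨i', hiu', hix'⟩ := fixes u' hu'M hu'C (by rw [hu'd, conj_pow, F.hQexp q' hq', mul_one, mul_inv_cancel])
    have hi1 := fixed_sing p hp _ (lineT_sing i).1 (hval q (actU p) hqa i hiu)
    have hi27 := fixed_sing_swap p' hp' _ (lineT_sing i').1 (hval _ _ hu'a i' hiu')
    -- the element lies in a conjugate of the Sylow subgroup
    have hxp : IsPGroup 3 (zpowers x) := hRp.to_le (zpowers_le.2 hx.1)
    obtain ⟨P, hP⟩ := (hxp.of_equiv (subgroupOfEquivOfLe (zpowers_le.2 hx.2)).symm).exists_le_sylow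
    obtain ⟨⟨g, hg⟩, hgP⟩ := MulAction.exists_smul_eq F.toData.M (F.S.subtype F.toData.S_le_M) P
    have h1 : (⟨x, hx.2⟩ : F.toData.M) ∈ P := hP (mem_subgroupOf.2 (mem_zpowers x))
    rw [← hgP] at h1
    obtain ⟨⟨sx, hsxM⟩, hsx, e⟩ := h1
    have hsxS : sx ∈ (F.S : Subgroup G) := mem_subgroupOf.1 hsx
    have hxe : g * sx * g⁻¹ = x := congrArg Subtype.val e
    obtain ⟨px, hpx⟩ := F.S_acts hsxS
    obtain ⟨fg, hfg⟩ := F.exists_acts (inv_mem hg)
    have hp0 : px ≠ 0 := by
      rintro rfl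
      refine hxJ ?_
      have : sx ∈ F.J := F.ker fun y => by rw [hpx y, actU_zero]; rfl
      exact hxe ▸ (mem_normalizer_iff.1 hg sx).1 this
    have hfixw : ∀ j, (zpowers (F.e (lineT j))).map (MulAut.conj x).toMonoidHom = zpowers (F.e (lineT j)) →
        fg (lineT j) = 1 ∨ fg (lineT j) = 2 := by
      intro j hj
      refine fixed_sing px hp0 _ (F.sing_acts hfg (lineT_sing j).1) ?_
      refine F.line_image hpx (F.sing_acts hfg (lineT_sing j).1).1 ?_ (F.sing_acts hfg (lineT_sing j).1).1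
      rw [← hfg (lineT j), show zpowers (g⁻¹ * F.e (lineT j) * g⁻¹⁻¹) =
          (zpowers (F.e (lineT j))).map (MulAut.conj g⁻¹).toMonoidHom by rw [MonoidHom.map_zpowers]; rfl,
        F.map_map', show sx * g⁻¹ = g⁻¹ * x by rw [← hxe]; group, ← F.map_map', hj]
    have hnn : ∀ a b : Fin 81, (fg a = 1 ∨ fg a = 2) → (fg b = 1 ∨ fg b = 2) → a = b ∨ a = ng b := by
      have hinj : ∀ a b, fg a = fg b → a = b := fun a b h => F.e_inj (by
        have e1 := hfg a
        rw [h, ← hfg b] at e1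
        exact mul_left_cancel (mul_right_cancel e1))
      intro a b ha hb
      have hng : ∀ c, fg (ng c) = ng (fg c) := fun c => F.acts_sc hfg 2 c
      rcases ha with ha | ha <;> rcases hb with hb | hb
      · exact Or.inl (hinj _ _ (ha.trans hb.symm))
      · exact Or.inr (hinj _ _ (by rw [hng, hb, ha]; decide +kernel))
      · exact Or.inr (hinj _ _ (by rw [hng, hb, ha]; decide +kernel))
      · exact Or.inl (hinj _ _ (ha.trans hb.symm))
    rcases hnn _ _ (hfixw i hix) (hfixw i' hix') with r | r <;>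
      rcases hi1 with a | a <;> rcases hi27 with b | b <;> rw [a, b] at r <;> exact absurd r (by decide +kernel)
  have hRJ : R ≤ F.J := by
    obtain ⟨T, hTd⟩ : ∃ T, T = R ⊔ F.J := ⟨_, rfl⟩
    have hTp : IsPGroup 3 T := hTd ▸ IsPGroup.to_sup_of_normal_left' hRp (F.S.2.to_le F.hJS) hJR
    haveI : Group.IsNilpotent T := hTp.isNilpotent
    have hJT : F.J ≤ T := hTd ▸ le_sup_right
    have hN : ∀ x ∈ T, x ∈ F.toData.M → x ∈ F.J := by
      intro x hx hxM
      rw [hTd, Cfsg.Lib.Coprime.mem_sup_of_le_normalizer hJR] at hx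
      obtain ⟨r, hr, j, hj, rfl⟩ := hx
      have : r ∈ F.toData.M := by
        have := mul_mem hxM (inv_mem (le_normalizer hj : j ∈ F.toData.M))
        rwa [mul_inv_cancel_right] at this
      exact mul_mem (key ⟨hr, this⟩) hj
    have htop : F.J.subgroupOf T = ⊤ := by
      by_contra hne
      have hlt := normalizerCondition_of_isNilpotent (F.J.subgroupOf T) (lt_top_iff_ne_top.2 hne)
      obtain ⟨x, hx, hxn⟩ := SetLike.exists_of_lt hlt
      refine hxn (mem_subgroupOf.2 (hN x x.2 (mem_normalizer_of_map_mem fun y hy => ?_)))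
      exact mem_subgroupOf.1 ((mem_normalizer_iff.1 hx ⟨y, hJT hy⟩).1 (mem_subgroupOf.2 hy))
    intro r hr
    have : (⟨r, hTd ▸ mem_sup_left hr⟩ : T) ∈ F.J.subgroupOf T := htop ▸ mem_top _
    exact mem_subgroupOf.1 this
  have hJR' : F.J ≤ R := fun j hj => hC' (mem_centralizer_iff.2 fun r hr => F.toData.J_comm (hRJ hr) hj)
  have hRe : R = F.J := le_antisymm hRJ hJR'
  intro g hg
  have := hCn hg
  rwa [hRe] at this

theorem to_mid {v : Fin 81} (hv0 : v ≠ 0) (hv : ¬ Sing v) :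
    ∃ g ∈ F.M₀, ∃ u, Mid u ∧ g * F.e v * g⁻¹ = F.e u := by
  obtain ⟨p, h | ⟨p', h⟩⟩ := nonsing_normal v hv0 hv
  · obtain ⟨q, hq, hqa⟩ := F.uQ p
    exact ⟨q, F.toData.Q_le_M₀ hq, _, h, hqa v⟩
  · obtain ⟨q, hq, hqa⟩ := F.uQ p
    obtain ⟨q', hq', hqa'⟩ := F.uQ p'
    obtain ⟨s, hs, hsa⟩ := F.exists_M₀ 35 (by decide)
    exact ⟨q' * s * q, mul_mem (mul_mem (F.toData.Q_le_M₀ hq') hs) (F.toData.Q_le_M₀ hq), _, h,
      F.acts_mul (F.acts_mul hqa' hsa) hqa v⟩

/-- The centraliser of a nonsingular point. -/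
theorem cent_nonsing (hC : ∀ u, Mid u → CoreSelf (F.e u)) {v : Fin 81} (hv0 : v ≠ 0) (hv : ¬ Sing v) :
    centralizer ({F.e v} : Set G) ≤ F.toData.M := by
  obtain ⟨g, hg, u, hu, e⟩ := F.to_mid hv0 hv
  intro c hc
  have hgM := F.toData.M₀_le_M hg
  have := F.cent_mid hu (hC u hu) (F.conj_cent e hc)
  have := mul_mem (mul_mem (inv_mem hgM) this) hgM
  rwa [show g⁻¹ * (g * c * g⁻¹) * g = c by group] at this

/-- A nonsingular point is not conjugate to a singular one. -/
theorem sing_of_conj {g : G} {u v : Fin 81} (hu : Sing u) (h : g * F.e u * g⁻¹ = F.e v)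
    (hC : centralizer ({F.e v} : Set G) ≤ F.toData.M) : Sing v := by
  haveI := fact_three
  obtain ⟨i, hi⟩ := lineT_facts.2 u hu
  obtain ⟨m, hm, hmZ⟩ := F.conjZ_lineT i
  have hue : F.e u ∈ F.Z.map (MulAut.conj m).toMonoidHom := hmZ ▸
    (F.mem_line (lineT_sing i).1.1).2 (hi.elim (Or.inr ∘ Or.inl) (Or.inr ∘ Or.inr))
  obtain ⟨z, hz, hzu⟩ := hue
  obtain ⟨T, hTd⟩ : ∃ T, T = (F.S : Subgroup G).map (MulAut.conj (g * m)).toMonoidHom := ⟨_, rfl⟩
  have hev : g * m * z * (g * m)⁻¹ = F.e v := by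
    rw [← h, ← show m * z * m⁻¹ = F.e u from hzu]
    group
  have hTC : T ≤ centralizer ({F.e v} : Set G) := by
    rw [hTd]
    rintro _ ⟨s, hs, rfl⟩
    exact F.conj_cent hev (mem_centralizer_singleton_iff.2 (F.toData.Z_cent hs hz))
  obtain ⟨c, hc⟩ : ∃ c, c = g * m := ⟨_, rfl⟩
  let P : Sylow 3 G := c • F.S
  have hPT : (P : Subgroup G) = T := by rw [hTd, ← hc]; rfl
  obtain ⟨⟨k, hk⟩, hk'⟩ := MulAction.exists_smul_eq (F.toData.M) (F.S.subtype F.toData.S_le_M)
    (P.subtype (hPT ▸ hTC.trans hC))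
  have hPk : ∀ s ∈ (F.S : Subgroup G), k * s * k⁻¹ ∈ T := by
    intro s hs
    have hmem : (⟨k, hk⟩ * ⟨s, F.toData.S_le_M hs⟩ * (⟨k, hk⟩ : F.toData.M)⁻¹ : F.toData.M) ∈
        ((⟨k, hk⟩ : F.toData.M) • F.S.subtype F.toData.S_le_M : Sylow 3 F.toData.M) :=
      ⟨⟨s, F.toData.S_le_M hs⟩, mem_subgroupOf.2 hs, rfl⟩
    rw [hk'] at hmem
    exact hPT ▸ mem_subgroupOf.1 hmem
  obtain ⟨x, hx⟩ : ∃ x, x = k⁻¹ * F.e v * k := ⟨_, rfl⟩
  have hxJ : x ∈ F.J := by
    have := (mem_normalizer_iff.1 (inv_mem hk) (F.e v)).1 (F.e_mem v)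
    rwa [inv_inv, ← hx] at this
  have hxZ : x ∈ F.Z := by
    rw [F.hZ]
    refine mem_inf.2 ⟨F.hJS hxJ, mem_centralizer_iff.2 fun s hs => ?_⟩
    have e := mem_centralizer_singleton_iff.1 (hTC (hPk s hs))
    rw [hx]
    calc s * (k⁻¹ * F.e v * k) = k⁻¹ * (k * s * k⁻¹ * F.e v) * k := by group
      _ = k⁻¹ * (F.e v * (k * s * k⁻¹)) * k := by rw [e]
      _ = _ := by group
  obtain ⟨j, hj⟩ := (F.eZ x).1 hxZ
  have hsing : Sing (sc j.val 1) := by
    rcases pure_vectors j with r | r | r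
    · exfalso
      rw [r, F.e_zero] at hj
      have h1 : F.e v = 1 := by
        calc F.e v = k * x * k⁻¹ := by rw [hx]; group
          _ = 1 := by rw [← hj]; group
      exact F.e_ne hu.1 (conj_eq_one_iff.1 (h.trans h1))
    · rw [r]; decide +kernel
    · rw [r]; decide +kernel
  exact F.sing_conj hk hsing (by rw [hj, hx]; group)

end Frame

end Cfsg.Lib.McLLocal
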