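import Cfsg.Agent.LocalThree.McLLocal.SLData

/-!
Automorphisms of the special linear group of degree two over five elements fixing a transvection.
-/

set_option autoImplicit false
set_option maxRecDepth 100000
set_option synthInstance.maxSize 4096

namespace Cfsg.Lib.McLLocal

open Subgroup

/-- The fifth power on entries. -/
def q5 (a : Quad5) : Quad5 := qm a (qm a (qm a (qm a a)))

/-- The upper transvection. -/
def uT : SL5 := mkq (1, 1, 0, 1) (by decide)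

/-- The lower transvection. -/
def vT : SL5 := mkq (1, 0, 1, 1) (by decide)

set_option synthInstance.maxHeartbeats 400000 in
theorem q_five_conj : ∀ a b c d : ZMod 5, qd (a, b, c, d) = 1 → q5 (a, b, c, d) = (1, 0, 0, 1) →
    (a, b, c, d) ≠ (1, 0, 0, 1) → ∃ g h i j : ZMod 5, qd (g, h, i, j) = 1 ∧
      (qm (g, h, i, j) (1, 1, 0, 1) = qm (a, b, c, d) (g, h, i, j) ∨
        qm (g, h, i, j) (1, 2, 0, 1) = qm (a, b, c, d) (g, h, i, j)) := by decide +kernel

set_option synthInstance.maxHeartbeats 400000 in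
theorem q_candidates : ∀ a b c d : ZMod 5, qd (a, b, c, d) = 1 → q5 (a, b, c, d) = (1, 0, 0, 1) →
    qm (q5 (qm (1, 1, 0, 1) (a, b, c, d))) (q5 (qm (1, 1, 0, 1) (a, b, c, d))) = (1, 0, 0, 1) →
    q5 (qm (1, 1, 0, 1) (a, b, c, d)) ≠ (1, 0, 0, 1) →
      ∃ i : ZMod 5, qm (1, i, 0, 1) (1, 0, 1, 1) = qm (a, b, c, d) (1, i, 0, 1) := by decide +kernel

set_option synthInstance.maxHeartbeats 400000 in
theorem q_facts : (∀ i : ZMod 5, qm (1, i, 0, 1) (1, 0, 1, 1) = qm (1, 0, 1, 1) (1, i, 0, 1) → i = 0) ∧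
    (∀ a b c d : ZMod 5, qd (a, b, c, d) = 1 →
      qm (a, b, c, d) (1, 1, 0, 1) = qm (1, 1, 0, 1) (a, b, c, d) →
      qm (a, b, c, d) (1, 0, 1, 1) = qm (1, 0, 1, 1) (a, b, c, d) → qm (a, b, c, d) (a, b, c, d) = (1, 0, 0, 1)) ∧
    (∃ a b c d a' b' c' d' : ZMod 5, qd (a, b, c, d) = 1 ∧ qd (a', b', c', d') = 1 ∧
      qm (a, b, c, d) (qm (a, b, c, d) (a, b, c, d)) = (1, 0, 0, 1) ∧
      qm (a', b', c', d') (qm (a', b', c', d') (a', b', c', d')) = (1, 0, 0, 1) ∧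
      qm (a, b, c, d) (a', b', c', d') = (4, 4, 0, 4)) ∧
    (∃ a b c d a' b' c' d' : ZMod 5, qd (a, b, c, d) = 1 ∧ qd (a', b', c', d') = 1 ∧
      qm (a, b, c, d) (qm (a, b, c, d) (a, b, c, d)) = (1, 0, 0, 1) ∧
      qm (a', b', c', d') (qm (a', b', c', d') (a', b', c', d')) = (1, 0, 0, 1) ∧
      qm (a, b, c, d) (a', b', c', d') = (4, 0, 4, 4)) := by decide +kernel

set_option synthInstance.maxHeartbeats 400000 in
theorem q_word : ∀ a b c d : ZMod 5, qd (a, b, c, d) = 1 → ∃ i j k l : ZMod 5,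
    qm (1, i, 0, 1) (qm (1, 0, j, 1) (qm (1, k, 0, 1) (1, 0, l, 1))) = (a, b, c, d) := by decide +kernel

set_option synthInstance.maxHeartbeats 400000 in
theorem q_count : (Finset.univ.filter fun q : Quad5 => qd q = 1 ∧ q5 q = (1, 0, 0, 1) ∧ q ≠ (1, 0, 0, 1)).card = 24 := by
  decide +kernel

end Cfsg.Lib.McLLocal
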