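import Cfsg.Agent.Known.Laws

/-!
Elements of order three of the special linear group of degree two over the field with five elements.
-/

set_option autoImplicit false
set_option maxRecDepth 100000
set_option synthInstance.maxSize 4096

namespace Cfsg.Lib.McLLocal

open Matrix

/-- Entries. -/
abbrev Quad5 : Type := ZMod 5 × ZMod 5 × ZMod 5 × ZMod 5

/-- The product on entries. -/
def qm (a b : Quad5) : Quad5 :=
  (a.1 * b.1 + a.2.1 * b.2.2.1, a.1 * b.2.1 + a.2.1 * b.2.2.2,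
   a.2.2.1 * b.1 + a.2.2.2 * b.2.2.1, a.2.2.1 * b.2.1 + a.2.2.2 * b.2.2.2)

/-- The determinant on entries. -/
def qd (a : Quad5) : ZMod 5 := a.1 * a.2.2.2 - a.2.1 * a.2.2.1

/-- An element of order three. -/
def x5 : Quad5 := (4, 1, 4, 0)

set_option synthInstance.maxHeartbeats 400000 in
theorem q_conj : ∀ a b c d : ZMod 5, qd (a, b, c, d) = 1 →
    qm (a, b, c, d) (qm (a, b, c, d) (a, b, c, d)) = (1, 0, 0, 1) → (a, b, c, d) ≠ (1, 0, 0, 1) →
      ∃ g h i j : ZMod 5, qd (g, h, i, j) = 1 ∧ qm (g, h, i, j) x5 = qm (a, b, c, d) (g, h, i, j) := by decide +kernel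

set_option synthInstance.maxHeartbeats 400000 in
theorem q_inverter : (∃ g h i j : ZMod 5, qd (g, h, i, j) = 1 ∧ qm (g, h, i, j) x5 = qm (qm x5 x5) (g, h, i, j)) ∧
    (∀ g h i j : ZMod 5, qd (g, h, i, j) = 1 → qm (g, h, i, j) x5 = qm (qm x5 x5) (g, h, i, j) →
      qm (g, h, i, j) (g, h, i, j) = (4, 0, 0, 4)) ∧
    (∀ g h i j : ZMod 5, qd (g, h, i, j) = 1 → qm (g, h, i, j) x5 = qm x5 (g, h, i, j) →
      (g, h, i, j) ∈ ([(1, 0, 0, 1), x5, qm x5 x5, (4, 0, 0, 4), qm (4, 0, 0, 4) x5, qm (4, 0, 0, 4) (qm x5 x5)] : List Quad5)) := by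
  decide +kernel

/-- The group. -/
abbrev SL5 := SpecialLinearGroup (Fin 2) (ZMod 5)

instance : Fact (Nat.Prime 5) := ⟨by norm_num⟩

/-- The entries of an element. -/
def en (M : SL5) : Quad5 :=
  ((M : Matrix (Fin 2) (Fin 2) (ZMod 5)) 0 0, (M : Matrix (Fin 2) (Fin 2) (ZMod 5)) 0 1,
    (M : Matrix (Fin 2) (Fin 2) (ZMod 5)) 1 0, (M : Matrix (Fin 2) (Fin 2) (ZMod 5)) 1 1)

theorem en_mul (A B : SL5) : en (A * B) = qm (en A) (en B) := by
  simp [en, qm, Matrix.mul_apply, Fin.sum_univ_two]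

theorem en_inj : Function.Injective en := fun A B h => by
  simp only [en, Prod.mk.injEq] at h
  ext i j
  fin_cases i <;> fin_cases j <;> simp [h]

theorem en_det (A : SL5) : qd (en A) = 1 := (Matrix.det_fin_two _).symm.trans A.2

/-- The element with given entries. -/
def mkq (a : Quad5) (h : qd a = 1) : SL5 := ⟨!![a.1, a.2.1; a.2.2.1, a.2.2.2], by rw [Matrix.det_fin_two_of]; exact h⟩

theorem en_mkq (a : Quad5) (h : qd a = 1) : en (mkq a h) = a := by simp [en, mkq]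

theorem en_one : en 1 = (1, 0, 0, 1) := by simp [en]

/-- The central involution. -/
def negOne : SL5 := mkq (4, 0, 0, 4) (by decide)

/-- The standard element of order three. -/
def xSL : SL5 := mkq x5 (by decide)

theorem negOne_facts : negOne * negOne = 1 ∧ negOne ≠ 1 ∧ ∀ g : SL5, negOne * g = g * negOne := by
  refine ⟨en_inj (by rw [en_mul, negOne, en_mkq, en_one]; decide), fun h => ?_, fun g => ?_⟩
  · exact absurd (show en negOne = (1, 0, 0, 1) by rw [h, en_one]) (by rw [negOne, en_mkq]; decide)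
  · refine en_inj ?_
    rw [en_mul, en_mul, negOne, en_mkq]
    obtain ⟨a, b, c, d⟩ := en g
    simp [qm, mul_comm]

/-- Every element of order three is conjugate to the standard one. -/
theorem three_conj (x : SL5) (hx : x * (x * x) = 1) (hx1 : x ≠ 1) : ∃ g : SL5, g * xSL * g⁻¹ = x := by
  obtain ⟨a, b, c, d, hd, e⟩ := q_conj _ _ _ _ (en_det x) (show qm (en x) (qm (en x) (en x)) = _ by
      rw [← en_mul, ← en_mul, hx, en_one]) (fun h => hx1 (en_inj (h.trans en_one.symm)))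
  refine ⟨mkq _ hd, mul_inv_eq_iff_eq_mul.2 (en_inj ?_)⟩
  rw [en_mul, en_mul, xSL, en_mkq, en_mkq]
  exact e

theorem std_inverter : ∃ g : SL5, g * xSL * g⁻¹ = xSL * xSL := by
  obtain ⟨a, b, c, d, hd, e⟩ := q_inverter.1
  refine ⟨mkq _ hd, mul_inv_eq_iff_eq_mul.2 (en_inj ?_)⟩
  rw [en_mul, en_mul, en_mul, xSL, en_mkq, en_mkq]
  exact e

theorem exists_inverter (x : SL5) (hx : x * (x * x) = 1) (hx1 : x ≠ 1) : ∃ g : SL5, g * x * g⁻¹ = x⁻¹ := by
  obtain ⟨c, hc⟩ := three_conj x hx hx1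
  obtain ⟨g, hg⟩ := std_inverter
  refine ⟨c * g * c⁻¹, ?_⟩
  rw [inv_eq_of_mul_eq_one_right hx]
  rw [← hc]
  calc c * g * c⁻¹ * (c * xSL * c⁻¹) * (c * g * c⁻¹)⁻¹ = c * (g * xSL * g⁻¹) * c⁻¹ := by group
    _ = _ := by rw [hg]; group

theorem inverter_sq (x : SL5) (hx : x * (x * x) = 1) (hx1 : x ≠ 1) (g : SL5) (hg : g * x * g⁻¹ = x⁻¹) :
    g * g = negOne := by
  obtain ⟨c, hc⟩ := three_conj x hx hx1
  rw [inv_eq_of_mul_eq_one_right hx, ← hc] at hg
  obtain ⟨g', hg'⟩ : ∃ g', g' = c⁻¹ * g * c := ⟨_, rfl⟩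
  have e : g' * xSL = xSL * xSL * g' := by
    rw [hg']
    calc c⁻¹ * g * c * xSL = c⁻¹ * (g * (c * xSL * c⁻¹) * g⁻¹) * g * c := by group
      _ = _ := by rw [hg]; group
  have h2 : en (g' * g') = en negOne := by
    have h := congrArg en e
    rw [en_mul, en_mul, en_mul, xSL, en_mkq] at h
    rw [en_mul, negOne, en_mkq]
    exact q_inverter.2.1 _ _ _ _ (en_det g') h
  have h3 := en_inj h2
  calc g * g = c * (g' * g') * c⁻¹ := by rw [hg']; group
    _ = negOne := by rw [h3, ← negOne_facts.2.2 c, mul_inv_cancel_right]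

/-- The centraliser of an element of order three. -/
theorem three_cent (x : SL5) (hx : x * (x * x) = 1) (hx1 : x ≠ 1) (g : SL5) (hg : g * x = x * g) :
    g ∈ ([1, x, x * x, negOne, negOne * x, negOne * (x * x)] : List SL5) := by
  obtain ⟨c, hc⟩ := three_conj x hx hx1
  obtain ⟨g', hg'⟩ : ∃ g', g' = c⁻¹ * g * c := ⟨_, rfl⟩
  have e : g' * xSL = xSL * g' := by
    rw [hg']
    calc c⁻¹ * g * c * xSL = c⁻¹ * (g * (c * xSL * c⁻¹)) * c := by group
      _ = c⁻¹ * ((c * xSL * c⁻¹) * g) * c := by rw [hc, hg]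
      _ = _ := by group
  have h := congrArg en e
  rw [en_mul, en_mul, xSL, en_mkq] at h
  have hm := q_inverter.2.2 _ _ _ _ (en_det g') h
  have hg2 : g = c * g' * c⁻¹ := by rw [hg']; group
  have key : ∀ y : SL5, en g' = en y → g = c * y * c⁻¹ := fun y hy => by rw [hg2, en_inj hy]
  have hN : ∀ y : SL5, c * (negOne * y) * c⁻¹ = negOne * (c * y * c⁻¹) := fun y => by
    rw [← mul_assoc c, ← negOne_facts.2.2 c]; group
  change en g' ∈ _ at hm
  simp only [List.mem_cons, List.not_mem_nil, or_false] at hm ⊢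
  rcases hm with r | r | r | r | r | r
  · exact Or.inl ((key 1 (r.trans en_one.symm)).trans (by group))
  · exact Or.inr (Or.inl ((key xSL (r.trans (en_mkq _ _).symm)).trans hc))
  · refine Or.inr (Or.inr (Or.inl ((key (xSL * xSL) (r.trans ?_)).trans ?_)))
    · rw [en_mul, xSL, en_mkq]
    · rw [← hc]; group
  · refine Or.inr (Or.inr (Or.inr (Or.inl ((key negOne (r.trans (en_mkq _ _).symm)).trans ?_))))
    rw [← negOne_facts.2.2 c, mul_inv_cancel_right]
  · refine Or.inr (Or.inr (Or.inr (Or.inr (Or.inl ((key (negOne * xSL) (r.trans ?_)).trans ?_)))))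
    · rw [en_mul, negOne, xSL, en_mkq, en_mkq]
    · rw [hN, hc]
  · refine Or.inr (Or.inr (Or.inr (Or.inr (Or.inr ((key (negOne * (xSL * xSL)) (r.trans ?_)).trans ?_)))))
    · rw [en_mul, en_mul, negOne, xSL, en_mkq, en_mkq]
    · rw [hN, ← hc]; group

theorem sl5_perfect : commutator SL5 = ⊤ :=
  Cfsg.Lib.Known.sl2_commutator_eq_top (ZMod 5) (by rw [ZMod.card]; norm_num)

end Cfsg.Lib.McLLocal
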