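import Cfsg.Agent.LocalThree.McLLocal.PairData

/-!
Computations on the part of the pair stabiliser centralising the first point.
-/

set_option autoImplicit false
set_option maxRecDepth 100000
set_option synthInstance.maxSize 4096

namespace Cfsg.Lib.McLLocal

/-- The possible actions of the inverting element. -/
def kFour (k : Fin 64) : Prop := k.val % 8 = 4 ∧ mulH k k = 16

instance : DecidablePred kFour := fun _ => inferInstanceAs (Decidable (_ ∧ _))

theorem anti_square : ∀ k : Fin 64, colZ k = 1 → colW k = 54 → mulH (mulH k k) (mulH k k) = 0 → kFour k := by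
  decide +kernel

theorem iso_commute : ∀ k c : Fin 64, kFour k → colZ c = 1 → colW c = 27 → mulH c k = mulH k c → c = 0 ∨ c = 16 := by
  decide +kernel

theorem iso_twisted : ∀ k c : Fin 64, kFour k → colZ c = 1 → colW c = 27 →
    (mulH c k = mulH k c ∨ mulH c k = mulH 16 (mulH k c)) → c ∈ ([0, 8, 16, 24] : List (Fin 64)) := by decide +kernel

theorem fix_sixteen : (∀ v : Fin 81, actH 16 v = v ↔ dg v 1 = 0 ∧ dg v 2 = 0) ∧
    (∀ v : Fin 81, dg v 3 = 0 → ∃ j : Fin 3, ad (actH 16 v) v = sc j.val 1) ∧ actH 16 1 = 1 ∧ actH 16 27 = 27 ∧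
    (∀ p : Fin 9, ∀ v ∈ basis4, actH 16 (actU p (actH 16 (actU p v))) = v) ∧
    (∀ v : Fin 81, dg v 1 = 0 → dg v 2 = 0 → Sing v → v = 1 ∨ v = 2 ∨ v = 27 ∨ v = 54) ∧
    (Finset.univ.filter fun v : Fin 81 => dg v 1 = 0 ∧ dg v 2 = 0).card = 9 := by decide +kernel

end Cfsg.Lib.McLLocal
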