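import Cfsg.Agent.LocalThree.McLLocal.Point
import Cfsg.Agent.LocalThree.McLLocal.TopData
import Cfsg.Agent.LocalThree.McLLocal.SLData
import Cfsg.Agent.Coprime.Action
import Mathlib.GroupTheory.Transfer

/-!
The centraliser of the involution inside the normaliser of the centre.
-/

set_option autoImplicit false
set_option linter.unusedSectionVars false
set_option maxRecDepth 100000
set_option synthInstance.maxSize 4096

namespace Cfsg.Lib.McLLocal

open Subgroup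
open scoped Pointwise commutatorElement

universe u

/-- A subgroup with a chosen involution in the pair stabiliser. -/
structure Top (G : Type u) [Group G] [Finite G] extends Frame G where
  t : G
  ht : t * t = 1
  ht1 : t ≠ 1
  htM : t ∈ M₀
  hta : toFrame.Acts t (actH 16)

namespace Top

variable {G : Type u} [Group G] [Finite G] (T : Top G)

include T

theorem t_inv : T.t⁻¹ = T.t := inv_eq_of_mul_eq_one_right T.ht

theorem t_cent_Z : T.t ∈ centralizer (T.Z : Set G) := mem_centralizer_iff.2 fun x hx => by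
  obtain ⟨k, rfl⟩ := (T.eZ x).1 hx
  rw [T.toFrame.e_sc]
  have h : T.t * T.e 1 * T.t⁻¹ = T.e 1 := (T.hta 1).trans (congrArg T.e fix_sixteen.2.2.1)
  exact ((show Commute T.t (T.e 1) from mul_inv_eq_iff_eq_mul.1 h).pow_right k.val).eq.symm

theorem t_L : T.t ∈ T.toData.L := centralizer_le_normalizer _ T.t_cent_Z

theorem inv_mod_Z {q : G} (hq : q ∈ T.Q) : T.t * q * T.t * q ∈ T.Z := by
  have hW : ∀ x ∈ T.toData.W, T.t * x * T.t * x ∈ T.Z := by
    intro x hx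
    obtain ⟨v, hv, rfl⟩ := (T.eW x).1 hx
    obtain ⟨j, hj⟩ := fix_sixteen.2.1 v hv
    have h := T.hta v
    rw [T.t_inv] at h
    rw [h, ← T.e_add, hj]
    exact (T.eZ _).2 ⟨j, rfl⟩
  obtain ⟨p, hp⟩ := T.toFrame.S_acts (T.toData.Q_le_S hq)
  obtain ⟨x, hx⟩ : ∃ x, x = T.t * q * T.t * q := ⟨_, rfl⟩
  have hxJ : x ∈ T.J := by
    have ha := T.toFrame.acts_mul (T.toFrame.acts_mul (T.toFrame.acts_mul T.hta hp) T.hta) hp
    rw [← hx] at ha
    refine T.toFrame.ker fun v => ?_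
    rw [ha v]
    refine congrArg T.e ?_
    have hl := T.toFrame.acts_lin ha v
    beta_reduce at hl ⊢
    rw [hl, fix_sixteen.2.2.2.2.1 p 1 (by decide), fix_sixteen.2.2.2.2.1 p 3 (by decide),
      fix_sixteen.2.2.2.2.1 p 9 (by decide), fix_sixteen.2.2.2.2.1 p 27 (by decide)]
    exact (ad_facts v).2.2.2.2.2.2.2.symm
  have hxQ : x ∈ T.Q := by
    have := (mem_normalizer_iff.1 (T.toData.L_le_norm_Q T.t_L) q).1 hq
    rw [T.t_inv] at this
    exact hx ▸ mul_mem this hq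
  have hxW : x ∈ T.toData.W := ⟨hxJ, hxQ⟩
  have h1 := hW x hxW
  have h2 : T.t * x * T.t = q * x * q⁻¹ := by
    calc T.t * x * T.t = T.t * T.t * q * T.t * q * T.t := by rw [hx]; group
      _ = q * (T.t * q * T.t * q) * q⁻¹ * 1 := by rw [T.ht, one_mul]; group
      _ = _ := by rw [mul_one, hx]
  have hcz : q * x * q⁻¹ * x⁻¹ ∈ T.Z := T.toData.cm_W hq hxW
  rw [h2] at h1
  have h3 : x * x ∈ T.Z := by
    have := mul_mem (inv_mem hcz) h1
    rwa [show (q * x * q⁻¹ * x⁻¹)⁻¹ * (q * x * q⁻¹ * x) = x * x by group] at this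
  rw [← hx]
  have := inv_mem h3
  have hx3 : x ^ 3 = 1 := T.hQexp x hxQ
  rwa [show (x * x)⁻¹ = (x ^ 3)⁻¹ * x by group, hx3, inv_one, one_mul] at this

theorem cent_fix_Q {q : G} (hq : q ∈ T.Q) (hc : Commute q T.t) : q ∈ T.Z := by
  have h := T.inv_mod_Z hq
  rw [← hc.eq, mul_assoc q, T.ht, mul_one] at h
  have := inv_mem h
  rwa [show (q * q)⁻¹ = (q ^ 3)⁻¹ * q by group, T.hQexp q hq, inv_one, one_mul] at this

theorem centralise_section {d : G} (hd : d ∈ centralizer (T.Z : Set G))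
    (h : ∀ q ∈ T.Q, d * q * d⁻¹ * q⁻¹ ∈ T.Z) : d ∈ T.Q := by
  haveI := fact_three
  let K : Subgroup G :=
    { carrier := {d | d ∈ centralizer (T.Z : Set G) ∧ ∀ q ∈ T.Q, d * q * d⁻¹ * q⁻¹ ∈ T.Z}
      one_mem' := ⟨one_mem _, fun q _ => by simp⟩
      mul_mem' := fun {a b} ha hb => ⟨mul_mem ha.1 hb.1, fun q hq => by
        rw [show a * b * q * (a * b)⁻¹ * q⁻¹ =
          a * (b * q * b⁻¹ * q⁻¹) * a⁻¹ * (a * q * a⁻¹ * q⁻¹) by group]
        refine mul_mem ?_ (ha.2 q hq)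
        rw [← mem_centralizer_iff.1 ha.1 _ (hb.2 q hq), mul_inv_cancel_right]
        exact hb.2 q hq⟩
      inv_mem' := fun {a} ha => ⟨inv_mem ha.1, fun q hq => by
        have hz := ha.2 q hq
        rw [show a⁻¹ * q * a⁻¹⁻¹ * q⁻¹ = (a⁻¹ * (a * q * a⁻¹ * q⁻¹) * a)⁻¹ by group,
          ← mem_centralizer_iff.1 (inv_mem ha.1) _ hz]
        simpa using inv_mem hz⟩ }
  have hKL : K ≤ T.toData.L := fun a ha => centralizer_le_normalizer _ ha.1
  have hLK : T.toData.L ≤ normalizer (K : Set G) := by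
    intro g hg
    refine mem_normalizer_of_map_mem fun a ha => ⟨?_, fun q hq => ?_⟩
    · refine mem_centralizer_iff.2 fun z hz => ?_
      have hz' : g⁻¹ * z * g ∈ T.Z := by
        have := (mem_normalizer_iff.1 (inv_mem hg) z).1 hz
        rwa [inv_inv] at this
      have e := mem_centralizer_iff.1 ha.1 _ hz'
      calc z * (g * a * g⁻¹) = g * (g⁻¹ * z * g * a) * g⁻¹ := by group
        _ = g * (a * (g⁻¹ * z * g)) * g⁻¹ := by rw [e]
        _ = g * a * g⁻¹ * z := by group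
    · have hq' : g⁻¹ * q * g ∈ T.Q := by
        have := (mem_normalizer_iff.1 (T.toData.L_le_norm_Q (inv_mem hg)) q).1 hq
        rwa [inv_inv] at this
      have := (mem_normalizer_iff.1 hg _).1 (ha.2 _ hq')
      rwa [show g * (a * (g⁻¹ * q * g) * a⁻¹ * (g⁻¹ * q * g)⁻¹) * g⁻¹ = g * a * g⁻¹ * q * (g * a * g⁻¹)⁻¹ * q⁻¹ by
        group] at this
  have hKp : IsPGroup 3 K := by
    rw [IsPGroup.iff_orderOf]
    intro c
    by_contra hcon
    push Not at hcon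
    obtain ⟨k, m, hm3, hkm⟩ := Nat.exists_eq_pow_mul_and_not_dvd (orderOf_pos (c : G)).ne' 3 (by norm_num)
    have hx : (orderOf ((c : G) ^ 3 ^ k)).Coprime 3 := by
      rw [orderOf_pow' _ (by positivity), hkm, Nat.gcd_eq_right (dvd_mul_right _ _),
        Nat.mul_div_cancel_left _ (by positivity)]
      exact ((Nat.Prime.coprime_iff_not_dvd Nat.prime_three).2 hm3).symm
    obtain ⟨x, hxd⟩ : ∃ x, x = (c : G) ^ 3 ^ k := ⟨_, rfl⟩
    rw [← hxd] at hx
    have hxK : x ∈ K := hxd ▸ pow_mem c.2 _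
    have hxQ : x ∈ T.Q := by
      refine T.hCQ (mem_centralizer_iff.2 fun q hq => ?_)
      have hpow : ∀ n : ℕ, x ^ n * q * (x ^ n)⁻¹ = (x * q * x⁻¹ * q⁻¹) ^ n * q := by
        intro n
        induction n with
        | zero => simp
        | succ n ih =>
          have hz := hxK.2 q hq
          have hzn : x * (x * q * x⁻¹ * q⁻¹) ^ n = (x * q * x⁻¹ * q⁻¹) ^ n * x :=
            (mem_centralizer_iff.1 hxK.1 _ (pow_mem hz n)).symm
          calc x ^ (n + 1) * q * (x ^ (n + 1))⁻¹ = x * (x ^ n * q * (x ^ n)⁻¹) * x⁻¹ := by rw [pow_succ']; group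
            _ = x * (x * q * x⁻¹ * q⁻¹) ^ n * q * x⁻¹ := by rw [ih]; group
            _ = (x * q * x⁻¹ * q⁻¹) ^ n * (x * q * x⁻¹ * q⁻¹) * q := by rw [hzn]; group
            _ = _ := by rw [pow_succ]
      have h1 : (x * q * x⁻¹ * q⁻¹) ^ orderOf x = 1 := by
        have := hpow (orderOf x)
        rw [pow_orderOf_eq_one] at this
        simpa using this.symm
      have h2 : (x * q * x⁻¹ * q⁻¹) ^ 3 = 1 := T.hQexp _ (T.toData.Z_le_Q (hxK.2 q hq))
      have h3 := pow_gcd_eq_one.mpr ⟨h1, h2⟩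
      rw [hx.gcd_eq_one, pow_one] at h3
      rw [mul_inv_eq_one] at h3
      exact (mul_inv_eq_iff_eq_mul.1 h3).symm
    have hd : orderOf x ∣ 3 := orderOf_dvd_of_pow_eq_one (T.hQexp _ hxQ)
    have h1 : orderOf x = 1 := Nat.Coprime.eq_one_of_dvd hx hd
    rw [orderOf_eq_one_iff, hxd] at h1
    obtain ⟨j, -, hj⟩ := (Nat.dvd_prime_pow Nat.prime_three).1 (orderOf_dvd_of_pow_eq_one h1)
    exact hcon j (by rw [← orderOf_coe]; exact hj)
  haveI : (K.subgroupOf T.toData.L).Normal := normal_subgroupOf_of_le_normalizer hLK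
  have := Cfsg.Lib.Components.le_pCore ((hKp.of_equiv (subgroupOfEquivOfLe hKL).symm))
    (mem_subgroupOf.2 (show (⟨d, centralizer_le_normalizer _ hd⟩ : T.toData.L).1 ∈ K from ⟨hd, h⟩))
  rw [T.hQ]
  exact ⟨_, this, rfl⟩

/-- The normaliser of the centre splits over the extraspecial subgroup. -/
theorem decomp {c : G} (hc : c ∈ T.toData.L) : ∃ r ∈ T.Q, Commute (r⁻¹ * c) T.t := by
  have hd : c * T.t * c⁻¹ * T.t ∈ T.Q := by
    refine T.centralise_section (mul_mem ?_ T.t_cent_Z) fun q hq => ?_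
    · refine mem_centralizer_iff.2 fun z hz => ?_
      have hz' : c⁻¹ * z * c ∈ T.Z := by
        have := (mem_normalizer_iff.1 (inv_mem hc) z).1 hz
        rwa [inv_inv] at this
      have e := mem_centralizer_iff.1 T.t_cent_Z _ hz'
      calc z * (c * T.t * c⁻¹) = c * (c⁻¹ * z * c * T.t) * c⁻¹ := by group
        _ = c * (T.t * (c⁻¹ * z * c)) * c⁻¹ := by rw [e]
        _ = c * T.t * c⁻¹ * z := by group
    · obtain ⟨z₁, hz₁, hq1⟩ : ∃ z₁ ∈ T.Z, T.t * q * T.t = z₁ * q⁻¹ := ⟨_, T.inv_mod_Z hq, by group⟩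
      obtain ⟨q', hq'd⟩ : ∃ q', q' = c⁻¹ * q⁻¹ * c := ⟨_, rfl⟩
      have hq' : q' ∈ T.Q := by
        have := (mem_normalizer_iff.1 (T.toData.L_le_norm_Q (inv_mem hc)) q⁻¹).1 (inv_mem hq)
        rwa [inv_inv, ← hq'd] at this
      obtain ⟨z₂, hz₂, hq2⟩ : ∃ z₂ ∈ T.Z, T.t * q' * T.t = z₂ * q'⁻¹ := ⟨_, T.inv_mod_Z hq', by group⟩
      have e : c * T.t * c⁻¹ * T.t * q * (c * T.t * c⁻¹ * T.t)⁻¹ =
          (c * T.t * c⁻¹ * z₁ * c * T.t * c⁻¹) * (c * z₂ * c⁻¹) * q := by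
        calc c * T.t * c⁻¹ * T.t * q * (c * T.t * c⁻¹ * T.t)⁻¹ =
            c * T.t * c⁻¹ * (T.t * q * T.t⁻¹) * c * T.t⁻¹ * c⁻¹ := by group
          _ = c * T.t * c⁻¹ * z₁ * c * (c⁻¹ * q⁻¹ * c) * T.t * c⁻¹ := by rw [T.t_inv, hq1]; group
          _ = c * T.t * c⁻¹ * z₁ * c * (1 * q') * T.t * c⁻¹ := by rw [← hq'd, one_mul]
          _ = c * T.t * c⁻¹ * z₁ * c * (T.t * T.t * q') * T.t * c⁻¹ := by rw [T.ht]
          _ = c * T.t * c⁻¹ * z₁ * c * T.t * (T.t * q' * T.t) * c⁻¹ := by group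
          _ = _ := by rw [hq2, hq'd]; group
      rw [e, mul_inv_cancel_right]
      have k1 : c * T.t * c⁻¹ * z₁ * c * T.t * c⁻¹ ∈ T.Z := by
        have a1 : c⁻¹ * z₁ * c ∈ T.Z := by
          have := (mem_normalizer_iff.1 (inv_mem hc) z₁).1 hz₁
          rwa [inv_inv] at this
        have a2 := (mem_normalizer_iff.1 hc _).1 ((mem_normalizer_iff.1 T.t_L _).1 a1)
        rw [T.t_inv] at a2
        rwa [show c * T.t * c⁻¹ * z₁ * c * T.t * c⁻¹ = c * (T.t * (c⁻¹ * z₁ * c) * T.t) * c⁻¹ by group]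
      exact mul_mem k1 ((mem_normalizer_iff.1 hc z₂).1 hz₂)
  obtain ⟨q, hqd⟩ : ∃ q, q = c * T.t * c⁻¹ * T.t := ⟨_, rfl⟩
  rw [← hqd] at hd
  refine ⟨q⁻¹, inv_mem hd, ?_⟩
  have hct : c * T.t * c⁻¹ = q * T.t := by rw [hqd, mul_assoc _ T.t T.t, T.ht, mul_one]
  have hqt : T.t * q * T.t = q⁻¹ := by
    have h : q * T.t * (q * T.t) = 1 := by
      rw [← hct, show c * T.t * c⁻¹ * (c * T.t * c⁻¹) = c * (T.t * T.t) * c⁻¹ by group, T.ht, mul_one, mul_inv_cancel]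
    exact (inv_eq_of_mul_eq_one_right (by rw [← h]; group)).symm
  have hq3 : q * q * q = 1 := by
    have := T.hQexp q hd
    rwa [pow_succ, pow_two] at this
  have hqt' : T.t * q = q⁻¹ * T.t := by
    calc T.t * q = T.t * q * (T.t * T.t) := by rw [T.ht, mul_one]
      _ = T.t * q * T.t * T.t := by group
      _ = _ := by rw [hqt]
  show q⁻¹⁻¹ * c * T.t = T.t * (q⁻¹⁻¹ * c)
  calc q⁻¹⁻¹ * c * T.t = q * (c * T.t * c⁻¹) * c := by group
    _ = q * q * (T.t * c) := by rw [hct]; group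
    _ = q * q * q * (q⁻¹ * T.t) * c := by group
    _ = T.t * q * c := by rw [hq3, one_mul, hqt']
    _ = _ := by group

/-- The part of the normal subgroup centralising the involution. -/
def E0 : Subgroup G := T.L₀ ⊓ centralizer ({T.t} : Set G)

/-- Its derived subgroup. -/
def E1 : Subgroup G := (commutator T.E0).map T.E0.subtype

theorem E0_le_L₀ : T.E0 ≤ T.L₀ := inf_le_left

theorem E1_le_E0 : T.E1 ≤ T.E0 := map_subtype_le _

theorem E0_comm {g : G} (hg : g ∈ T.E0) : Commute g T.t := mem_centralizer_singleton_iff.1 hg.2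

/-- The map onto the special linear group. -/
def f0 : T.E0 →* SL5 := T.ψ.comp (Subgroup.inclusion T.E0_le_L₀)

theorem f0_surj : Function.Surjective T.f0 := by
  intro y
  obtain ⟨⟨x, hx⟩, rfl⟩ := T.ψ_surj y
  obtain ⟨r, hr, hc⟩ := T.decomp (T.toData.L₀_le_L hx)
  refine ⟨⟨r⁻¹ * x, mem_inf.2 ⟨mul_mem (inv_mem (T.hQL hr)) hx, mem_centralizer_singleton_iff.2 hc⟩⟩, ?_⟩
  show T.ψ ((⟨r, T.hQL hr⟩ : T.L₀)⁻¹ * ⟨x, hx⟩) = _
  rw [map_mul, map_inv, (MonoidHom.mem_ker (f := T.ψ)).1 (T.ψ_ker ▸ mem_subgroupOf.2 hr), inv_one, one_mul]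

theorem Z_le_E0 : T.Z ≤ T.E0 := fun z hz => mem_inf.2 ⟨T.hQL (T.toData.Z_le_Q hz),
  mem_centralizer_singleton_iff.2 (mem_centralizer_iff.1 T.t_cent_Z z hz)⟩

theorem f0_ker {g : T.E0} : T.f0 g = 1 ↔ (g : G) ∈ T.Z := by
  constructor
  · intro h
    have hm : (⟨(g : G), T.E0_le_L₀ g.2⟩ : T.L₀) ∈ T.ψ.ker := h
    rw [T.ψ_ker, mem_subgroupOf] at hm
    exact T.cent_fix_Q hm (T.E0_comm g.2)
  · intro h
    show (⟨(g : G), T.E0_le_L₀ g.2⟩ : T.L₀) ∈ T.ψ.ker
    rw [T.ψ_ker, mem_subgroupOf]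
    exact T.toData.Z_le_Q h

theorem card_E0 : Nat.card T.E0 = 360 := by
  rw [card_of_hom T.f0 T.f0_surj T.Z_le_E0 (by ext g; exact T.f0_ker.trans mem_subgroupOf.symm), T.toData.card_Z]
  haveI : Fact (Nat.Prime 5) := ⟨by norm_num⟩
  rw [Cfsg.Lib.Classical.SLTwoTori.card_SL2, ZMod.card]
  norm_num

/-- The fixed part of the module. -/
def D : Subgroup G := T.J ⊓ centralizer ({T.t} : Set G)

theorem mem_D {v : Fin 81} : T.e v ∈ T.D ↔ dg v 1 = 0 ∧ dg v 2 = 0 := by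
  rw [← fix_sixteen.1 v]
  constructor
  · rintro ⟨-, h⟩
    refine T.e_inj ?_
    rw [← T.hta v]
    exact mul_inv_eq_iff_eq_mul.2 (mem_centralizer_singleton_iff.1 h).symm
  · intro h
    refine mem_inf.2 ⟨T.toFrame.e_mem v, mem_centralizer_singleton_iff.2 ?_⟩
    have := T.hta v
    rw [h] at this
    exact (mul_inv_eq_iff_eq_mul.1 this).symm

theorem card_D : Nat.card T.D = 9 := by
  classical
  let f : {v : Fin 81 // dg v 1 = 0 ∧ dg v 2 = 0} → T.D := fun v => ⟨T.e v.1, T.mem_D.2 v.2⟩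
  have hf : Function.Bijective f := by
    refine ⟨fun a b h => Subtype.ext (T.e_inj (congrArg Subtype.val h)), fun x => ?_⟩
    obtain ⟨v, hv⟩ := (T.memJ x).1 (x.2 : (x : G) ∈ T.D).1
    exact ⟨⟨v, T.mem_D.1 (hv.symm ▸ x.2)⟩, Subtype.ext hv⟩
  rw [← Nat.card_congr (Equiv.ofBijective f hf), Nat.card_eq_fintype_card, Fintype.card_subtype]
  exact fix_sixteen.2.2.2.2.2.2

theorem D_le_E0 : T.D ≤ T.E0 := fun x hx =>
  mem_inf.2 ⟨T.toData.S_le_L₀ (T.hJS hx.1), hx.2⟩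

theorem D_comm {a b : G} (ha : a ∈ T.D) (hb : b ∈ T.D) : a * b = b * a := T.toData.J_comm ha.1 hb.1

theorem index_D : (T.D.subgroupOf T.E0).index = 40 := by
  have h := (T.D.subgroupOf T.E0).card_mul_index
  rw [T.card_E0, Nat.card_congr (subgroupOfEquivOfLe T.D_le_E0).toEquiv, T.card_D] at h
  omega

/-- The derived subgroup meets the centre trivially. -/
theorem E1_inf_Z {g : G} (hg : g ∈ T.E1) (hz : g ∈ T.Z) : g = 1 := by
  letI : CommGroup ↥(T.D.subgroupOf T.E0) :=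
    { (inferInstance : Group ↥(T.D.subgroupOf T.E0)) with
      mul_comm := fun a b => Subtype.ext (Subtype.ext (T.D_comm (mem_subgroupOf.1 a.2) (mem_subgroupOf.1 b.2))) }
  obtain ⟨x, hx, rfl⟩ := hg
  let τ := MonoidHom.transfer (MonoidHom.id ↥(T.D.subgroupOf T.E0))
  have h1 : τ x = 1 := Abelianization.commutator_subset_ker τ hx
  have hcen : ∀ (k : ℕ) (g₀ : T.E0), g₀⁻¹ * x ^ k * g₀ = x ^ k := fun k g₀ => Subtype.ext (by
    show (g₀ : G)⁻¹ * ((x ^ k : T.E0) : G) * g₀ = ((x ^ k : T.E0) : G)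
    rw [SubgroupClass.coe_pow]
    have hk : (x : G) ^ k ∈ T.Z := pow_mem hz k
    rw [mul_assoc, mem_centralizer_iff.1 (T.toData.L₀_le_centralizer (T.E0_le_L₀ g₀.2)) _ hk, inv_mul_cancel_left])
  have h2 := MonoidHom.transfer_eq_pow (MonoidHom.id ↥(T.D.subgroupOf T.E0)) x fun k g₀ _ => hcen k g₀
  rw [h1] at h2
  have h3 : (x : G) ^ 40 = 1 := by
    have := congrArg (fun y : ↥(T.D.subgroupOf T.E0) => ((y : T.E0) : G)) h2
    rw [← T.index_D]
    exact this.symm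
  have h4 : (x : G) ^ 3 = 1 := T.hQexp _ (T.toData.Z_le_Q hz)
  calc (x : G) = ((x : G) ^ 3) ^ 13 * x := by rw [h4, one_pow, one_mul]
    _ = (x : G) ^ 40 := by rw [← pow_mul, ← pow_succ]
    _ = 1 := h3

theorem f0_E1_surj (y : SL5) : ∃ g : T.E0, (g : G) ∈ T.E1 ∧ T.f0 g = y := by
  have h : (commutator T.E0).map T.f0 = ⊤ := by
    rw [commutator_def, map_commutator, map_top_of_surjective _ T.f0_surj, ← commutator_def, sl5_perfect]
  obtain ⟨g, hg, rfl⟩ : y ∈ (commutator T.E0).map T.f0 := h ▸ mem_top _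
  exact ⟨g, ⟨g, hg, rfl⟩, rfl⟩

theorem f0_E1_inj {a b : T.E0} (ha : (a : G) ∈ T.E1) (hb : (b : G) ∈ T.E1) (h : T.f0 a = T.f0 b) : a = b := by
  have hz : ((b⁻¹ * a : T.E0) : G) ∈ T.Z := T.f0_ker.1 (by rw [map_mul, map_inv, h, inv_mul_cancel])
  have := T.E1_inf_Z (mul_mem (inv_mem hb) ha) hz
  exact Subtype.ext (inv_mul_eq_one.1 this).symm

end Top

end Cfsg.Lib.McLLocal
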