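import Cfsg.Agent.LocalThree.McLLocal.Top
import Cfsg.Agent.LocalThree.McLLocal.CodeData

/-!
The involution lies in the derived subgroup, with an element inverting the second point.
-/

set_option autoImplicit false
set_option linter.unusedSectionVars false
set_option maxRecDepth 100000
set_option synthInstance.maxSize 4096

namespace Cfsg.Lib.McLLocal

open Subgroup
open scoped Pointwise

universe u

variable {G : Type u} [Group G] [Finite G]

theorem Frame.code_unique (F : Frame G) {g : G} {k k' : Fin 64} (h : F.Acts g (actH k)) (h' : F.Acts g (actH k')) :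
    k = k' :=
  code_inj k k' fun v _ => congrFun (F.acts_unique h h') v

namespace Top

variable (T : Top G)

include T

theorem D_le_J : T.D ≤ T.J := inf_le_left

theorem e1_mem_D : T.e 1 ∈ T.D := T.mem_D.2 (by decide +kernel)

theorem e27_mem_D : T.e 27 ∈ T.D := T.mem_D.2 (by decide +kernel)

theorem W_comm_last {q : G} (hq : q ∈ T.Q) {v : Fin 81} (hv : T.e v ∈ T.D) (h3 : dg v 3 ≠ 0)
    (h : Commute q (T.e v)) : q ∈ T.J := by
  obtain ⟨p, hp⟩ := T.toFrame.S_acts (T.toData.Q_le_S hq)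
  have hfix : actU p v = v := T.e_inj (by rw [← hp v]; exact mul_inv_eq_iff_eq_mul.2 h.eq)
  obtain rfl := moved_last p v (T.mem_D.1 hv).1 (T.mem_D.1 hv).2 h3 hfix
  exact T.toFrame.ker fun u => by rw [hp u, actU_zero]; rfl

/-- Normalising the centre and the fixed part, one normalises the abelian subgroup. -/
theorem norm_D_M {c : G} (hc : c ∈ T.toData.L) (h : ∀ x ∈ T.D, c * x * c⁻¹ ∈ T.D) : c ∈ T.toData.M := by
  refine mem_normalizer_of_map_mem fun x hx => ?_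
  obtain ⟨v, rfl⟩ := (T.memJ x).1 hx
  obtain ⟨e, h3, h1, h2⟩ := split_vector v
  rw [e, T.e_add, conj_mul.symm]
  refine mul_mem ?_ (h _ (T.mem_D.2 ⟨h1, h2⟩)).1
  obtain ⟨hxJ, hxQ⟩ := (T.eW _).2 ⟨_, h3, rfl⟩
  obtain ⟨u, hu⟩ := (T.memJ _).1 (h _ T.e27_mem_D).1
  have hcq := (mem_normalizer_iff.1 (T.toData.L_le_norm_Q hc) _).1 hxQ
  refine T.W_comm_last hcq (v := u) (hu ▸ h _ T.e27_mem_D) (fun hu3 => ?_) ?_
  · have hW : c * T.e 27 * c⁻¹ ∈ T.Q := hu ▸ ((T.eW _).2 ⟨u, hu3, rfl⟩).2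
    have h27 := (mem_normalizer_iff.1 (T.toData.L_le_norm_Q (inv_mem hc)) _).1 hW
    rw [show c⁻¹ * (c * T.e 27 * c⁻¹) * c⁻¹⁻¹ = T.e 27 by group] at h27
    obtain ⟨w, hw3, hw⟩ := (T.eW _).1 ⟨T.toFrame.e_mem 27, h27⟩
    rw [T.e_inj hw] at hw3
    exact absurd hw3 (by decide +kernel)
  · rw [hu]
    exact (show Commute (T.e _) (T.e 27) from T.toData.J_comm hxJ (T.toFrame.e_mem 27)).conj c

theorem E1_cent_Z {g : G} (hg : g ∈ T.E1) : g ∈ centralizer (T.Z : Set G) :=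
  T.toData.L₀_le_centralizer (T.E0_le_L₀ (T.E1_le_E0 hg))

theorem e1_comm_of_cent {g : G} (hg : g ∈ centralizer (T.Z : Set G)) : g * T.e 1 * g⁻¹ = T.e 1 := by
  rw [← mem_centralizer_iff.1 hg (T.e 1) ((T.eZ _).2 ⟨1, rfl⟩), mul_inv_cancel_right]

theorem E1_comm_t {g : G} (hg : g ∈ T.E1) : Commute g T.t := T.E0_comm (T.E1_le_E0 hg)

theorem mem_E0_iff {g : G} : g ∈ T.E0 ↔ g ∈ T.L₀ ∧ g ∈ centralizer ({T.t} : Set G) := Iff.rfl

/-- The isomorphism. -/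
noncomputable def f1 : T.E1 →* SL5 := T.f0.comp (Subgroup.inclusion T.E1_le_E0)

theorem f1_bij : Function.Bijective T.f1 := by
  refine ⟨fun a b h => Subtype.ext ?_, fun y => ?_⟩
  · exact congrArg (fun g : T.E0 => (g : G)) (T.f0_E1_inj
      (a := Subgroup.inclusion T.E1_le_E0 a) (b := Subgroup.inclusion T.E1_le_E0 b) a.2 b.2 h)
  · obtain ⟨g, hg, rfl⟩ := T.f0_E1_surj y
    exact ⟨⟨g, hg⟩, rfl⟩

/-- The isomorphism as an equivalence. -/
noncomputable def eq1 : T.E1 ≃* SL5 := MulEquiv.ofBijective T.f1 T.f1_bij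

/-- Every element splits off a central part. -/
theorem E0_split {g : G} (hg : g ∈ T.E0) : ∃ z ∈ T.Z, ∃ e ∈ T.E1, g = z * e := by
  obtain ⟨a, ha, he⟩ := T.f0_E1_surj (T.f0 ⟨g, hg⟩)
  refine ⟨g * (a : G)⁻¹, ?_, a, ha, by group⟩
  exact T.f0_ker.1 (show T.f0 (⟨g, hg⟩ * a⁻¹) = 1 by rw [map_mul, map_inv, he, mul_inv_cancel])

/-- A vector of the derived subgroup, the inverting element and its action. -/
theorem exists_inv : ∃ y ∈ T.E1, ∃ k, T.Acts y (actH k) ∧ kFour k ∧ y * y = T.t ∧ T.e 27 ∈ T.E1 := by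
  obtain ⟨z, hz, g, hg, hzg⟩ := T.E0_split (T.D_le_E0 T.e27_mem_D)
  obtain ⟨a, ha⟩ := (T.eZ _).1 (inv_mem hz)
  obtain ⟨v, hvd⟩ : ∃ v, v = ad (sc a.val 1) 27 := ⟨_, rfl⟩
  have hgv : g = T.e v := by rw [hvd, T.e_add, ha, hzg, inv_mul_cancel_left]
  have hv3 : dg v 1 = 0 ∧ dg v 2 = 0 ∧ v ≠ 0 ∧ dg v 3 = 1 := by
    subst hvd
    exact (show ∀ b : Fin 3, dg (ad (sc b.val 1) 27) 1 = 0 ∧ dg (ad (sc b.val 1) 27) 2 = 0 ∧
      ad (sc b.val 1) 27 ≠ 0 ∧ dg (ad (sc b.val 1) 27) 3 = 1 by decide +kernel) a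
  have hgD : g ∈ T.D := hgv ▸ T.mem_D.2 ⟨hv3.1, hv3.2.1⟩
  have hg3 : g ^ 3 = 1 := T.hJexp g hgD.1
  obtain ⟨x, hx⟩ : ∃ x, x = T.eq1 ⟨g, hg⟩ := ⟨_, rfl⟩
  have hx1 : x ≠ 1 := fun h => T.toFrame.e_ne hv3.2.2.1
    (hgv ▸ congrArg Subtype.val (T.eq1.map_eq_one_iff.1 (hx ▸ h)))
  have hx3 : x * (x * x) = 1 := by
    rw [hx, ← map_mul, ← map_mul, show (⟨g, hg⟩ * (⟨g, hg⟩ * ⟨g, hg⟩) : T.E1) = 1 from
      Subtype.ext (by show g * (g * g) = 1; rw [← hg3, pow_succ, pow_two, mul_assoc]), map_one]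
  obtain ⟨s, hs⟩ := exists_inverter x hx3 hx1
  obtain ⟨⟨y, hy⟩, hys⟩ := T.eq1.surjective s
  have hyg : y * g * y⁻¹ = g⁻¹ := by
    have h : (⟨y, hy⟩ * ⟨g, hg⟩ * (⟨y, hy⟩ : T.E1)⁻¹) = (⟨g, hg⟩ : T.E1)⁻¹ := T.eq1.injective (by
      rw [map_mul, map_mul, map_inv, map_inv, hys, ← hx, hs])
    exact congrArg Subtype.val h
  have hyZ := T.E1_cent_Z hy
  have hy1 : y * T.e 1 * y⁻¹ = T.e 1 := T.e1_comm_of_cent hyZ
  have hyD : ∀ u ∈ T.D, y * u * y⁻¹ ∈ T.D := by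
    intro u hu
    obtain ⟨z', hz', g', hg', e⟩ := T.E0_split (T.D_le_E0 hu)
    have hz'D : z' ∈ T.D := by
      obtain ⟨k, rfl⟩ := (T.eZ _).1 hz'
      rw [T.toFrame.e_sc]
      exact pow_mem T.e1_mem_D _
    have hg'D : g' ∈ T.D := by
      have := mul_mem (inv_mem hz'D) hu
      rwa [e, inv_mul_cancel_left] at this
    -- the common part has order three
    have hcard : Nat.card ↥(T.D ⊓ T.E1) ≤ Nat.card (zpowers g) := by
      have hinf : Disjoint T.Z (T.D ⊓ T.E1) := disjoint_iff_inf_le.2 fun x hx => T.E1_inf_Z hx.2.2 hx.1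
      have hZD : T.Z ≤ T.D := fun x hx => by
        obtain ⟨k, rfl⟩ := (T.eZ _).1 hx
        rw [T.toFrame.e_sc]
        exact pow_mem T.e1_mem_D _
      let μ : ↥T.Z × ↥(T.D ⊓ T.E1) → ↥T.D := fun p => ⟨p.1 * p.2, mul_mem (hZD p.1.2) p.2.2.1⟩
      have hμ : Function.Injective μ := fun p q h => (Subgroup.mul_injective_of_disjoint hinf) (congrArg Subtype.val h)
      have := Nat.card_le_card_of_injective μ hμ
      rw [Nat.card_prod, T.toData.card_Z, T.card_D] at this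
      haveI := fact_three
      rw [Nat.card_zpowers, orderOf_eq_prime hg3 (hgv ▸ T.toFrame.e_ne hv3.2.2.1)]
      omega
    have heq : zpowers g = T.D ⊓ T.E1 := eq_of_le_of_card_ge (zpowers_le.2 ⟨hgD, hg⟩) hcard
    obtain ⟨n, hn⟩ := mem_zpowers_iff.1 (heq.symm ▸ (mem_inf.2 ⟨hg'D, hg'⟩) : g' ∈ zpowers g)
    rw [e, conj_mul.symm, ← mem_centralizer_iff.1 hyZ z' hz', mul_inv_cancel_right, ← hn, ← conj_zpow, hyg]
    exact mul_mem hz'D (zpow_mem (inv_mem hgD) _)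
  have hyM := T.norm_D_M (centralizer_le_normalizer _ hyZ) hyD
  obtain ⟨f, hf⟩ := T.toFrame.exists_acts hyM
  have f1 : f 1 = 1 := T.e_inj ((hf 1).symm.trans hy1)
  have fv : f v = ng v := T.e_inj (by rw [← hf v, T.toFrame.e_inv, ← hgv, hyg])
  have f27 : f 27 = ad (ng v) (ng (sc a.val 1)) := by
    have h := T.toFrame.acts_add hf (sc a.val 1) 27
    rw [← hvd, fv, T.toFrame.acts_sc hf, f1] at h
    have e : ∀ x : Fin 81, ∀ b : Fin 3, ad (ad (sc b.val 1) x) (ng (sc b.val 1)) = x := by decide +kernel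
    rw [h, e]
  have ha0 : a = 0 := anti_last a (hvd ▸ f27 ▸ T.toFrame.sing_acts hf named_vectors.2.2.2.2.2.1)
  subst ha0
  have hv27 : v = 27 := hvd.trans (by decide +kernel)
  have f27' : f 27 = 54 := f27.trans (by rw [hv27]; decide +kernel)
  obtain ⟨k, hk⟩ := T.toFrame.pair_acts hf (Or.inl ⟨Or.inl f1, Or.inr f27'⟩)
  have hfk := T.toFrame.acts_unique hf hk
  have hkZ : colZ k = 1 := by rw [← (named_vectors.2.2.2.2.2.2.2 k).1, ← hfk]; exact f1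
  have hkW : colW k = 54 := by rw [← (named_vectors.2.2.2.2.2.2.2 k).2.2.2, ← hfk]; exact f27'
  have hsq : T.eq1 (⟨y, hy⟩ * ⟨y, hy⟩) = negOne := by rw [map_mul, hys]; exact inverter_sq x hx3 hx1 s hs
  have h4 : y * y * (y * y) = 1 := by
    have h : (⟨y, hy⟩ * ⟨y, hy⟩ * (⟨y, hy⟩ * ⟨y, hy⟩) : T.E1) = 1 := T.eq1.injective (by
      rw [map_mul, hsq, negOne_facts.1, map_one])
    exact congrArg Subtype.val h
  have hk2 := T.toFrame.acts_H_mul hk hk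
  have hk4 : mulH (mulH k k) (mulH k k) = 0 :=
    T.toFrame.code_unique (T.toFrame.acts_H_mul hk2 hk2)
      (fun u => by rw [h4, actH_zero]; exact T.toFrame.acts_one u)
  have hF := anti_square k hkZ hkW hk4
  refine ⟨y, hy, k, hk, hF, ?_, hv27 ▸ hgv ▸ hg⟩
  have hc : Commute (y * y) T.t := (T.E1_comm_t hy).mul_left (T.E1_comm_t hy)
  obtain ⟨j, hjd⟩ : ∃ j, j = y * y * T.t := ⟨_, rfl⟩
  have hjJ : j ∈ T.J := by
    have h := T.toFrame.acts_H_mul hk2 T.hta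
    rw [hF.2, base_closed.2.2.2.2.2.2, ← hjd] at h
    exact T.toFrame.acts_zero h
  have hj2 : j * j = 1 := by
    rw [hjd, mul_assoc (y * y), ← mul_assoc T.t, ← hc.eq]
    calc y * y * (y * y * T.t * T.t) = y * y * (y * y) * (T.t * T.t) := by group
      _ = 1 := by rw [h4, T.ht, one_mul]
  have hj1 : j = 1 := by
    calc j = (j * j)⁻¹ * j ^ 3 := by group
      _ = 1 := by rw [hj2, T.hJexp j hjJ, inv_one, one_mul]
  rw [eq_inv_of_mul_eq_one_left (hjd.symm.trans hj1), T.t_inv]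

end Top

/-- With the inverting element. -/
structure Inv (G : Type u) [Group G] [Finite G] extends Top G where
  y : G
  k₀ : Fin 64
  y_mem : y ∈ toTop.E1
  y_acts : toTop.toFrame.Acts y (actH k₀)
  hk₀ : kFour k₀
  y_sq : y * y = toTop.t
  w_mem : toTop.e 27 ∈ toTop.E1

theorem exists_Inv (F : Frame G) : Nonempty (Inv G) := by
  obtain ⟨t, ht, ht2, ht1, hta⟩ := F.exists_invol
  let T : Top G := ⟨F, t, ht2, ht1, ht, hta⟩
  obtain ⟨y, hy, k, hk, hF, hsq, hw⟩ := T.exists_inv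
  exact ⟨⟨T, y, k, hy, hk, hF, hsq, hw⟩⟩

end Cfsg.Lib.McLLocal
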