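import Cfsg.Agent.LocalThree.McLLocal.WeakModel
import Cfsg.Agent.LocalThree.McLLocal.WeakTransfer
import Cfsg.Agent.LocalThree.EvenTripleModel

/-!
The centraliser of a nonsingular point lies in the normaliser of the abelian subgroup.
-/

set_option autoImplicit false
set_option linter.unusedSectionVars false
set_option maxRecDepth 100000
set_option synthInstance.maxSize 4096

namespace Cfsg.Lib.McLLocal

open Subgroup Cfsg.Lib.Monomial
open scoped Pointwise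

universe u

variable {G : Type u} [Group G] [Finite G]

theorem mult_three : (∀ c : Multiplicative (ZMod 3), c * c = 1 → c = 1) ∧
    (Multiplicative.ofAdd (1 : ZMod 3)) ^ 3 = 1 ∧ Multiplicative.ofAdd (1 : ZMod 3) ≠ 1 ∧
    (∀ c : Multiplicative (ZMod 3), ∃ n : Fin 3, c = Multiplicative.ofAdd (1 : ZMod 3) ^ n.val) ∧
    ∀ c : Multiplicative (ZMod 3), ∃ n : Fin 3, c = (Multiplicative.ofAdd (1 : ZMod 3) ^ 2) ^ n.val := by decide

namespace Inv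

variable (I : Inv G)

include I

theorem cent_Jb {t : I.C3 ⧸ I.A3} (ht : t ∈ I.Jb) (ht1 : t ≠ 1) : centralizer ({t} : Set (I.C3 ⧸ I.A3)) ≤ I.Hb := by
  intro q hq
  obtain ⟨j, hj, rfl⟩ := ht
  obtain ⟨g, rfl⟩ := QuotientGroup.mk'_surjective I.A3 q
  obtain ⟨v, hv⟩ := (I.memJ _).1 (mem_subgroupOf.1 hj)
  have hv3 : ∀ k : Fin 3, v ≠ sc k.val 3 := fun k h => ht1 (I.pj_one.2 (by
    rw [← hv, h, I.toFrame.e_sc]; exact pow_mem (mem_zpowers _) _))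
  have h1 : I.pj (g * j * g⁻¹ * j⁻¹) = 1 := by
    rw [map_mul, map_mul, map_mul, map_inv, map_inv, mem_centralizer_singleton_iff.1 hq, mul_inv_cancel_right,
      mul_inv_cancel]
  have h2 : (g : G) * I.e v * (g : G)⁻¹ * (I.e v)⁻¹ ∈ zpowers (I.e 3) := by
    rw [hv]; exact I.pj_one.1 h1
  obtain ⟨c, hc⟩ := (I.memJ _).1 (I.A3_le_J h2)
  rw [← hc, I.toFrame.mem_line mid_points.1] at h2
  obtain ⟨i, hi⟩ : ∃ i : Fin 3, c = sc i.val 3 := by
    rcases h2 with r | r | r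
    · exact ⟨0, r.trans (ad_facts 3).2.2.2.2.2.1.symm⟩
    · exact ⟨1, r.trans (ad_facts 3).2.2.2.2.1.symm⟩
    · exact ⟨2, r⟩
  refine I.mem_Hb.2 (I.cent_coset hv3 (I.C3_comm.1 g.2) (i := i) ?_)
  rw [← I.toFrame.e_sc, ← hi, hc, I.toData.J_comm (I.toFrame.e_mem v) (hc ▸ I.toFrame.e_mem c), inv_mul_cancel_right]

theorem closed_Jb : Cfsg.IsStronglyClosed I.Jb I.Hb := by
  refine ⟨I.Jb_le_Hb, fun x hx q hq => ?_⟩
  obtain ⟨j, hj, rfl⟩ := hx
  obtain ⟨g, rfl⟩ := QuotientGroup.mk'_surjective I.A3 q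
  obtain ⟨v, hv⟩ := (I.memJ _).1 (mem_subgroupOf.1 hj)
  rw [← map_inv, ← map_mul, ← map_mul, I.mem_Jb]
  rw [← map_inv, ← map_mul, ← map_mul, I.mem_Hb] at hq
  push_cast at hq ⊢
  rw [← hv] at hq ⊢
  exact I.closed (I.C3_comm.1 g.2) hq

theorem index_Hb : ¬ 3 ∣ I.Hb.index := by
  haveI := fact_three
  have hker : I.pj.ker ≤ I.toData.M.subgroupOf I.C3 := fun x hx =>
    mem_subgroupOf.2 (le_normalizer (I.A3_le_J (I.pj_one.1 (MonoidHom.mem_ker.1 hx))))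
  rw [show I.Hb.index = (I.toData.M.subgroupOf I.C3).index from
    Subgroup.index_map_eq _ (QuotientGroup.mk'_surjective I.A3) hker]
  have hle : zpowers (I.e 1) ≤ I.C3 := zpowers_le.2 (I.J_le_C3 (I.toFrame.e_mem 1))
  obtain ⟨P, hP⟩ := ((I.S.2.to_le I.hJS).to_le (zpowers_le.2 (I.toFrame.e_mem 1))
    |>.of_equiv (subgroupOfEquivOfLe hle).symm).exists_le_sylow
  have hPM : (P : Subgroup I.C3) ≤ I.toData.M.subgroupOf I.C3 := fun x hx => mem_subgroupOf.2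
    (I.pgroup_sing (P.2.map I.C3.subtype) (map_subtype_le _) named_vectors.2.2.2.2.1
      ⟨⟨I.e 1, hle (mem_zpowers _)⟩, hP (mem_subgroupOf.2 (mem_zpowers _)), rfl⟩ ⟨x, hx, rfl⟩)
  exact fun h => P.not_dvd_index (h.trans (index_dvd_of_le hPM))

/-- The normaliser's image as a monomial group. -/
noncomputable def modelEquiv : I.MonR ≃* I.Hb :=
  (MonoidHom.ofInjective I.model_injective).trans (MulEquiv.subgroupCongr I.model_range)

theorem modelEquiv_apply (k : I.MonR) : (I.modelEquiv k : I.C3 ⧸ I.A3) = I.model k := rfl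

theorem model_symm (x : I.Hb) : I.model (I.modelEquiv.symm x) = x := by
  rw [← modelEquiv_apply, MulEquiv.apply_symm_apply]

theorem Hb_top_B (hA : ¬ I.CaseA) : I.Hb = ⊤ := by
  have hR : I.MonR = ⊤ := eq_top_iff.2 fun k _ h => absurd h hA
  obtain ⟨φ, hφ⟩ : ∃ φ : I.Hb ≃* Mon, φ = I.modelEquiv.symm.trans ((MulEquiv.subgroupCongr hR).trans Subgroup.topEquiv) :=
    ⟨_, rfl⟩
  exact Monomial.Setup.main
    { φ := φ
      memJ := fun x => by
        rw [hφ, ← I.model_symm x, I.model_mem_Jb]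
        exact Iff.rfl
      hC := fun j hj hj1 => I.cent_Jb hj hj1
      hsc := I.closed_Jb }

theorem Hb_top_A (hA : I.CaseA) : I.Hb = ⊤ := by
  classical
  haveI := fact_three
  obtain ⟨χ₀, hχ₀⟩ : ∃ χ₀ : I.MonR →* Multiplicative (ZMod 3),
      ∀ k, χ₀ k = Multiplicative.ofAdd ((pc (k : Mon).a : ℕ) : ZMod 3) :=
    ⟨MonoidHom.mk' (fun k => Multiplicative.ofAdd ((pc (k : Mon).a : ℕ) : ZMod 3)) fun x y => by
      rw [← ofAdd_add, ← Nat.cast_add, Equiv.apply_eq_iff_eq, ZMod.natCast_eq_natCast_iff']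
      exact even_closed.2.2.2.1 _ _ (x.2 hA) (y.2 hA), fun _ => rfl⟩
  obtain ⟨χ, hχ⟩ : ∃ χ : I.Hb →* Multiplicative (ZMod 3), χ = χ₀.comp I.modelEquiv.symm.toMonoidHom := ⟨_, rfl⟩
  have hχe : ∀ x : I.Hb, χ x = Multiplicative.ofAdd ((pc ((I.modelEquiv.symm x : I.MonR) : Mon).a : ℕ) : ZMod 3) :=
    fun x => by rw [hχ]; exact hχ₀ _
  have hχ4 : ∀ x : I.Hb, χ x = 1 ↔ ((I.modelEquiv.symm x : I.MonR) : Mon).a.val < 4 := by
    intro x
    have hev := (I.modelEquiv.symm x).2 hA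
    rw [hχe, ofAdd_eq_one, ZMod.natCast_eq_zero_iff, ← even_closed.2.2.2.2.2 _ hev]
    exact ⟨fun h => Nat.eq_zero_of_dvd_of_lt h (even_closed.2.2.2.2.1 _ hev), fun h => h ▸ dvd_zero 3⟩
  have hχJ : ∀ x : I.Hb, (x : I.C3 ⧸ I.A3) ∈ I.Jb → χ x = 1 := by
    intro x hx
    rw [hχ4]
    rw [← I.model_symm x, I.model_mem_Jb] at hx
    rw [show ((I.modelEquiv.symm x : I.MonR) : Mon).a = oneA from hx]
    decide +kernel
  -- the element of order three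
  obtain ⟨q, hqQ, hqa⟩ := I.uQ 3
  have hqact : I.MonAct q 15 := fun v => by rw [hqa v, monT_gens.1]
  have hq3 : q ^ 3 = 1 := I.hQexp _ hqQ
  have hq1 : Commute q (I.e 1) :=
    mul_inv_eq_iff_eq_mul.1 ((hqa 1).trans (congrArg I.e (named_vectors.2.2.2.2.2.2.1 3).1))
  have hqc : Commute q (I.e 3) := mul_inv_eq_iff_eq_mul.1 (I.monAct_three hqact)
  have hqC : q ∈ I.C3 := I.C3_comm.2 (I.monAct_three hqact)
  obtain ⟨y, hy⟩ : ∃ y, y = I.pj ⟨q, hqC⟩ := ⟨_, rfl⟩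
  have hyH : y ∈ I.Hb := hy ▸ I.mem_Hb.2 (I.monAct_M hqact)
  have hyχ : χ ⟨y, hyH⟩ = Multiplicative.ofAdd 1 := by
    rw [hχe]
    obtain ⟨k, hk⟩ : ∃ k, k = I.modelEquiv.symm ⟨y, hyH⟩ := ⟨_, rfl⟩
    rw [← hk]
    have h15 : k.1.a = 15 := by
      have h := I.model_symm ⟨y, hyH⟩
      rw [← hk, model_apply] at h
      have hz := I.pj_eq.1 (h.trans hy)
      refine I.monAct_unique (I.model_act k) ?_
      obtain ⟨w, hw⟩ : ∃ w, w = (I.e (emb k.1.v) * I.kk k)⁻¹ * q := ⟨_, rfl⟩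
      have e : I.e (emb k.1.v) * I.kk k = q * w⁻¹ := by rw [hw]; group
      have := I.monAct_mul hqact (I.monAct_J (inv_mem (I.A3_le_J (hw ▸ hz : w ∈ zpowers (I.e 3)))))
      rw [(Monomial.mulA_one _).2.1] at this
      exact e ▸ this
    rw [h15, gens_reach.2.2.2.2.2.1, Nat.cast_one]
  have hy3 : y ^ 3 = 1 := by
    rw [hy, ← map_pow, show (⟨q, hqC⟩ : I.C3) ^ 3 = 1 from Subtype.ext (by simpa using hq3), map_one]
  have key : ∀ (k : ℕ) (g₀ : I.C3 ⧸ I.A3) (hk : g₀⁻¹ * y ^ k * g₀ ∈ I.Hb),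
      χ ⟨g₀⁻¹ * y ^ k * g₀, hk⟩ = χ ⟨y, hyH⟩ ^ k := by
    intro k g₀ hk
    obtain ⟨g, hg⟩ := QuotientGroup.mk'_surjective I.A3 g₀⁻¹
    have hg0 : g₀ = I.pj g⁻¹ := by rw [map_inv, hg, inv_inv]
    have he : g₀⁻¹ * y ^ k * g₀ = I.pj (g * ⟨q, hqC⟩ ^ k * g⁻¹) := by
      rw [map_mul, map_mul, map_pow, ← hy, hg, ← hg0]
    have hM : (g : G) * q ^ k * (g : G)⁻¹ ∈ I.toData.M := by
      have := I.mem_Hb.1 (he ▸ hk)
      simpa using this
    obtain ⟨h, hhM, hh3, hhq⟩ := I.fused (q := q ^ k) (by rw [← pow_mul, mul_comm, pow_mul, hq3, one_pow])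
      (hqc.pow_left k) (hq1.pow_left k) (I.C3_comm.1 g.2) hM
    obtain ⟨p, hp⟩ : ∃ p, p = I.pj ⟨h, I.C3_comm.2 hh3⟩ := ⟨_, rfl⟩
    have hpH : p ∈ I.Hb := hp ▸ I.mem_Hb.2 hhM
    have e : (⟨g₀⁻¹ * y ^ k * g₀, hk⟩ : I.Hb) = ⟨p, hpH⟩ * ⟨y, hyH⟩ ^ k * (⟨p, hpH⟩ : I.Hb)⁻¹ := by
      refine Subtype.ext ?_
      show g₀⁻¹ * y ^ k * g₀ = p * y ^ k * p⁻¹
      rw [he, hp, hy, ← map_pow, ← map_inv, ← map_mul, ← map_mul]
      exact congrArg I.pj (Subtype.ext (by simpa using hhq.symm))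
    rw [e, map_mul, map_mul, map_inv, map_pow, mul_comm (χ ⟨p, hpH⟩), mul_inv_cancel_right]
  obtain ⟨τ, hτ⟩ : ∃ τ : I.C3 ⧸ I.A3 →* Multiplicative (ZMod 3), τ = MonoidHom.transfer χ := ⟨_, rfl⟩
  have hτy : τ y = Multiplicative.ofAdd 1 ^ I.Hb.index := by rw [hτ, transfer_eq_index χ hyH key, hyχ]
  have hτJ : ∀ x ∈ I.Jb, τ x = 1 := by
    intro x hx
    rw [hτ, transfer_eq_index χ (I.Jb_le_Hb hx), hχJ _ hx, one_pow]
    intro k g₀ hk
    rw [hχJ ⟨x, _⟩ hx, one_pow]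
    refine hχJ _ ?_
    have := I.closed_Jb.2 (x ^ k) (pow_mem hx k) g₀⁻¹ (by rwa [inv_inv])
    rwa [inv_inv] at this
  have hτ4 : ∀ x : I.Hb, χ x = 1 → τ x = 1 := by
    intro x hx
    obtain ⟨k, hk⟩ : ∃ k, k = I.modelEquiv.symm x := ⟨_, rfl⟩
    have ha := (hχ4 x).1 hx
    rw [← hk] at ha
    have hsq : (x : I.C3 ⧸ I.A3) * x ∈ I.Jb := by
      rw [← I.model_symm x, ← hk, ← map_mul, I.model_mem_Jb]
      exact (four_closed.2.1 _ ha).2
    have h1 := hτJ _ hsq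
    rw [map_mul] at h1
    exact mult_three.1 _ h1
  have hgen : ∀ c : Multiplicative (ZMod 3), ∃ n : ℕ, c = (τ y) ^ n := by
    intro c
    rw [hτy]
    obtain ⟨r, hr⟩ : ∃ r, r = I.Hb.index % 3 := ⟨_, rfl⟩
    have hr0 : r ≠ 0 := fun h => I.index_Hb (Nat.dvd_of_mod_eq_zero (hr ▸ h))
    have hp : (Multiplicative.ofAdd (1 : ZMod 3)) ^ I.Hb.index = Multiplicative.ofAdd (1 : ZMod 3) ^ r := by
      rw [hr]; exact pow_eq_pow_mod _ mult_three.2.1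
    rw [hp]
    have hr3 : r < 3 := hr ▸ Nat.mod_lt _ (by norm_num)
    obtain rfl | h2 : r = 1 ∨ r = 2 := by omega
    · obtain ⟨n, hn⟩ := mult_three.2.2.2.1 c
      exact ⟨n.val, by rw [pow_one]; exact hn⟩
    · obtain ⟨n, hn⟩ := mult_three.2.2.2.2 c
      exact ⟨n.val, by rw [h2]; exact hn⟩
  have hker : ∀ x : I.Hb, τ x = 1 → χ x = 1 := by
    intro x hx
    obtain ⟨n, hn⟩ : ∃ n : Fin 3, χ x = Multiplicative.ofAdd (1 : ZMod 3) ^ n.val := mult_three.2.2.2.1 _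
    have h0 : χ (x * ((⟨y, hyH⟩ : I.Hb) ^ n.val)⁻¹) = 1 := by rw [map_mul, map_inv, map_pow, hyχ, hn, mul_inv_cancel]
    have h := hτ4 _ h0
    rw [show ((x * ((⟨y, hyH⟩ : I.Hb) ^ n.val)⁻¹ : I.Hb) : I.C3 ⧸ I.A3) = (x : I.C3 ⧸ I.A3) * (y ^ n.val)⁻¹ from rfl,
      map_mul, map_inv, map_pow, hx, one_mul, inv_eq_one, hτy, ← pow_mul] at h
    have ho : orderOf (Multiplicative.ofAdd (1 : ZMod 3)) = 3 := orderOf_eq_prime mult_three.2.1 mult_three.2.2.1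
    have hd : 3 ∣ I.Hb.index * n.val := by
      have := orderOf_dvd_of_pow_eq_one h
      rwa [ho] at this
    have hn0 : n.val = 0 := Nat.eq_zero_of_dvd_of_lt ((Nat.prime_three.dvd_mul.1 hd).resolve_left I.index_Hb) n.isLt
    rw [hn, hn0, pow_zero]
  -- the subgroup of index three
  obtain ⟨H1, hH1⟩ : ∃ H1 : Subgroup τ.ker, H1 = I.Hb.subgroupOf τ.ker := ⟨_, rfl⟩
  obtain ⟨T1, hT1⟩ : ∃ T1 : Subgroup τ.ker, T1 = I.Jb.subgroupOf τ.ker := ⟨_, rfl⟩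
  have hJker : I.Jb ≤ τ.ker := fun x hx => MonoidHom.mem_ker.2 (hτJ x hx)
  let σ : four →* τ.ker := (I.model.comp (Subgroup.inclusion I.four_le_MonR)).codRestrict τ.ker fun k => by
    refine MonoidHom.mem_ker.2 ?_
    obtain ⟨x, hx⟩ : ∃ x : I.Hb, x = I.modelEquiv (Subgroup.inclusion I.four_le_MonR k) := ⟨_, rfl⟩
    have h := hτ4 x ((hχ4 x).2 (by rw [hx, MulEquiv.symm_apply_apply]; exact k.2))
    rw [hx] at h
    exact h
  have hσ : Function.Injective σ := fun a b h => Subgroup.inclusion_injective _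
    (I.model_injective (congrArg Subtype.val h))
  have hσr : σ.range = H1 := by
    rw [hH1]
    apply le_antisymm
    · rintro _ ⟨k, rfl⟩
      exact mem_subgroupOf.2 (I.model_range ▸ ⟨_, rfl⟩)
    · intro x hx
      obtain ⟨k, hk⟩ : ∃ k : I.Hb, k = ⟨_, mem_subgroupOf.1 hx⟩ := ⟨_, rfl⟩
      have ha := (hχ4 k).1 (hker k (by rw [hk]; exact MonoidHom.mem_ker.1 x.2))
      refine ⟨⟨((I.modelEquiv.symm k : I.MonR) : Mon), ha⟩, Subtype.ext ?_⟩
      show I.model (Subgroup.inclusion I.four_le_MonR ⟨_, ha⟩) = (x : I.C3 ⧸ I.A3)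
      rw [show Subgroup.inclusion I.four_le_MonR ⟨((I.modelEquiv.symm k : I.MonR) : Mon), ha⟩ = I.modelEquiv.symm k from rfl,
        I.model_symm, hk]
  have hTH : T1 ≤ H1 := hT1 ▸ hH1 ▸ fun x hx => mem_subgroupOf.2 (I.Jb_le_Hb (mem_subgroupOf.1 hx))
  have hTc : Nat.card T1 = 27 := by
    rw [hT1, Nat.card_congr (subgroupOfEquivOfLe hJker).toEquiv]
    have e : Nat.card I.Jb = Nat.card {k : I.MonR // InV (k : Mon)} := by
      refine (Nat.card_congr (Equiv.ofBijective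
        (fun k : {k : I.MonR // InV (k : Mon)} => (⟨I.model k.1, (I.model_mem_Jb k.1).2 k.2⟩ : I.Jb))
        ⟨fun a b h => Subtype.ext (I.model_injective (congrArg Subtype.val h)), fun x => ?_⟩)).symm
      obtain ⟨k, hk⟩ : (x : I.C3 ⧸ I.A3) ∈ I.model.range := I.model_range.symm ▸ I.Jb_le_Hb x.2
      exact ⟨⟨k, (I.model_mem_Jb k).1 (hk ▸ x.2)⟩, Subtype.ext hk⟩
    rw [e, ← card_inV, ← Nat.card_eq_finsetCard]
    exact Nat.card_congr
      { toFun := fun k => ⟨k.1.1, Finset.mem_filter.2 ⟨Finset.mem_univ _, k.2⟩⟩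
        invFun := fun k => ⟨⟨k.1, fun _ => by rw [(Finset.mem_filter.1 k.2).2]; exact even_closed.2.2.1⟩,
          (Finset.mem_filter.1 k.2).2⟩
        left_inv := fun _ => rfl
        right_inv := fun _ => rfl }
  have hN : normalizer (T1 : Set τ.ker) = H1 := by
    apply le_antisymm
    · intro x hx
      rw [hH1, mem_subgroupOf]
      obtain ⟨g, hg⟩ := QuotientGroup.mk'_surjective I.A3 (x : I.C3 ⧸ I.A3)
      rw [← hg, I.mem_Hb]
      refine mem_normalizer_of_map_mem fun j hj => ?_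
      have hjb : I.pj ⟨j, I.J_le_C3 hj⟩ ∈ I.Jb := I.mem_Jb.2 hj
      have h := (mem_normalizer_iff.1 hx ⟨_, hJker hjb⟩).1 (hT1 ▸ mem_subgroupOf.2 hjb)
      rw [hT1, mem_subgroupOf] at h
      push_cast at h
      rw [← hg, ← map_inv, ← map_mul, ← map_mul, I.mem_Jb] at h
      exact h
    · intro x hx
      rw [hH1, mem_subgroupOf] at hx
      refine mem_normalizer_of_map_mem fun j hj => ?_
      rw [hT1, mem_subgroupOf] at hj ⊢
      exact I.closed_Jb.2 _ hj _ (mul_mem (mul_mem hx (I.Jb_le_Hb hj)) (inv_mem hx))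
  have hC : ∀ t ∈ T1, t ≠ 1 → centralizer ({t} : Set τ.ker) ≤ H1 := by
    intro t ht ht1 x hx
    rw [hH1, mem_subgroupOf]
    exact I.cent_Jb (mem_subgroupOf.1 (hT1 ▸ ht)) (fun e => ht1 (Subtype.ext e))
      (mem_centralizer_singleton_iff.2 (congrArg Subtype.val (mem_centralizer_singleton_iff.1 hx)))
  have hiso : Nonempty (H1 ≃* ↥(Subgroup.closure ({Equiv.swap (0 : Fin 9) 1 * Equiv.swap 1 2,
      Equiv.swap (3 : Fin 9) 4 * Equiv.swap 4 5, Equiv.swap (6 : Fin 9) 7 * Equiv.swap 7 8,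
      Equiv.swap (0 : Fin 9) 1 * Equiv.swap 3 4, Equiv.swap (0 : Fin 9) 1 * Equiv.swap 6 7} :
      Set (Equiv.Perm (Fin 9))))) :=
    ⟨((MulEquiv.subgroupCongr hσr.symm).trans (MonoidHom.ofInjective hσ).symm).trans
      ((four.equivMapOfInjective _ Monomial.toNine_injective).trans (MulEquiv.subgroupCongr four_image.symm))⟩
  obtain ⟨E⟩ := Cfsg.Lib.EvenTriple.exists_setup H1 T1 hiso hTH hTc hN hC
  have htop := E.main
  rw [eq_top_iff]
  intro x _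
  obtain ⟨n, hn⟩ := hgen (τ x)
  have h1 : x * (y ^ n)⁻¹ ∈ τ.ker := MonoidHom.mem_ker.2 (by rw [map_mul, map_inv, map_pow, ← hn, mul_inv_cancel])
  have h2 : (⟨_, h1⟩ : τ.ker) ∈ H1 := htop ▸ mem_top _
  rw [hH1, mem_subgroupOf] at h2
  have := mul_mem h2 (pow_mem hyH n)
  rwa [inv_mul_cancel_right] at this

/-- The centraliser of the nonsingular point. -/
theorem C3_le_M : I.C3 ≤ I.toData.M := by
  intro g hg
  have h : I.Hb = ⊤ := by
    by_cases hA : I.CaseA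
    · exact I.Hb_top_A hA
    · exact I.Hb_top_B hA
  exact (I.mem_Hb (x := ⟨g, hg⟩)).1 (h ▸ mem_top _)

/-- The condition on nonsingular points. -/
theorem pointCond : I.toFrame.PointCond := by
  intro v hv0 hv g hg
  obtain ⟨m, hm, u, hu, e⟩ := I.toFrame.to_mid hv0 hv
  obtain ⟨h, hh, hu3⟩ := mid_realised I.k₀ I.hk₀ u hu
  obtain ⟨r, hr, hra⟩ := I.exists_A h hh
  have hrM : r * m ∈ I.toData.M := mul_mem hr.2 (I.toData.M₀_le_M hm)
  have h3 : r * m * I.e v * (r * m)⁻¹ = I.e 3 := by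
    rw [show r * m * I.e v * (r * m)⁻¹ = r * (m * I.e v * m⁻¹) * r⁻¹ by group, e, hra u, hu3]
  have := mul_mem (mul_mem (inv_mem hrM) (I.C3_le_M (I.toFrame.conj_cent h3 hg))) hrM
  rwa [show (r * m)⁻¹ * (r * m * g * (r * m)⁻¹) * (r * m) = g by group] at this

end Inv

end Cfsg.Lib.McLLocal
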