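import Cfsg.Agent.LocalThree.McLLocal.CodeData
import Cfsg.Agent.LocalThree.McLLocal.PointData
import Cfsg.Agent.LocalThree.McLLocal.SLData

/-!
Computations for the centralisers of nonsingular points.
-/

set_option autoImplicit false
set_option maxRecDepth 100000
set_option synthInstance.maxSize 4096

namespace Cfsg.Lib.McLLocal

open Matrix

/-- The double of a member of the radical. -/
def dbl (p : Fin 9) : Fin 9 := Fin.ofNat 9 (2 * (p.val % 3) % 3 + 3 * (2 * (p.val / 3) % 3))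

theorem cube_sum : ∀ p : Fin 9, p ≠ 0 → ∀ v : Fin 81,
    ad v (ad (actU p v) (actU p (actU p v))) = 0 → dg v 3 = 0 := by decide +kernel

theorem W_sing : ∀ v : Fin 81, dg v 3 = 0 → Sing v → v = 1 ∨ v = 2 := by decide +kernel

theorem two_fix : ∀ p : Fin 9, p ≠ 0 → ∀ p' : Fin 9, p' = 0 ∨ p' = p ∨ p' = dbl p ∨
    ∀ v, actU p v = v → actU p' v = v → v = 0 ∨ v = 1 ∨ v = 2 := by decide +kernel

theorem actU_inj : ∀ p p' : Fin 9, (∀ v ∈ basis4, actU p v = actU p' v) → p = p' := by decide +kernel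

theorem sing_fixed : ∀ p : Fin 9, ∀ v, Sing v → dg v 3 ≠ 0 → actU p v = v → p = 0 := by decide +kernel

theorem line_meets : ∀ u : Fin 81, dg u 3 ≠ 0 → ∃ i : Fin 3, Sing (ad u (sc i.val 1)) ∧ dg (ad u (sc i.val 1)) 3 ≠ 0 := by
  decide +kernel

theorem mid_realised : ∀ k : Fin 64, kFour k → ∀ v, Mid v → ∃ h ∈ codesA k, actH h v = 3 := by decide +kernel

set_option synthInstance.maxHeartbeats 400000 in
theorem q_pair : ∀ a b c d : ZMod 5, qd (a, b, c, d) = 1 →
    qm (a, b, c, d) (qm (a, b, c, d) (a, b, c, d)) = (1, 0, 0, 1) →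
      ((a, b, c, d) ∈ ([(1, 0, 0, 1), x5, qm x5 x5] : List Quad5)) ∨
      qm (qm x5 (a, b, c, d)) (qm x5 (a, b, c, d)) = (4, 0, 0, 4) ∨
      qm (qm x5 (a, b, c, d)) (qm (qm x5 (a, b, c, d)) (qm x5 (a, b, c, d))) = (4, 0, 0, 4) ∨
      qm (qm (qm x5 (a, b, c, d)) (qm x5 (a, b, c, d)))
        (qm (qm x5 (a, b, c, d)) (qm (qm x5 (a, b, c, d)) (qm x5 (a, b, c, d)))) = (4, 0, 0, 4) := by decide +kernel

/-- Two elements of order three generating different subgroups generate the central involution. -/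
theorem three_pair (x y : SL5) (hx : x * (x * x) = 1) (hx1 : x ≠ 1) (hy : y * (y * y) = 1) :
    y ∈ ([1, x, x * x] : List SL5) ∨ ∃ k : ℕ, (x * y) ^ k = negOne := by
  obtain ⟨c, hc⟩ := three_conj x hx hx1
  obtain ⟨z, hz⟩ : ∃ z, z = c⁻¹ * y * c := ⟨_, rfl⟩
  have hy' : y = c * z * c⁻¹ := by rw [hz]; group
  have hz3 : z * (z * z) = 1 := by
    rw [hz, show c⁻¹ * y * c * (c⁻¹ * y * c * (c⁻¹ * y * c)) = c⁻¹ * (y * (y * y)) * c by group, hy]
    group
  have hpow : ∀ k, (xSL * z) ^ k = negOne → (x * y) ^ k = negOne := fun k hk => by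
    rw [← hc, hy', show c * xSL * c⁻¹ * (c * z * c⁻¹) = c * (xSL * z) * c⁻¹ by group, conj_pow, hk,
      ← negOne_facts.2.2 c, mul_inv_cancel_right]
  have h := q_pair _ _ _ _ (en_det z) (show qm (en z) (qm (en z) (en z)) = _ by rw [← en_mul, ← en_mul, hz3, en_one])
  have e2 : en negOne = ((4, 0, 0, 4) : Quad5) := en_mkq _ _
  have e1 : en xSL = x5 := en_mkq _ _
  rcases h with h | h | h | h
  · refine Or.inl ?_
    change en z ∈ _ at h
    simp only [List.mem_cons, List.not_mem_nil, or_false] at h ⊢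
    rcases h with r | r | r
    · exact Or.inl (by rw [hy', en_inj (r.trans en_one.symm)]; group)
    · exact Or.inr (Or.inl (by rw [hy', en_inj (r.trans e1.symm), hc]))
    · refine Or.inr (Or.inr ?_)
      rw [hy', en_inj (r.trans (show qm x5 x5 = en (xSL * xSL) by rw [en_mul, e1])), ← hc]
      group
  · refine Or.inr ⟨2, hpow 2 (en_inj ?_)⟩
    simp only [pow_two, en_mul, e1, e2]
    exact h
  · refine Or.inr ⟨3, hpow 3 (en_inj ?_)⟩
    simp only [pow_succ', pow_zero, mul_one, en_mul, e1, e2]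
    exact h
  · refine Or.inr ⟨5, hpow 5 (en_inj ?_)⟩
    have e5 : ∀ w : SL5, w ^ 5 = w * w * (w * (w * w)) := fun w => by simp [pow_succ, mul_assoc]
    simp only [e5, en_mul, e1, e2]
    exact h

/-- Representatives of the ten subgroups of order three. -/
def tenQ : Fin 10 → Quad5 :=
  ![(0, 1, 4, 4), (0, 2, 2, 4), (0, 3, 3, 4), (0, 4, 1, 4), (1, 1, 2, 3), (1, 2, 1, 3), (1, 3, 4, 3), (1, 4, 3, 3),
    (2, 1, 3, 2), (2, 2, 4, 2)]

theorem tenQ_facts : (∀ i, qd (tenQ i) = 1) ∧ (∀ i, qm (tenQ i) (qm (tenQ i) (tenQ i)) = (1, 0, 0, 1)) ∧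
    (∀ i, tenQ i ≠ (1, 0, 0, 1)) ∧ ∀ i j, (tenQ i = tenQ j ∨ tenQ i = qm (tenQ j) (tenQ j)) → i = j := by
  decide +kernel

/-- Ten conjugates of the standard element generate different subgroups. -/
theorem exists_ten : ∃ g : Fin 10 → SL5, ∀ i j,
    (g i * xSL * (g i)⁻¹ = g j * xSL * (g j)⁻¹ ∨ g i * xSL * (g i)⁻¹ = g j * (xSL * xSL) * (g j)⁻¹) → i = j := by
  obtain ⟨hd, h3, h1, hsep⟩ := tenQ_facts
  have hex : ∀ i, ∃ g : SL5, g * xSL * g⁻¹ = mkq (tenQ i) (hd i) := fun i =>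
    three_conj _ (en_inj (by rw [en_mul, en_mul, en_mkq, en_one]; exact h3 i))
      (fun h => h1 i (by rw [← en_one, ← h, en_mkq]))
  choose g hg using hex
  refine ⟨g, fun i j h => hsep i j ?_⟩
  rw [hg i, hg j, show g j * (xSL * xSL) * (g j)⁻¹ = g j * xSL * (g j)⁻¹ * (g j * xSL * (g j)⁻¹) by group, hg j] at h
  rcases h with h | h
  · exact Or.inl (by simpa [en_mkq] using congrArg en h)
  · exact Or.inr (by simpa [en_mul, en_mkq] using congrArg en h)

end Cfsg.Lib.McLLocal
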