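import Cfsg.Agent.LocalThree.McLLocal.NormD
import Cfsg.Agent.LocalThree.McLLocal.WeakData

/-!
Fusion of singular points and the centralisers of pairs of points, from the two local subgroups alone.
-/

set_option autoImplicit false
set_option linter.unusedSectionVars false
set_option maxRecDepth 100000
set_option synthInstance.maxSize 4096

namespace Cfsg.Lib.McLLocal

open Subgroup
open scoped Pointwise

universe u

variable {G : Type u} [Group G] [Finite G]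

/-- The conjugates of the generator of the centre. -/
def Frame.IsC (F : Frame G) (x : G) : Prop := ∃ g, g * F.e 1 * g⁻¹ = x

namespace Frame

variable (F : Frame G)

include F

/-- The only abelian subgroup of its order in the Sylow subgroup. -/
theorem abelian_eq {A : Subgroup G} (hA : A ≤ (F.S : Subgroup G)) (hc : ∀ a ∈ A, ∀ b ∈ A, a * b = b * a)
    (h81 : 81 ≤ Nat.card A) : A = F.J := by
  classical
  choose f hf using fun a : A => F.S_acts (hA a.2)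
  have hsame : ∀ a b : A, f a = f b → (b : G)⁻¹ * a ∈ F.J := by
    intro a b h
    refine F.ker fun v => ?_
    show (b : G)⁻¹ * a * F.e v * ((b : G)⁻¹ * a)⁻¹ = F.e v
    calc (b : G)⁻¹ * a * F.e v * ((b : G)⁻¹ * a)⁻¹ = (b : G)⁻¹ * (a * F.e v * (a : G)⁻¹) * b := by group
      _ = (b : G)⁻¹ * (b * F.e v * (b : G)⁻¹) * b := by rw [hf a v, h, ← hf b v]
      _ = F.e v := by group
  by_cases hall : ∀ a, f a = 0
  · refine eq_of_le_of_card_ge (fun a ha => ?_) (by rw [F.hJcard]; exact h81)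
    have h1 : f 1 = f ⟨a, ha⟩ := by rw [hall, hall]
    simpa using inv_mem (hsame _ _ h1)
  exfalso
  simp only [not_forall] at hall
  obtain ⟨a₀, ha₀⟩ := hall
  have bound : ∀ (P : Finset (Fin 9)) (V : Finset (Fin 81)), (∀ a, f a ∈ P) →
      (∀ v, F.e v ∈ A → v ∈ V) → Nat.card A ≤ P.card * V.card := by
    intro P V hP hV
    have hrep : ∀ p : P, ∃ b : A, ∀ a, f a = p.1 → (b : G)⁻¹ * a ∈ F.J := fun p => by
      by_cases h : ∃ b, f b = p.1
      · obtain ⟨b, hb⟩ := h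
        exact ⟨b, fun a ha => hsame a b (ha.trans hb.symm)⟩
      · exact ⟨1, fun a ha => absurd ⟨a, ha⟩ h⟩
    choose r hr using hrep
    choose c hc' using fun a : A => (F.memJ _).1 (hr ⟨f a, hP a⟩ a rfl)
    let Φ : A → P × V := fun a => (⟨f a, hP a⟩, ⟨c a, hV _ (by rw [hc' a]; exact mul_mem (inv_mem (r _).2) a.2)⟩)
    have hinj : Function.Injective Φ := fun a b h => by
      have h1 : (⟨f a, hP a⟩ : P) = ⟨f b, hP b⟩ := congrArg Prod.fst h
      have h2 : c a = c b := congrArg (fun x => (x.2 : Fin 81)) h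
      have e := hc' a
      rw [h2, hc' b, h1] at e
      exact Subtype.ext (mul_left_cancel e).symm
    have := Nat.card_le_card_of_injective Φ hinj
    rwa [Nat.card_prod, Nat.card_eq_finsetCard, Nat.card_eq_finsetCard] at this
  have hfix : ∀ a : A, ∀ v, F.e v ∈ A → actU (f a) v = v := by
    intro a v hv
    refine F.e_inj ?_
    rw [← hf a v, hc _ a.2 _ hv, mul_inv_cancel_right]
  by_cases hone : ∀ a, f a ∈ ({0, f a₀, dbl (f a₀)} : Finset (Fin 9))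
  · have h := bound {0, f a₀, dbl (f a₀)} (Finset.univ.filter fun v => actU (f a₀) v = v) hone
      fun v hv => Finset.mem_filter.2 ⟨Finset.mem_univ _, hfix a₀ v hv⟩
    rw [(actU_nontrivial _ ha₀).2.1] at h
    have : ({0, f a₀, dbl (f a₀)} : Finset (Fin 9)).card ≤ 3 := Finset.card_le_three
    omega
  · simp only [not_forall] at hone
    obtain ⟨a₁, ha₁⟩ := hone
    simp only [Finset.mem_insert, Finset.mem_singleton, not_or] at ha₁
    have h := bound Finset.univ {0, 1, 2} (fun a => Finset.mem_univ _) fun v hv => by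
      rcases two_fix _ ha₀ (f a₁) with r | r | r | r
      · exact absurd r ha₁.1
      · exact absurd r ha₁.2.1
      · exact absurd r ha₁.2.2
      · simpa using r v (hfix a₀ v hv) (hfix a₁ v hv)
    rw [Finset.card_univ, Fintype.card_fin] at h
    have : ({0, 1, 2} : Finset (Fin 81)).card ≤ 3 := Finset.card_le_three
    omega

/-- The only abelian subgroup of its order in the normaliser. -/
theorem abelian_eq_M {A : Subgroup G} (hA : A ≤ F.toData.M) (hc : ∀ a ∈ A, ∀ b ∈ A, a * b = b * a)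
    (h81 : Nat.card A = 81) : A = F.J := by
  haveI := fact_three
  have hp : IsPGroup 3 A := IsPGroup.of_card (n := 4) (by rw [h81]; norm_num)
  obtain ⟨P, hP⟩ := (hp.of_equiv (subgroupOfEquivOfLe hA).symm).exists_le_sylow
  obtain ⟨⟨m, hm⟩, hmP⟩ := MulAction.exists_smul_eq F.toData.M (F.S.subtype F.toData.S_le_M) P
  have hsub : ∀ a ∈ A, m⁻¹ * a * m ∈ (F.S : Subgroup G) := by
    intro a ha
    have h1 : (⟨a, hA ha⟩ : F.toData.M) ∈ P := hP (mem_subgroupOf.2 ha)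
    rw [← hmP] at h1
    obtain ⟨s, hs, e⟩ := h1
    have e' : m * (s : G) * m⁻¹ = a := congrArg Subtype.val e
    rw [← e', show m⁻¹ * (m * (s : G) * m⁻¹) * m = s by group]
    exact mem_subgroupOf.1 hs
  have h := F.abelian_eq (A := A.map (MulAut.conj m⁻¹).toMonoidHom)
    (by rintro _ ⟨a, ha, rfl⟩; simpa using hsub a ha)
    (by rintro _ ⟨a, ha, rfl⟩ _ ⟨b, hb, rfl⟩; rw [← map_mul, ← map_mul, hc a ha b hb])
    (le_of_eq (by rw [card_map_of_injective (MulAut.conj m⁻¹).injective, h81]))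
  refine eq_of_le_of_card_ge (fun a ha => ?_) (le_of_eq (by rw [h81, F.hJcard]))
  have h2 : m⁻¹ * a * m⁻¹⁻¹ ∈ F.J := h ▸ ⟨a, ha, rfl⟩
  have := (mem_normalizer_iff.1 hm _).1 h2
  rwa [show m * (m⁻¹ * a * m⁻¹⁻¹) * m⁻¹ = a by group] at this

theorem to_one {z : Fin 81} (hz : Sing z) : ∃ m ∈ F.toData.M, m * F.e 1 * m⁻¹ = F.e z := by
  obtain ⟨i, hi⟩ := lineT_facts.2 z hz
  obtain ⟨m, hm, hmZ⟩ := F.conjZ_lineT i
  have hze : F.e z ∈ F.Z.map (MulAut.conj m).toMonoidHom := hmZ ▸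
    (F.mem_line (lineT_sing i).1.1).2 (hi.elim (Or.inr ∘ Or.inl) (Or.inr ∘ Or.inr))
  obtain ⟨x, hx, hxz⟩ := hze
  have hxz' : m * x * m⁻¹ = F.e z := hxz
  obtain ⟨j, hj⟩ := (F.eZ x).1 hx
  rcases pure_vectors j with r | r | r
  · exfalso
    rw [← hj, r, F.e_zero] at hxz'
    exact F.e_ne hz.1 (by rw [← hxz']; group)
  · exact ⟨m, hm, by rw [← hxz', ← hj, r]⟩
  · obtain ⟨s, hs, hsa⟩ := F.exists_M₀ 10 (by decide)
    refine ⟨m * s, mul_mem hm (F.toData.M₀_le_M hs), ?_⟩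
    rw [← hxz', ← hj, r, show m * s * F.e 1 * (m * s)⁻¹ = m * (s * F.e 1 * s⁻¹) * m⁻¹ by group, hsa 1,
      show actH 10 1 = 2 by decide +kernel]

theorem isC_sing {v : Fin 81} (hv : Sing v) : F.IsC (F.e v) := by
  obtain ⟨m, -, e⟩ := F.to_one hv
  exact ⟨m, e⟩

/-- Conjugation in the group preserves singular points. -/
theorem sing_of_isC {v : Fin 81} (h : F.IsC (F.e v)) : Sing v := by
  haveI := fact_three
  obtain ⟨c, hc⟩ := h
  obtain ⟨P, hP⟩ : ∃ P : Sylow 3 G, P = c • F.S := ⟨_, rfl⟩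
  have hPC : (P : Subgroup G) ≤ centralizer ({F.e v} : Set G) := by
    rw [hP, Sylow.coe_subgroup_smul]
    rintro _ ⟨s, hs, rfl⟩
    refine F.conj_cent hc (mem_centralizer_singleton_iff.2 (F.toData.Z_cent hs ?_))
    rw [F.Z_eq_line]; exact mem_zpowers _
  have hJC : F.J ≤ centralizer ({F.e v} : Set G) := fun j hj =>
    mem_centralizer_singleton_iff.2 (F.toData.J_comm hj (F.e_mem v))
  obtain ⟨R, hR⟩ := ((F.S.2.to_le F.hJS).of_equiv (subgroupOfEquivOfLe hJC).symm).exists_le_sylow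
  obtain ⟨⟨k, hk⟩, hkR⟩ := MulAction.exists_smul_eq (centralizer ({F.e v} : Set G)) (P.subtype hPC) R
  have hsub : ∀ j ∈ F.J, (k * c)⁻¹ * j * (k * c) ∈ (F.S : Subgroup G) := by
    intro j hj
    have h1 : (⟨j, hJC hj⟩ : centralizer ({F.e v} : Set G)) ∈ R := hR (mem_subgroupOf.2 hj)
    rw [← hkR] at h1
    obtain ⟨p, hp, e⟩ := h1
    have e' : k * (p : G) * k⁻¹ = j := congrArg Subtype.val e
    have hp' : (p : G) ∈ ((c • F.S : Sylow 3 G) : Subgroup G) := hP ▸ mem_subgroupOf.1 hp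
    rw [Sylow.coe_subgroup_smul] at hp'
    obtain ⟨s, hs, hsp⟩ := hp'
    have hsp' : c * s * c⁻¹ = (p : G) := hsp
    rw [← e', ← hsp', show (k * c)⁻¹ * (k * (c * s * c⁻¹) * k⁻¹) * (k * c) = s by group]
    exact hs
  have he := F.abelian_eq (A := F.J.map (MulAut.conj (k * c)⁻¹).toMonoidHom)
    (by rintro _ ⟨j, hj, rfl⟩; simpa [mul_assoc] using hsub j hj)
    (by rintro _ ⟨a, ha, rfl⟩ _ ⟨b, hb, rfl⟩; rw [← map_mul, ← map_mul, F.toData.J_comm ha hb])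
    (le_of_eq (by rw [card_map_of_injective (MulAut.conj (k * c)⁻¹).injective, F.hJcard]))
  have hkc : k * c ∈ F.toData.M := by
    have : (k * c)⁻¹ ∈ F.toData.M := mem_normalizer_iff_map_conj_eq.2 he
    simpa using inv_mem this
  refine F.sing_conj hkc (show Sing (1 : Fin 81) from named_vectors.2.2.2.2.1) ?_
  rw [show k * c * F.e 1 * (k * c)⁻¹ = k * (c * F.e 1 * c⁻¹) * k⁻¹ by group, hc, mem_centralizer_singleton_iff.1 hk,
    mul_inv_cancel_right]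

theorem isC_conj {x : G} (h : F.IsC x) (g : G) : F.IsC (g * x * g⁻¹) := by
  obtain ⟨c, rfl⟩ := h
  exact ⟨g * c, by group⟩

theorem mem_L_of_e1 {g : G} (hg : g * F.e 1 * g⁻¹ = F.e 1) : g ∈ F.toData.L := by
  refine centralizer_le_normalizer _ (mem_centralizer_iff.2 fun z hz => ?_)
  obtain ⟨k, rfl⟩ := (F.eZ z).1 hz
  rw [F.e_sc]
  exact ((show Commute g (F.e 1) from mul_inv_eq_iff_eq_mul.1 hg).pow_right k.val).eq.symm

theorem mem_Z_iff {v : Fin 81} : F.e v ∈ F.Z ↔ v = 0 ∨ v = 1 ∨ v = 2 := by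
  rw [F.Z_eq_line, F.mem_line named_vectors.1, named_vectors.2.2.1]

theorem mem_W {v : Fin 81} : F.e v ∈ F.toData.W ↔ dg v 3 = 0 := by
  rw [F.eW]
  exact ⟨fun ⟨u, hu, e⟩ => F.e_inj e ▸ hu, fun h => ⟨v, h, rfl⟩⟩

end Frame

namespace Inv

variable (I : Inv G)

include I

theorem psi_ker {x : I.L₀} : I.ψ x = 1 ↔ (x : G) ∈ I.Q := by
  rw [← MonoidHom.mem_ker, I.ψ_ker, mem_subgroupOf]

theorem t_mem_L₀ : I.t ∈ I.L₀ := I.toTop.E0_le_L₀ (I.toTop.E1_le_E0 I.t_mem_E1)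

theorem psi_t : I.ψ ⟨I.t, I.t_mem_L₀⟩ = negOne := I.f1_t

theorem J_le_L₀ : I.J ≤ I.L₀ := I.hJS.trans I.toData.S_le_L₀

theorem w_not_Q : I.e 27 ∉ I.Q := fun h => absurd (I.toFrame.mem_W.1 ⟨I.toFrame.e_mem 27, h⟩) (by decide +kernel)

theorem exists_X : ∃ X : SL5, X = I.ψ ⟨I.e 27, I.J_le_L₀ (I.toFrame.e_mem 27)⟩ ∧ X * (X * X) = 1 ∧ X ≠ 1 := by
  refine ⟨_, rfl, ?_, fun h => I.w_not_Q (I.psi_ker.1 h)⟩
  rw [← map_mul, ← map_mul, I.psi_ker]
  show I.e 27 * (I.e 27 * I.e 27) ∈ I.Q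
  have := I.hJexp _ (I.toFrame.e_mem 27)
  rw [pow_succ', pow_two] at this
  rw [this]
  exact one_mem _

theorem psi_J {j : G} (hj : j ∈ I.J) :
    I.ψ ⟨j, I.J_le_L₀ hj⟩ ∈ ([1, I.ψ ⟨I.e 27, I.J_le_L₀ (I.toFrame.e_mem 27)⟩,
      I.ψ ⟨I.e 27, I.J_le_L₀ (I.toFrame.e_mem 27)⟩ * I.ψ ⟨I.e 27, I.J_le_L₀ (I.toFrame.e_mem 27)⟩] : List SL5) := by
  obtain ⟨v, rfl⟩ := (I.memJ j).1 hj
  obtain ⟨hs, h3, -, -⟩ := split_vector v
  obtain ⟨k, hk⟩ : ∃ k : Fin 3, k.val = dg v 3 := ⟨⟨_, Nat.mod_lt _ (by norm_num)⟩, rfl⟩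
  have hW : I.e (mk4 (dg v 0) (dg v 1) (dg v 2) 0) ∈ I.Q := (I.toFrame.mem_W.2 h3).2
  have e : (⟨I.e v, I.J_le_L₀ hj⟩ : I.L₀) =
      ⟨_, I.hQL hW⟩ * ⟨I.e 27, I.J_le_L₀ (I.toFrame.e_mem 27)⟩ ^ k.val := by
    refine Subtype.ext ?_
    show I.e v = I.e _ * I.e 27 ^ k.val
    rw [← I.toFrame.e_sc, ← I.e_add, hk, ← hs]
  rw [e, map_mul, map_pow, (I.psi_ker (x := ⟨_, I.hQL hW⟩)).2 hW, one_mul]
  fin_cases k <;> simp [pow_two]

/-- Conjugates of the abelian subgroup centralising a point of the middle. -/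
theorem cross {g a : G} (hg : g ∈ I.toData.L) (ha : a ∈ I.toData.W) (haZ : a ∉ I.Z)
    (hc : ∀ j ∈ I.J, g * j * g⁻¹ * a = a * (g * j * g⁻¹)) : g ∈ I.toData.M := by
  obtain ⟨X, hX, hX3, hX1⟩ := I.exists_X
  have key : ∀ j ∈ I.J, g * j * g⁻¹ ∈ (I.S : Subgroup G) := by
    intro j hj
    have hjL : g * j * g⁻¹ ∈ I.L₀ := I.norm_L₀ hg (I.J_le_L₀ hj)
    have hy3 : I.ψ ⟨_, hjL⟩ * (I.ψ ⟨_, hjL⟩ * I.ψ ⟨_, hjL⟩) = 1 := by
      rw [← map_mul, ← map_mul, I.psi_ker]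
      show g * j * g⁻¹ * (g * j * g⁻¹ * (g * j * g⁻¹)) ∈ I.Q
      have := I.hJexp _ hj
      rw [pow_succ', pow_two] at this
      rw [show g * j * g⁻¹ * (g * j * g⁻¹ * (g * j * g⁻¹)) = g * (j * (j * j)) * g⁻¹ by group, this, mul_one,
        mul_inv_cancel]
      exact one_mem _
    rcases three_pair X (I.ψ ⟨_, hjL⟩) hX3 hX1 hy3 with h | ⟨k, hk⟩
    · have hin : ∀ n : ℕ, I.ψ ⟨_, hjL⟩ = X ^ n → g * j * g⁻¹ ∈ (I.S : Subgroup G) := by
        intro n hn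
        have hq : ((⟨_, hjL⟩ : I.L₀) * (⟨I.e 27, I.J_le_L₀ (I.toFrame.e_mem 27)⟩ ^ n)⁻¹ : I.L₀).1 ∈ I.Q :=
          I.psi_ker.1 (by rw [map_mul, map_inv, map_pow, hn, hX, mul_inv_cancel])
        have := mul_mem (I.toData.Q_le_S hq) (pow_mem (I.hJS (I.toFrame.e_mem 27)) n)
        push_cast at this
        rwa [inv_mul_cancel_right] at this
      simp only [List.mem_cons, List.not_mem_nil, or_false] at h
      rcases h with r | r | r
      · exact hin 0 (r.trans (pow_zero X).symm)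
      · exact hin 1 (r.trans (pow_one X).symm)
      · exact hin 2 (r.trans (pow_two X).symm)
    exfalso
    obtain ⟨h, hh⟩ : ∃ h : I.L₀, h = (⟨I.e 27, I.J_le_L₀ (I.toFrame.e_mem 27)⟩ * ⟨_, hjL⟩) ^ k := ⟨_, rfl⟩
    have hha : Commute (h : G) a := by
      rw [hh, SubmonoidClass.coe_pow]
      refine Commute.pow_left ?_ k
      exact Commute.mul_left (I.toData.J_comm (I.toFrame.e_mem 27) ha.1) (hc j hj)
    have hq : I.t * (h : G) ∈ I.Q := (I.psi_ker (x := ⟨I.t, I.t_mem_L₀⟩ * h)).1 (by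
      rw [map_mul, I.psi_t, hh, map_pow, map_mul, ← hX, hk, negOne_facts.1])
    have h1 := I.toTop.inv_mod_Z ha.2
    have h2 := I.toData.commutator_Q hq ha.2
    have h3 : I.t * (h : G) * a * (I.t * (h : G))⁻¹ = I.t * a * I.t := by
      rw [mul_inv_rev, I.toTop.t_inv, mul_assoc I.t (h : G) a, hha.eq]
      group
    rw [h3] at h2
    have h4 : a * a ∈ I.Z := by
      have := mul_mem (inv_mem h2) h1
      rwa [show (I.t * a * I.t * a⁻¹)⁻¹ * (I.t * a * I.t * a) = a * a by group] at this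
    refine haZ ?_
    have := mul_mem h4 h4
    rwa [show a * a * (a * a) = a ^ 3 * a by simp [pow_succ, mul_assoc], I.hJexp _ ha.1, one_mul] at this
  have h := I.toFrame.abelian_eq (A := I.J.map (MulAut.conj g).toMonoidHom)
    (by rintro _ ⟨j, hj, rfl⟩; exact key j hj)
    (by rintro _ ⟨x, hx, rfl⟩ _ ⟨y, hy, rfl⟩; rw [← map_mul, ← map_mul, I.toData.J_comm hx hy])
    (le_of_eq (by rw [card_map_of_injective (MulAut.conj g).injective, I.hJcard]))
  exact mem_normalizer_iff_map_conj_eq.2 h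

/-- The middle meets every class of the extraspecial subgroup. -/
theorem Q_cover {q : G} (hq : q ∈ I.Q) (hqZ : q ∉ I.Z) : ∃ l ∈ I.L₀, l * q * l⁻¹ ∈ I.toData.W := by
  classical
  obtain ⟨X, hX, hX3, hX1⟩ := I.exists_X
  obtain ⟨c, hc⟩ := three_conj X hX3 hX1
  obtain ⟨γ, hγ⟩ := exists_ten
  choose l hl using fun i => I.ψ_surj (γ i * c⁻¹)
  let A : Set G := (I.toData.W : Set G) \ I.Z
  let B : Set G := (I.Q : Set G) \ I.Z
  have hB : ∀ i, ∀ w ∈ A, (l i : G) * w * (l i : G)⁻¹ ∈ B := by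
    rintro i w ⟨hw, hwZ⟩
    have hL := I.toData.L₀_le_L (l i).2
    exact ⟨(mem_normalizer_iff.1 (I.toData.L_le_norm_Q hL) w).1 hw.2,
      fun h => hwZ ((mem_normalizer_iff.1 hL w).2 h)⟩
  let Φ : Fin 10 × A → B := fun x => ⟨_, hB x.1 x.2.1 x.2.2⟩
  have hinj : Function.Injective Φ := by
    rintro ⟨i, w, hw⟩ ⟨j, w', hw'⟩ h
    have h' : (l i : G) * w * (l i : G)⁻¹ = (l j : G) * w' * (l j : G)⁻¹ := congrArg Subtype.val h
    obtain ⟨g, hg⟩ : ∃ g : I.L₀, g = (l j)⁻¹ * l i := ⟨_, rfl⟩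
    have hgw : (g : G) * w * (g : G)⁻¹ = w' := by
      rw [hg]; push_cast
      rw [show (l j : G)⁻¹ * l i * w * ((l j : G)⁻¹ * l i)⁻¹ = (l j : G)⁻¹ * ((l i : G) * w * (l i : G)⁻¹) * l j by group, h']
      group
    have hgM : (g : G) ∈ I.toData.M := I.cross (I.toData.L₀_le_L g.2) hw'.1 hw'.2 fun x hx => by
      rw [← hgw]
      calc (g : G) * x * (g : G)⁻¹ * (g * w * (g : G)⁻¹) = g * (x * w) * (g : G)⁻¹ := by group
        _ = g * (w * x) * (g : G)⁻¹ := by rw [I.toData.J_comm hx hw.1.1]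
        _ = _ := by group
    obtain ⟨x, hx⟩ : ∃ x : I.L₀, x = ⟨I.e 27, I.J_le_L₀ (I.toFrame.e_mem 27)⟩ := ⟨_, rfl⟩
    have hgJ : ((g * x * g⁻¹ : I.L₀) : G) ∈ I.J := by
      rw [hx]; exact (mem_normalizer_iff.1 hgM _).1 (I.toFrame.e_mem 27)
    have hm := I.psi_J hgJ
    rw [show (⟨((g * x * g⁻¹ : I.L₀) : G), I.J_le_L₀ hgJ⟩ : I.L₀) = g * x * g⁻¹ from rfl, ← hx] at hm
    have hψ : I.ψ (g * x * g⁻¹) = c * ((γ j)⁻¹ * γ i) * xSL * (c * ((γ j)⁻¹ * γ i))⁻¹ := by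
      rw [hg, map_mul, map_mul, map_inv, map_mul, map_inv, hl, hl, hx, ← hX, ← hc]
      group
    rw [hψ, hx, ← hX] at hm
    simp only [List.mem_cons, List.not_mem_nil, or_false] at hm
    obtain ⟨d, hd⟩ : ∃ d, d = (γ j)⁻¹ * γ i := ⟨_, rfl⟩
    have hij : i = j := by
      rw [← hd, ← hc] at hm
      rcases hm with r | r | r
      · refine absurd ?_ hX1
        rw [← hc, conj_eq_one_iff.1 r]; group
      · refine hγ i j (Or.inl ?_)
        have r' : d * xSL * d⁻¹ = xSL := by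
          calc d * xSL * d⁻¹ = c⁻¹ * (c * d * xSL * (c * d)⁻¹) * c := by group
            _ = xSL := by rw [r]; group
        calc γ i * xSL * (γ i)⁻¹ = γ j * (d * xSL * d⁻¹) * (γ j)⁻¹ := by rw [hd]; group
          _ = _ := by rw [r']
      · refine hγ i j (Or.inr ?_)
        have r' : d * xSL * d⁻¹ = xSL * xSL := by
          calc d * xSL * d⁻¹ = c⁻¹ * (c * d * xSL * (c * d)⁻¹) * c := by group
            _ = xSL * xSL := by rw [r]; group
        calc γ i * xSL * (γ i)⁻¹ = γ j * (d * xSL * d⁻¹) * (γ j)⁻¹ := by rw [hd]; group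
          _ = _ := by rw [r']
    subst hij
    exact Prod.ext rfl (Subtype.ext (mul_left_cancel (mul_right_cancel h')))
  have hA : Nat.card A = 24 := by
    rw [Nat.card_coe_set_eq, Set.ncard_sdiff (I.toData.Z_le_W : (I.Z : Set G) ⊆ _) (Set.toFinite _),
      ← Nat.card_coe_set_eq, ← Nat.card_coe_set_eq]
    show Nat.card I.toData.W - Nat.card I.Z = 24
    rw [I.toData.sup_eq.2, I.toData.card_Z]
  have hBc : Nat.card B = 240 := by
    rw [Nat.card_coe_set_eq, Set.ncard_sdiff (I.toData.Z_le_Q : (I.Z : Set G) ⊆ _) (Set.toFinite _),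
      ← Nat.card_coe_set_eq, ← Nat.card_coe_set_eq]
    show Nat.card I.Q - Nat.card I.Z = 240
    rw [I.hQcard, I.toData.card_Z]
  obtain ⟨⟨i, w, hw⟩, e⟩ := ((Nat.bijective_iff_injective_and_card Φ).2 ⟨hinj, by
    rw [Nat.card_prod, Nat.card_fin, hA, hBc]⟩).2 ⟨q, hq, hqZ⟩
  refine ⟨(l i : G)⁻¹, inv_mem (l i).2, ?_⟩
  have e' : (l i : G) * w * (l i : G)⁻¹ = q := congrArg Subtype.val e
  rw [← e', show (l i : G)⁻¹ * ((l i : G) * w * (l i : G)⁻¹) * (l i : G)⁻¹⁻¹ = w by group]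
  exact hw.1

/-- Singular elements of the normaliser lie in the abelian subgroup. -/
theorem isC_mem_J {x : G} (hx : I.toFrame.IsC x) (hxM : x ∈ I.toData.M) : x ∈ I.J := by
  haveI := fact_three
  have hx3 : x ^ 3 = 1 := by
    obtain ⟨c, rfl⟩ := hx
    rw [conj_pow, I.hJexp _ (I.toFrame.e_mem 1), mul_one, mul_inv_cancel]
  obtain ⟨n, -, hn⟩ := (Nat.dvd_prime_pow Nat.prime_three).1
    (orderOf_dvd_of_pow_eq_one (show x ^ 3 ^ 1 = 1 by rw [pow_one]; exact hx3))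
  have hp : IsPGroup 3 (zpowers x) := IsPGroup.of_card (n := n) (by rw [Nat.card_zpowers, hn])
  obtain ⟨P, hP⟩ := (hp.of_equiv (subgroupOfEquivOfLe (zpowers_le.2 hxM)).symm).exists_le_sylow
  obtain ⟨⟨m, hm⟩, hmP⟩ := MulAction.exists_smul_eq I.toData.M (I.S.subtype I.toData.S_le_M) P
  have h1 : (⟨x, hxM⟩ : I.toData.M) ∈ P := hP (mem_subgroupOf.2 (mem_zpowers x))
  rw [← hmP] at h1
  obtain ⟨⟨s, hsM⟩, hsS, e⟩ := h1
  have hsx : m * s * m⁻¹ = x := congrArg Subtype.val e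
  have hs : s ∈ (I.S : Subgroup G) := mem_subgroupOf.1 hsS
  suffices hsJ : s ∈ I.J by rw [← hsx]; exact (mem_normalizer_iff.1 hm s).1 hsJ
  have hsC : I.toFrame.IsC s := by
    have := I.toFrame.isC_conj hx m⁻¹
    rwa [← hsx, show m⁻¹ * (m * s * m⁻¹) * m⁻¹⁻¹ = s by group] at this
  have hs3 : s ^ 3 = 1 := by
    have := hx3
    rw [← hsx, conj_pow] at this
    exact conj_eq_one_iff.1 this
  obtain ⟨p, hp'⟩ := I.toFrame.S_acts hs
  by_cases hp0 : p = 0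
  · subst hp0
    exact I.toFrame.ker fun v => by rw [hp' v, actU_zero]; rfl
  obtain ⟨q, hq, hqa⟩ := I.uQ p
  obtain ⟨v, hv⟩ : ∃ v, I.e v = q⁻¹ * s := (I.memJ _).1 (I.toFrame.ker fun w => by
    show q⁻¹ * s * I.e w * (q⁻¹ * s)⁻¹ = I.e w
    calc q⁻¹ * s * I.e w * (q⁻¹ * s)⁻¹ = q⁻¹ * (s * I.e w * s⁻¹) * q := by group
      _ = q⁻¹ * (q * I.e w * q⁻¹) * q := by rw [hp' w, hqa w]
      _ = I.e w := by group)
  have hsqv : s = q * I.e v := by rw [hv, mul_inv_cancel_left]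
  have hq3 : q * (q * q) = 1 := by
    have := I.hQexp _ hq
    rwa [pow_succ', pow_two] at this
  have hsum : ad v (ad (actU p v) (actU p (actU p v))) = 0 := by
    refine I.e_inj ?_
    rw [I.toFrame.e_zero, I.e_add, I.e_add]
    have e1 : I.e (actU p v) = q * I.e v * q⁻¹ := (hqa v).symm
    have e2 : I.e (actU p (actU p v)) = q * q * I.e v * (q * q)⁻¹ := by
      rw [← hqa (actU p v), e1]; group
    have h : s ^ 3 = q * I.e v * q⁻¹ * (q * q * I.e v * (q * q)⁻¹) * I.e v := by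
      rw [hsqv]
      calc (q * I.e v) ^ 3 = q * I.e v * q⁻¹ * (q * q * I.e v * (q * q)⁻¹) * (q * (q * q)) * I.e v := by
            simp [pow_succ, mul_assoc]
        _ = _ := by rw [hq3, mul_one]
    rw [← e1, ← e2, hs3] at h
    rw [← I.e_add] at h ⊢
    rw [I.toData.J_comm (I.toFrame.e_mem v) (I.toFrame.e_mem _), ← h]
  have hsQ : s ∈ I.Q := hsqv ▸ mul_mem hq (I.toFrame.mem_W.2 (cube_sum p hp0 v hsum)).2
  by_contra hsJ
  obtain ⟨l, hl, hlW⟩ := I.Q_cover hsQ fun h => hsJ (I.toData.Z_le_J h)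
  obtain ⟨u, hu⟩ := (I.memJ _).1 hlW.1
  have hus : Sing u := I.toFrame.sing_of_isC (hu ▸ I.toFrame.isC_conj hsC l)
  have hu3 : dg u 3 = 0 := I.toFrame.mem_W.1 (hu ▸ hlW)
  have huZ : l * s * l⁻¹ ∈ I.Z := hu ▸ I.toFrame.mem_Z_iff.2 (Or.inr (W_sing u hu3 hus))
  exact hsJ (I.toData.Z_le_J ((mem_normalizer_iff.1 (I.toData.L₀_le_L hl) s).2 huZ))

theorem cent_one_W {v : Fin 81} (h3 : dg v 3 = 0) (hZ : I.e v ∉ I.Z) {g : G} (h1 : g * I.e 1 * g⁻¹ = I.e 1)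
    (hv : g * I.e v * g⁻¹ = I.e v) : g ∈ I.toData.M :=
  I.cross (I.toFrame.mem_L_of_e1 h1) (I.toFrame.mem_W.2 h3) hZ fun j hj => by
    conv_lhs => rw [← hv]
    conv_rhs => rw [← hv]
    calc g * j * g⁻¹ * (g * I.e v * g⁻¹) = g * (j * I.e v) * g⁻¹ := by group
      _ = g * (I.e v * j) * g⁻¹ := by rw [I.toData.J_comm hj (I.toFrame.e_mem v)]
      _ = _ := by group

theorem cent_one_sing {u : Fin 81} (hs : Sing u) (h3 : dg u 3 ≠ 0) {g : G} (h1 : g * I.e 1 * g⁻¹ = I.e 1)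
    (hu : g * I.e u * g⁻¹ = I.e u) : g ∈ I.toData.M := by
  have hg := I.toFrame.mem_L_of_e1 h1
  have h3W : I.e 3 ∈ I.toData.W := I.toFrame.mem_W.2 (by decide +kernel)
  have h3Z : I.e 3 ∉ I.Z := fun h => absurd (I.toFrame.mem_Z_iff.1 h) (by decide +kernel)
  have hq : g * I.e 3 * g⁻¹ ∈ I.Q := (mem_normalizer_iff.1 (I.toData.L_le_norm_Q hg) _).1 h3W.2
  have hqu : Commute (g * I.e 3 * g⁻¹) (I.e u) := by
    show g * I.e 3 * g⁻¹ * I.e u = I.e u * (g * I.e 3 * g⁻¹)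
    conv_lhs => rw [← hu]
    conv_rhs => rw [← hu]
    calc g * I.e 3 * g⁻¹ * (g * I.e u * g⁻¹) = g * (I.e 3 * I.e u) * g⁻¹ := by group
      _ = g * (I.e u * I.e 3) * g⁻¹ := by rw [I.toData.J_comm (I.toFrame.e_mem 3) (I.toFrame.e_mem u)]
      _ = _ := by group
  obtain ⟨p, hp⟩ := I.toFrame.S_acts (I.toData.Q_le_S hq)
  obtain rfl : p = 0 := sing_fixed p u hs h3 (I.e_inj (by rw [← hp u, hqu.eq, mul_inv_cancel_right]))
  have hqJ : g * I.e 3 * g⁻¹ ∈ I.J := I.toFrame.ker fun v => by rw [hp v, actU_zero]; rfl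
  refine I.cross hg ⟨hqJ, hq⟩ (fun h => h3Z ((mem_normalizer_iff.1 hg _).2 h)) fun j hj => ?_
  calc g * j * g⁻¹ * (g * I.e 3 * g⁻¹) = g * (j * I.e 3) * g⁻¹ := by group
    _ = g * (I.e 3 * j) * g⁻¹ := by rw [I.toData.J_comm hj (I.toFrame.e_mem 3)]
    _ = _ := by group

/-- A singular and a nonsingular point. -/
theorem cent_sing {z v : Fin 81} (hz : Sing z) (hv0 : v ≠ 0) (hv : ¬ Sing v) {g : G}
    (hgz : g * I.e z * g⁻¹ = I.e z) (hgv : g * I.e v * g⁻¹ = I.e v) : g ∈ I.toData.M := by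
  obtain ⟨m, hm, hmz⟩ := I.toFrame.to_one hz
  obtain ⟨u, hu⟩ := (I.memJ _).1 ((mem_normalizer_iff.1 (inv_mem hm) (I.e v)).1 (I.toFrame.e_mem v))
  rw [inv_inv] at hu
  have hus : ¬ Sing u := fun h => hv (I.toFrame.sing_conj hm h (by rw [hu]; group))
  have hu0 : u ≠ 0 := fun h => I.toFrame.e_ne hv0 (by
    rw [h, I.toFrame.e_zero] at hu
    calc I.e v = m * (m⁻¹ * I.e v * m) * m⁻¹ := by group
      _ = 1 := by rw [← hu]; group)
  obtain ⟨h, hh⟩ : ∃ h, h = m⁻¹ * g * m := ⟨_, rfl⟩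
  have h1 : h * I.e 1 * h⁻¹ = I.e 1 := by
    have e : I.e 1 = m⁻¹ * I.e z * m := by rw [← hmz]; group
    rw [hh, e]
    calc m⁻¹ * g * m * (m⁻¹ * I.e z * m) * (m⁻¹ * g * m)⁻¹ = m⁻¹ * (g * I.e z * g⁻¹) * m := by group
      _ = _ := by rw [hgz]
  have hhu : h * I.e u * h⁻¹ = I.e u := by
    rw [hh, hu]
    calc m⁻¹ * g * m * (m⁻¹ * I.e v * m) * (m⁻¹ * g * m)⁻¹ = m⁻¹ * (g * I.e v * g⁻¹) * m := by group
      _ = _ := by rw [hgv]
  suffices hM : h ∈ I.toData.M by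
    have := mul_mem (mul_mem hm hM) (inv_mem hm)
    rwa [hh, show m * (m⁻¹ * g * m) * m⁻¹ = g by group] at this
  by_cases h3 : dg u 3 = 0
  · refine I.cent_one_W h3 (fun hZ => ?_) h1 hhu
    rcases I.toFrame.mem_Z_iff.1 hZ with r | r | r
    · exact hu0 r
    all_goals exact hus (r ▸ by decide +kernel)
  · obtain ⟨i, hs', h3'⟩ := line_meets u h3
    refine I.cent_one_sing hs' h3' h1 ?_
    have c1 : Commute h (I.e u) := mul_inv_eq_iff_eq_mul.1 hhu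
    have c2 : Commute h (I.e 1) := mul_inv_eq_iff_eq_mul.1 h1
    rw [I.e_add, I.toFrame.e_sc]
    exact mul_inv_eq_iff_eq_mul.2 (c1.mul_right (c2.pow_right i.val))

/-- An element fixing a nonsingular point that keeps one singular point in the normaliser lies in it. -/
theorem move {a z : Fin 81} (ha0 : a ≠ 0) (ha : ¬ Sing a) (hz : Sing z) {g : G}
    (hga : g * I.e a * g⁻¹ = I.e a) (hgz : g * I.e z * g⁻¹ ∈ I.toData.M) : g ∈ I.toData.M := by
  have hC := I.toFrame.isC_conj (I.toFrame.isC_sing hz) g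
  obtain ⟨s, hs⟩ := (I.memJ _).1 (I.isC_mem_J hC hgz)
  have hss : Sing s := I.toFrame.sing_of_isC (hs ▸ hC)
  refine mem_normalizer_iff_map_conj_eq.2 (I.toFrame.abelian_eq_M ?_ ?_ ?_)
  · rintro _ ⟨j, hj, rfl⟩
    show g * j * g⁻¹ ∈ I.toData.M
    refine I.cent_sing hss ha0 ha ?_ ?_
    · rw [hs]
      calc g * j * g⁻¹ * (g * I.e z * g⁻¹) * (g * j * g⁻¹)⁻¹ = g * (j * I.e z) * j⁻¹ * g⁻¹ := by group
        _ = g * (I.e z * j) * j⁻¹ * g⁻¹ := by rw [I.toData.J_comm hj (I.toFrame.e_mem z)]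
        _ = _ := by group
    · conv_lhs => rw [← hga]
      calc g * j * g⁻¹ * (g * I.e a * g⁻¹) * (g * j * g⁻¹)⁻¹ = g * (j * I.e a) * j⁻¹ * g⁻¹ := by group
        _ = g * (I.e a * j) * j⁻¹ * g⁻¹ := by rw [I.toData.J_comm hj (I.toFrame.e_mem a)]
        _ = g * I.e a * g⁻¹ := by group
        _ = _ := hga
  · rintro _ ⟨x, hx, rfl⟩ _ ⟨y, hy, rfl⟩
    rw [← map_mul, ← map_mul, I.toData.J_comm hx hy]
  · rw [card_map_of_injective (MulAut.conj g).injective, I.hJcard]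

end Inv

end Cfsg.Lib.McLLocal
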