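import Cfsg.Agent.LocalThree.McLLocal.Main
import Cfsg.Agent.LocalThree.McLLocal.WeakCases

/-!
The identification with the centraliser condition at the centre alone.
-/

set_option autoImplicit false
set_option linter.unusedSectionVars false
set_option maxRecDepth 100000
set_option synthInstance.maxSize 4096

namespace Cfsg.Lib.McLLocal

open Subgroup

universe u

variable {G : Type u} [Group G] [Finite G]

theorem main_weak (S : Sylow 3 G) (Z : Subgroup G)
    (hZ : Z = (S : Subgroup G) ⊓ Subgroup.centralizer ((S : Subgroup G) : Set G))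
    (J : Subgroup G) (hJS : J ≤ S) (hJcomm : IsMulCommutative J) (hJexp : ∀ a ∈ J, a ^ 3 = 1) (hJcard : Nat.card J = 3 ^ 4)
    (M₀ : Subgroup G) (hM₀ : M₀ = Subgroup.closure {g : G | g ∈ Subgroup.normalizer (J : Set G) ∧ ∃ k : ℕ, orderOf g = 3 ^ k})
    (hJM : J ≤ M₀) [hJn : (J.subgroupOf M₀).Normal] (eM : M₀ ⧸ J.subgroupOf M₀ ≃* alternatingGroup (Fin 6))
    (L₀ : Subgroup G) (hL₀ : L₀ = Subgroup.closure {g : G | g ∈ Subgroup.normalizer (Z : Set G) ∧ ∃ k : ℕ, orderOf g = 3 ^ k})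
    (Q : Subgroup G) (hQ : Q = core3 (normalizer (Z : Set G)))
    (hQex : Cfsg.IsExtraspecial 3 Q) (hQcard : Nat.card Q = 3 ^ 5) (hQexp : ∀ a ∈ Q, a ^ 3 = 1)
    (hQL : Q ≤ L₀) [hQn : (Q.subgroupOf L₀).Normal] (eL : L₀ ⧸ Q.subgroupOf L₀ ≃* Matrix.SpecialLinearGroup (Fin 2) (ZMod 5))
    (hiii : centralizer (core3 (centralizer (Z : Set G)) : Set G) ≤ core3 (centralizer (Z : Set G))) :
    Nonempty (G ≃* Cfsg.Spor.McL) ∨ Nonempty (G ≃* MulAut Cfsg.Spor.McL) := by
  have hle : core3 (centralizer (Z : Set G)) ≤ Q := hQ ▸ core_le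
  have hCQ : centralizer (Q : Set G) ≤ Q := (centralizer_le hle).trans (hiii.trans hle)
  let D : Data G :=
    { S := S, Z := Z, J := J, M₀ := M₀, L₀ := L₀, Q := Q, hZ := hZ, hJS := hJS, hJcomm := hJcomm, hJexp := hJexp,
      hJcard := hJcard, hM₀ := hM₀, hJM := hJM
      φ := eM.toMonoidHom.comp (QuotientGroup.mk' _)
      φ_surj := eM.surjective.comp (QuotientGroup.mk'_surjective _)
      φ_ker := by ext x; simp [MonoidHom.mem_ker]
      hL₀ := hL₀, hQ := hQ, hQex := hQex, hQcard := hQcard, hQexp := hQexp, hQL := hQL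
      ψ := eL.toMonoidHom.comp (QuotientGroup.mk' _)
      ψ_surj := eL.surjective.comp (QuotientGroup.mk'_surjective _)
      ψ_ker := by ext x; simp [MonoidHom.mem_ker]
      hCQ := hCQ }
  obtain ⟨F, -⟩ := exists_frame D
  obtain ⟨t, ht, ht2, ht1, hta⟩ := F.exists_invol
  let T0 : Top G := ⟨F, t, ht2, ht1, ht, hta⟩
  obtain ⟨y, hy, k, hk, hF, hsq, hw⟩ := T0.exists_inv
  let I : Inv G := ⟨T0, y, k, hy, hk, hF, hsq, hw⟩
  exact identify F I.pointCond

end Cfsg.Lib.McLLocal
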