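import Cfsg.Agent.LocalThree.McLLocal.WeakPointData
import Cfsg.Agent.LocalThree.MonomialCentral

/-!
The monomial coordinates on the vectors orthogonal to a nonsingular point.
-/

set_option autoImplicit false
set_option maxRecDepth 100000
set_option synthInstance.maxSize 4096

namespace Cfsg.Lib.McLLocal

open Cfsg.Lib.Monomial

/-- The vector with given monomial coordinates. -/
def emb (v : Fin 27) : Fin 81 := ad (sc (v.val % 3) 55) (ad (sc (v.val / 3 % 3) 37) (sc (v.val / 9) 46))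

/-- The monomial coordinates. -/
def crd (x : Fin 81) : Fin 27 :=
  ((List.finRange 27).find? fun v => emb v == mk4 (dg x 0) 0 (dg x 2) (dg x 3)).getD 0

/-- The action of a monomial matrix, fixing the point. -/
def monT (m : Fin 24) (x : Fin 81) : Fin 81 := ad (sc (dg x 1) 3) (emb (actV m (crd x)))

/-- The even monomial matrices. -/
def Ev (m : Fin 24) : Prop := m.val < 4 ∨ (12 ≤ m.val ∧ m.val < 20)

instance : DecidablePred Ev := fun _ => inferInstanceAs (Decidable (_ ∨ _))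

/-- The class of an even matrix modulo the four-group. -/
def pc (m : Fin 24) : ℕ := if m.val < 4 then 0 else if m.val < 16 then 1 else 2

theorem emb_add : ∀ v w, emb (addV v w) = ad (emb v) (emb w) := by decide +kernel

theorem emb_inj : ∀ v w, emb v = emb w → v = w := by decide +kernel

theorem emb_facts : (∀ v, dg (emb v) 1 = 0) ∧ emb 0 = 0 ∧ (∀ x, ad (sc (dg x 1) 3) (emb (crd x)) = x) ∧
    (∀ v, (∀ k : Fin 3, emb v ≠ sc k.val 3) ∨ v = 0) ∧ ∀ k : Fin 3, dg (sc k.val (3 : Fin 81)) 1 = k.val := by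
  decide +kernel

theorem monT_emb : ∀ m v, monT m (emb v) = emb (actV m v) := by decide +kernel

theorem monT_three : ∀ m, monT m 3 = 3 := by decide +kernel

theorem monT_mul : ∀ a b x, monT a (monT b x) = monT (mulA a b) x := by decide +kernel

theorem monT_one : ∀ x, monT oneA x = x := by decide +kernel

theorem monT_inj : ∀ a b, (∀ x ∈ basis4, monT a x = monT b x) → a = b := by decide +kernel

theorem monT_gens : (∀ x, actU 3 x = monT 15 x) ∧ (∀ x, actH 35 x = monT 1 x) ∧ (∀ x, actH 2 x = monT 7 x) ∧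
    (∀ x, actH 0 x = monT oneA x) := by decide +kernel

theorem even_closed : (∀ a b, Ev a → Ev b → Ev (mulA a b)) ∧ (∀ a, Ev a → Ev (invA a)) ∧ Ev oneA ∧
    (∀ a b, Ev a → Ev b → pc (mulA a b) % 3 = (pc a + pc b) % 3) ∧ (∀ a, Ev a → pc a < 3) ∧
    (∀ a, Ev a → (pc a = 0 ↔ a.val < 4)) := by decide +kernel

theorem gens_reach : (∀ m, Ev m → ∃ x ∈ ([0, 1, mulA (mulA 15 1) 18, mulA (mulA 18 1) 15] : List (Fin 24)),
      ∃ y ∈ ([0, 15, 18] : List (Fin 24)), m = mulA x y) ∧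
    (∀ m, Ev m ∨ Ev (mulA m 7)) ∧ mulA 7 7 = oneA ∧ mulA 15 15 = 18 ∧ oneA = 0 ∧ pc 15 = 1 ∧ Ev 15 := by decide +kernel

theorem four_closed : (∀ a b : Fin 24, a.val < 4 → b.val < 4 → (mulA a b).val < 4) ∧
    (∀ a : Fin 24, a.val < 4 → (invA a).val < 4 ∧ mulA a a = oneA) ∧
    (∀ m a : Fin 24, a.val < 4 → (mulA (mulA m a) (invA m)).val < 4) ∧
    (∀ v : Fin 81, (∀ a : Fin 24, a.val < 4 → monT a v = v) → ∃ k : Fin 3, v = sc k.val 3) ∧
    (∀ a b : Fin 24, a.val < 4 → b.val < 4 → mulA a b = mulA b a) := by decide +kernel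

theorem lines_reach : ∀ a b : Fin 81, Sing a → Sing b → ¬ Sing (ad 3 a) → ¬ Sing (ad 3 (ng a)) →
    ¬ Sing (ad 3 b) → ¬ Sing (ad 3 (ng b)) → b ≠ a → b ≠ ng a →
      ∃ m, Ev m ∧ (monT m a = 1 ∨ monT m a = 2) ∧ (monT m b = 27 ∨ monT m b = 54) := by decide +kernel

theorem line_base : ∀ v ∈ ([1, 27] : List (Fin 81)), Sing v ∧ ¬ Sing (ad 3 v) ∧ ¬ Sing (ad 3 (ng v)) := by decide +kernel

theorem line_code : (∀ c ∈ codesB, colA c = 3 → (colZ c = 1 ∨ colZ c = 2) → c = 0 ∨ c = 2) ∧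
    ∀ k : Fin 64, kFour k → ∀ c ∈ codesA k, colA c = 3 → (colZ c = 1 ∨ colZ c = 2) → c = 0 := by decide +kernel

/-- The translations and the diagonal matrices. -/
def four : Subgroup Mon where
  carrier := {k | k.a.val < 4}
  mul_mem' := fun {x y} hx hy => four_closed.1 _ _ hx hy
  one_mem' := (show (oneA : Fin 24).val < 4 by decide +kernel)
  inv_mem' := fun {x} hx => (four_closed.2.1 _ hx).1

theorem four_gens : ∀ k : Mon, k.a.val < 4 → ∃ i j l : Fin 3, ∃ m n : Fin 2,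
    k = powN ⟨1, 0⟩ i.val * powN ⟨3, 0⟩ j.val * powN ⟨9, 0⟩ l.val * powN ⟨4, 3⟩ m.val * powN ⟨10, 2⟩ n.val := by
  decide +kernel

theorem four_point : ∀ i : Fin 9, pointMap ⟨1, 0⟩ i = (Equiv.swap (0 : Fin 9) 1 * Equiv.swap 1 2 : Equiv.Perm (Fin 9)) i ∧
    pointMap ⟨3, 0⟩ i = (Equiv.swap (3 : Fin 9) 4 * Equiv.swap 4 5 : Equiv.Perm (Fin 9)) i ∧
    pointMap ⟨9, 0⟩ i = (Equiv.swap (6 : Fin 9) 7 * Equiv.swap 7 8 : Equiv.Perm (Fin 9)) i ∧
    pointMap ⟨4, 3⟩ i = (Equiv.swap (0 : Fin 9) 1 * Equiv.swap 3 4 : Equiv.Perm (Fin 9)) i ∧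
    pointMap ⟨10, 2⟩ i = (Equiv.swap (0 : Fin 9) 1 * Equiv.swap 6 7 : Equiv.Perm (Fin 9)) i := by decide +kernel

theorem four_image :
    Subgroup.closure ({Equiv.swap (0 : Fin 9) 1 * Equiv.swap 1 2, Equiv.swap (3 : Fin 9) 4 * Equiv.swap 4 5,
      Equiv.swap (6 : Fin 9) 7 * Equiv.swap 7 8, Equiv.swap (0 : Fin 9) 1 * Equiv.swap 3 4,
      Equiv.swap (0 : Fin 9) 1 * Equiv.swap 6 7} : Set (Equiv.Perm (Fin 9))) = four.map Monomial.toNine := by
  have h1 : Monomial.toNine ⟨1, 0⟩ = Equiv.swap (0 : Fin 9) 1 * Equiv.swap 1 2 := Equiv.ext fun i => (four_point i).1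
  have h2 : Monomial.toNine ⟨3, 0⟩ = Equiv.swap (3 : Fin 9) 4 * Equiv.swap 4 5 := Equiv.ext fun i => (four_point i).2.1
  have h3 : Monomial.toNine ⟨9, 0⟩ = Equiv.swap (6 : Fin 9) 7 * Equiv.swap 7 8 := Equiv.ext fun i => (four_point i).2.2.1
  have h4 : Monomial.toNine ⟨4, 3⟩ = Equiv.swap (0 : Fin 9) 1 * Equiv.swap 3 4 := Equiv.ext fun i => (four_point i).2.2.2.1
  have h5 : Monomial.toNine ⟨10, 2⟩ = Equiv.swap (0 : Fin 9) 1 * Equiv.swap 6 7 := Equiv.ext fun i => (four_point i).2.2.2.2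
  refine le_antisymm ((Subgroup.closure_le _).2 ?_) ?_
  · rintro x (rfl | rfl | rfl | rfl | rfl)
    · exact ⟨_, (show (0 : Fin 24).val < 4 by decide), h1⟩
    · exact ⟨_, (show (0 : Fin 24).val < 4 by decide), h2⟩
    · exact ⟨_, (show (0 : Fin 24).val < 4 by decide), h3⟩
    · exact ⟨_, (show (3 : Fin 24).val < 4 by decide), h4⟩
    · exact ⟨_, (show (2 : Fin 24).val < 4 by decide), h5⟩
  · rintro _ ⟨k, hk, rfl⟩
    obtain ⟨i, j, l, m, n, rfl⟩ := four_gens k hk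
    simp only [powN_eq, map_mul, map_pow, h1, h2, h3, h4, h5]
    refine mul_mem (mul_mem (mul_mem (mul_mem ?_ ?_) ?_) ?_) ?_ <;>
      exact pow_mem (Subgroup.subset_closure (by simp)) _

end Cfsg.Lib.McLLocal
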