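import Cfsg.Agent.LocalThree.McLLocal.WeakPoint
import Cfsg.Agent.LocalThree.McLLocal.WeakModelData

/-!
The monomial model of the normaliser in the centraliser of a nonsingular point.
-/

set_option autoImplicit false
set_option linter.unusedSectionVars false
set_option maxRecDepth 100000
set_option synthInstance.maxSize 4096

namespace Cfsg.Lib.McLLocal

open Subgroup Cfsg.Lib.Monomial
open scoped Pointwise

universe u

variable {G : Type u} [Group G] [Finite G]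

theorem mulA_right : ∀ x : Fin 24, mulA x (invA x) = oneA := by decide +kernel

theorem inv_cancelA : ∀ m c : Fin 24, mulA (invA m) (mulA m c) = c ∧ (c.val < 4 → mulA (mulA (invA m) c) m = mulA (invA m) (mulA c m)) := by
  decide +kernel

namespace Inv

variable (I : Inv G)

include I

/-- The matrices that occur. -/
def Real (m : Fin 24) : Prop := I.CaseA → Ev m

/-- Acting by a monomial matrix. -/
def MonAct (g : G) (m : Fin 24) : Prop := I.toFrame.Acts g (monT m)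

theorem monAct_mul {g g' : G} {a b : Fin 24} (h : I.MonAct g a) (h' : I.MonAct g' b) : I.MonAct (g * g') (mulA a b) :=
  fun v => (I.toFrame.acts_mul h h' v).trans (congrArg I.e (monT_mul a b v))

theorem monAct_inv {g : G} {a : Fin 24} (h : I.MonAct g a) : I.MonAct g⁻¹ (invA a) := fun v => by
  have := h (monT (invA a) v)
  rw [monT_mul, mulA_right, monT_one] at this
  rw [← this]
  group

theorem monAct_J {j : G} (hj : j ∈ I.J) : I.MonAct j oneA := fun v => by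
  rw [monT_one]; exact I.toFrame.acts_J hj v

theorem monAct_M {g : G} {a : Fin 24} (h : I.MonAct g a) : g ∈ I.toData.M := I.toFrame.acts_mem h

theorem monAct_three {g : G} {a : Fin 24} (h : I.MonAct g a) : g * I.e 3 * g⁻¹ = I.e 3 := by
  rw [h 3, monT_three]

theorem monAct_unique {g : G} {a b : Fin 24} (h : I.MonAct g a) (h' : I.MonAct g b) : a = b :=
  monT_inj a b fun x _ => congrFun (I.toFrame.acts_unique h h') x

theorem monAct_ker {g : G} (h : I.MonAct g oneA) : g ∈ I.J := I.toFrame.ker fun v => by rw [h v, monT_one]; rfl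

theorem exists_lift {m : Fin 24} (hm : I.Real m) : ∃ g, I.MonAct g m := by
  obtain ⟨g15, -, h15⟩ := I.uQ 3
  obtain ⟨g1, -, h1⟩ := I.toFrame.exists_M₀ 35 (by decide)
  have a15 : I.MonAct g15 15 := fun v => by rw [h15 v, monT_gens.1]
  have a1 : I.MonAct g1 1 := fun v => by rw [h1 v, monT_gens.2.1]
  obtain ⟨hgen, hodd, h77, h18, h0, -, -⟩ := gens_reach
  have a18 : I.MonAct (g15 * g15) 18 := h18 ▸ I.monAct_mul a15 a15
  have a0 : I.MonAct 1 0 := h0 ▸ I.monAct_J (one_mem _)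
  have even : ∀ m, Ev m → ∃ g, I.MonAct g m := by
    intro m hm
    obtain ⟨x, hx, y, hy, rfl⟩ := hgen m hm
    have hx' : ∃ g, I.MonAct g x := by
      simp only [List.mem_cons, List.not_mem_nil, or_false] at hx
      rcases hx with rfl | rfl | rfl | rfl
      exacts [⟨_, a0⟩, ⟨_, a1⟩, ⟨_, I.monAct_mul (I.monAct_mul a15 a1) a18⟩, ⟨_, I.monAct_mul (I.monAct_mul a18 a1) a15⟩]
    have hy' : ∃ g, I.MonAct g y := by
      simp only [List.mem_cons, List.not_mem_nil, or_false] at hy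
      rcases hy with rfl | rfl | rfl
      exacts [⟨_, a0⟩, ⟨_, a15⟩, ⟨_, a18⟩]
    obtain ⟨g, hg⟩ := hx'
    obtain ⟨g', hg'⟩ := hy'
    exact ⟨_, I.monAct_mul hg hg'⟩
  by_cases hA : I.CaseA
  · exact even m (hm hA)
  obtain ⟨g7, -, h7⟩ := I.exists_B hA 2 two_square.2.2.2
  have a7 : I.MonAct g7 7 := fun v => by rw [h7 v, monT_gens.2.2.1]
  rcases hodd m with h | h
  · exact even m h
  · obtain ⟨g, hg⟩ := even _ h
    refine ⟨g * g7, ?_⟩
    have := I.monAct_mul hg a7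
    rwa [Monomial.mulA_assoc, h77, (Monomial.mulA_one m).2.1] at this

theorem exists_monAct {g : G} (hg : g ∈ I.toData.M) (h3 : g * I.e 3 * g⁻¹ = I.e 3) :
    ∃ m, I.Real m ∧ I.MonAct g m := by
  obtain ⟨f, hf⟩ := I.toFrame.exists_acts hg
  have f3 : f 3 = 3 := I.e_inj (by rw [← hf 3, h3])
  have fng : ∀ v, f (ng v) = ng (f v) := fun v => I.toFrame.acts_sc hf 2 v
  have hD : ∀ v ∈ ([1, 27] : List (Fin 81)), Sing (f v) ∧ ¬ Sing (ad 3 (f v)) ∧ ¬ Sing (ad 3 (ng (f v))) := by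
    intro v hv
    obtain ⟨hs, a1, a2⟩ := line_base v hv
    refine ⟨I.toFrame.sing_acts hf hs, ?_, ?_⟩
    · have := I.nonsing_acts hf a1
      rwa [I.toFrame.acts_add hf, f3] at this
    · have := I.nonsing_acts hf a2
      rwa [I.toFrame.acts_add hf, f3, fng] at this
  have hinj : Function.Injective f := fun a b h => I.e_inj (by
    have := (hf a).trans ((congrArg I.e h).trans (hf b).symm)
    exact mul_left_cancel (mul_right_cancel this))
  obtain ⟨m, hm, hma, hmb⟩ := lines_reach _ _ (hD 1 (by decide)).1 (hD 27 (by decide)).1 (hD 1 (by decide)).2.1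
    (hD 1 (by decide)).2.2 (hD 27 (by decide)).2.1 (hD 27 (by decide)).2.2
    (fun h => absurd (hinj h) (by decide +kernel))
    (fun h => absurd (hinj (h.trans (fng 1).symm)) (by decide +kernel))
  obtain ⟨r, hr⟩ := I.exists_lift (m := m) fun _ => hm
  have hrg := I.toFrame.acts_mul hr hf
  obtain ⟨c, hc, hB, hA⟩ := I.act_code hrg
    (by rcases hma with h | h <;> simp [h]) (by rcases hmb with h | h <;> simp [h])
  have hcf : ∀ x, monT m (f x) = actH c x := fun x => congrFun (I.toFrame.acts_unique hrg hc) x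
  obtain ⟨c1, c3, -, -⟩ := named_vectors.2.2.2.2.2.2.2 c
  have e3 : colA c = 3 := by rw [← c3, ← hcf, f3, monT_three]
  have eZ : colZ c = 1 ∨ colZ c = 2 := by rw [← c1, ← hcf]; exact hma
  have hg' : r⁻¹ * (r * g) = g := inv_mul_cancel_left r g
  have fin : ∀ y, (∀ x, actH c x = monT y x) → I.MonAct g (mulA (invA m) y) := fun y hy => by
    rw [← hg']
    exact I.monAct_mul (I.monAct_inv hr) fun v => by rw [hc v, hy]
  rcases line_code.1 c hB e3 eZ with rfl | rfl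
  · exact ⟨_, fun _ => even_closed.1 _ _ (even_closed.2.1 _ hm) even_closed.2.2.1, fin _ monT_gens.2.2.2⟩
  · exact ⟨_, fun h => absurd (line_code.2 _ I.hk₀ 2 (hA h) e3 eZ) (by decide), fin _ monT_gens.2.2.1⟩

/-- The preimage of the four-group. -/
def W4 : Subgroup G where
  carrier := {g | ∃ x : Fin 24, x.val < 4 ∧ I.MonAct g x}
  mul_mem' := by
    rintro a b ⟨x, hx, ha⟩ ⟨y, hy, hb⟩
    exact ⟨_, four_closed.1 x y hx hy, I.monAct_mul ha hb⟩
  one_mem' := ⟨oneA, by decide +kernel, I.monAct_J (one_mem _)⟩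
  inv_mem' := by
    rintro a ⟨x, hx, ha⟩
    exact ⟨_, (four_closed.2.1 x hx).1, I.monAct_inv ha⟩

/-- A Sylow two-subgroup of that preimage. -/
noncomputable def P4 : Subgroup G := (Classical.arbitrary (Sylow 2 I.W4) : Subgroup I.W4).map I.W4.subtype

theorem P4_le : I.P4 ≤ I.W4 := map_subtype_le _

theorem P4_isPGroup : IsPGroup 2 I.P4 := (Classical.arbitrary (Sylow 2 I.W4)).2.map _

theorem P4_sylow {T : Subgroup G} (hT : T ≤ I.W4) (hp : IsPGroup 2 T) :
    ∃ w ∈ I.W4, ∀ t ∈ T, w⁻¹ * t * w ∈ I.P4 := by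
  haveI : Fact (Nat.Prime 2) := ⟨Nat.prime_two⟩
  obtain ⟨R, hR⟩ := (hp.of_equiv (subgroupOfEquivOfLe hT).symm).exists_le_sylow
  obtain ⟨w, hw⟩ := MulAction.exists_smul_eq I.W4 (Classical.arbitrary (Sylow 2 I.W4)) R
  refine ⟨w, w.2, fun t ht => ?_⟩
  have h1 : (⟨t, hT ht⟩ : I.W4) ∈ R := hR (mem_subgroupOf.2 ht)
  rw [← hw] at h1
  obtain ⟨p, hp', e⟩ := h1
  have e' : (w : G) * (p : G) * (w : G)⁻¹ = t := congrArg Subtype.val e
  exact ⟨p, hp', by rw [← e']; show (p : G) = _; group⟩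

theorem P4_surj {x : Fin 24} (hx : x.val < 4) : ∃ p ∈ I.P4, I.MonAct p x := by
  obtain ⟨g, hg⟩ := I.exists_lift (m := x) fun _ => Or.inl hx
  have h2 : g * g ∈ I.J := I.monAct_ker ((four_closed.2.1 x hx).2 ▸ I.monAct_mul hg hg)
  obtain ⟨g', hg'd⟩ : ∃ g', g' = g * g * g := ⟨_, rfl⟩
  have hact : I.MonAct g' x := by
    have := I.monAct_mul (I.monAct_J h2) hg
    rwa [(Monomial.mulA_one x).1, ← hg'd] at this
  have hsq : g' ^ 2 = 1 := by
    rw [hg'd, show (g * g * g) ^ 2 = (g * g) ^ 3 by simp [pow_succ, mul_assoc]]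
    exact I.hJexp _ h2
  obtain ⟨n, -, hn⟩ := (Nat.dvd_prime_pow Nat.prime_two).1
    (orderOf_dvd_of_pow_eq_one (show g' ^ 2 ^ 1 = 1 by rw [pow_one]; exact hsq))
  obtain ⟨w, ⟨y, hy, hw⟩, hwP⟩ := I.P4_sylow (T := zpowers g') (zpowers_le.2 ⟨x, hx, hact⟩)
    (IsPGroup.of_card (n := n) (by rw [Nat.card_zpowers, hn]))
  refine ⟨_, hwP _ (mem_zpowers g'), ?_⟩
  have := I.monAct_mul (I.monAct_mul (I.monAct_inv hw) hact) hw
  rwa [(inv_cancelA y x).2 hx, four_closed.2.2.2.2 x y hx hy, (inv_cancelA y x).1] at this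

theorem P4_J {j : G} (hj : j ∈ I.J) (hjP : j ∈ normalizer (I.P4 : Set G)) : j ∈ zpowers (I.e 3) := by
  haveI : Fact (Nat.Prime 2) := ⟨Nat.prime_two⟩
  obtain ⟨v, rfl⟩ := (I.memJ j).1 hj
  have hfix : ∀ a : Fin 24, a.val < 4 → monT a v = v := by
    intro a ha
    obtain ⟨p, hp, hpa⟩ := I.P4_surj ha
    have hpj : p * I.e v * p⁻¹ ∈ I.J := (mem_normalizer_iff.1 (I.monAct_M hpa) _).1 hj
    have h1 : I.e v * p * (I.e v)⁻¹ * p⁻¹ ∈ I.P4 := mul_mem ((mem_normalizer_iff.1 hjP p).1 hp) (inv_mem hp)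
    have h2 : I.e v * p * (I.e v)⁻¹ * p⁻¹ ∈ I.J := by
      rw [show I.e v * p * (I.e v)⁻¹ * p⁻¹ = I.e v * (p * I.e v * p⁻¹)⁻¹ by group]
      exact mul_mem hj (inv_mem hpj)
    obtain ⟨n, hn⟩ := IsPGroup.iff_orderOf.1 I.P4_isPGroup ⟨_, h1⟩
    have h3 : orderOf (I.e v * p * (I.e v)⁻¹ * p⁻¹) = 1 := by
      refine Nat.eq_one_of_dvd_coprimes (Nat.Coprime.pow_left n (show Nat.Coprime 2 3 by decide)) ?_
        (orderOf_dvd_of_pow_eq_one (I.hJexp _ h2))
      rw [← hn]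
      exact dvd_of_eq (orderOf_coe (⟨_, h1⟩ : I.P4))
    have h4 := orderOf_eq_one_iff.1 h3
    refine I.e_inj ?_
    rw [← hpa v, show p * I.e v * p⁻¹ = (I.e v * p * (I.e v)⁻¹ * p⁻¹)⁻¹ * I.e v by group, h4, inv_one, one_mul]
  obtain ⟨k, hk⟩ := four_closed.2.2.2.1 v hfix
  rw [hk, I.toFrame.e_sc]
  exact pow_mem (mem_zpowers _) _

theorem exists_norm {m : Fin 24} (hm : I.Real m) :
    ∃ g, I.MonAct g m ∧ g ∈ normalizer (I.P4 : Set G) := by
  obtain ⟨g, hg⟩ := I.exists_lift hm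
  have hgW : ∀ t ∈ I.W4, g * t * g⁻¹ ∈ I.W4 := by
    rintro t ⟨x, hx, ht⟩
    exact ⟨_, four_closed.2.2.1 m x hx, I.monAct_mul (I.monAct_mul hg ht) (I.monAct_inv hg)⟩
  obtain ⟨w, hwW, hwP⟩ := I.P4_sylow (T := I.P4.map (MulAut.conj g).toMonoidHom)
    (by rintro _ ⟨t, ht, rfl⟩; exact hgW t (I.P4_le ht)) (I.P4_isPGroup.map _)
  have hwg : w⁻¹ * g ∈ normalizer (I.P4 : Set G) := mem_normalizer_of_map_mem fun t ht => by
    have := hwP _ ⟨t, ht, rfl⟩
    rw [show (MulAut.conj g).toMonoidHom t = g * t * g⁻¹ from rfl] at this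
    rwa [show w⁻¹ * g * t * (w⁻¹ * g)⁻¹ = w⁻¹ * (g * t * g⁻¹) * w by group]
  obtain ⟨x, hx, hw⟩ := hwW
  obtain ⟨p, hp, hpa⟩ := I.P4_surj hx
  refine ⟨p * (w⁻¹ * g), ?_, mul_mem (le_normalizer hp) hwg⟩
  have := I.monAct_mul hpa (I.monAct_mul (I.monAct_inv hw) hg)
  rwa [← Monomial.mulA_assoc, mulA_right, (Monomial.mulA_one m).1] at this

theorem norm_unique {g g' : G} {m : Fin 24} (hg : I.MonAct g m) (hgP : g ∈ normalizer (I.P4 : Set G))
    (hg' : I.MonAct g' m) (hgP' : g' ∈ normalizer (I.P4 : Set G)) : g⁻¹ * g' ∈ zpowers (I.e 3) := by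
  refine I.P4_J (I.monAct_ker ?_) (mul_mem (inv_mem hgP) hgP')
  have := I.monAct_mul (I.monAct_inv hg) hg'
  rwa [(Monomial.mulA_one m).2.2] at this

/-- The centraliser of the point. -/
abbrev C3 : Subgroup G := centralizer ({I.e 3} : Set G)

/-- The point inside its centraliser. -/
abbrev A3 : Subgroup I.C3 := (zpowers (I.e 3)).subgroupOf I.C3

theorem C3_comm {g : G} : g ∈ I.C3 ↔ g * I.e 3 * g⁻¹ = I.e 3 := by
  rw [mem_centralizer_singleton_iff, mul_inv_eq_iff_eq_mul]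

instance A3_normal : I.A3.Normal := ⟨fun n hn g => by
  obtain ⟨k, hk⟩ := mem_zpowers_iff.1 (mem_subgroupOf.1 hn)
  refine mem_subgroupOf.2 ?_
  push_cast
  rw [← hk, ← ((show Commute (g : G) (I.e 3) from mem_centralizer_singleton_iff.1 g.2).zpow_right k).eq.symm,
    mul_inv_cancel_right, hk]
  exact mem_subgroupOf.1 hn⟩

/-- The projection. -/
abbrev pj : I.C3 →* I.C3 ⧸ I.A3 := QuotientGroup.mk' I.A3

theorem pj_eq {x y : I.C3} : I.pj x = I.pj y ↔ (x : G)⁻¹ * y ∈ zpowers (I.e 3) := by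
  rw [QuotientGroup.mk'_apply, QuotientGroup.mk'_apply, QuotientGroup.eq, mem_subgroupOf]
  push_cast
  exact Iff.rfl

theorem pj_one {x : I.C3} : I.pj x = 1 ↔ (x : G) ∈ zpowers (I.e 3) := by
  rw [QuotientGroup.mk'_apply, QuotientGroup.eq_one_iff, mem_subgroupOf]

theorem J_le_C3 : I.J ≤ I.C3 := fun _ hj =>
  mem_centralizer_singleton_iff.2 (I.toData.J_comm hj (I.toFrame.e_mem 3))

theorem A3_le_J : zpowers (I.e 3) ≤ I.J := zpowers_le.2 (I.toFrame.e_mem 3)

/-- The image of the abelian subgroup. -/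
abbrev Jb : Subgroup (I.C3 ⧸ I.A3) := (I.J.subgroupOf I.C3).map I.pj

/-- The image of the normaliser. -/
abbrev Hb : Subgroup (I.C3 ⧸ I.A3) := (I.toData.M.subgroupOf I.C3).map I.pj

theorem mem_Jb {x : I.C3} : I.pj x ∈ I.Jb ↔ (x : G) ∈ I.J := by
  refine ⟨?_, fun h => mem_map_of_mem _ (mem_subgroupOf.2 h)⟩
  rintro ⟨y, hy, e⟩
  have := mul_mem (mem_subgroupOf.1 hy) (I.A3_le_J (I.pj_eq.1 e))
  rwa [mul_inv_cancel_left] at this

theorem mem_Hb {x : I.C3} : I.pj x ∈ I.Hb ↔ (x : G) ∈ I.toData.M := by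
  refine ⟨?_, fun h => mem_map_of_mem _ (mem_subgroupOf.2 h)⟩
  rintro ⟨y, hy, e⟩
  have := mul_mem (mem_subgroupOf.1 hy) (le_normalizer (I.A3_le_J (I.pj_eq.1 e)))
  rwa [mul_inv_cancel_left] at this

theorem Jb_le_Hb : I.Jb ≤ I.Hb := map_mono fun _ hx => mem_subgroupOf.2 (le_normalizer (mem_subgroupOf.1 hx))

/-- The monomial elements that occur. -/
def MonR : Subgroup Mon where
  carrier := {k | I.Real k.a}
  mul_mem' := fun {x y} hx hy hA => even_closed.1 _ _ (hx hA) (hy hA)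
  one_mem' := fun _ => even_closed.2.2.1
  inv_mem' := fun {x} hx hA => even_closed.2.1 _ (hx hA)

theorem four_le_MonR : four ≤ I.MonR := fun _ hk _ => Or.inl hk

/-- The chosen lift. -/
noncomputable def kk (k : I.MonR) : G := (I.exists_norm k.2).choose

theorem kk_spec (k : I.MonR) : I.MonAct (I.kk k) k.1.a ∧ I.kk k ∈ normalizer (I.P4 : Set G) :=
  (I.exists_norm k.2).choose_spec

theorem kk_C3 (k : I.MonR) : I.kk k ∈ I.C3 := I.C3_comm.2 (I.monAct_three (I.kk_spec k).1)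

/-- The model map. -/
noncomputable def model : I.MonR →* I.C3 ⧸ I.A3 :=
  MonoidHom.mk' (fun k => I.pj ⟨I.e (emb k.1.v) * I.kk k, mul_mem (I.J_le_C3 (I.toFrame.e_mem _)) (I.kk_C3 k)⟩)
    fun x y => by
      rw [← map_mul, I.pj_eq]
      push_cast
      obtain ⟨hx, hxP⟩ := I.kk_spec x
      obtain ⟨hy, hyP⟩ := I.kk_spec y
      obtain ⟨hz, hzP⟩ := I.kk_spec (x * y)
      have he : I.e (emb ((x * y : I.MonR) : Mon).v) * (I.kk x * I.kk y) =
          I.e (emb x.1.v) * I.kk x * (I.e (emb y.1.v) * I.kk y) := by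
        show I.e (emb (addV x.1.v (actV x.1.a y.1.v))) * (I.kk x * I.kk y) = _
        rw [emb_add, I.e_add, ← monT_emb, ← hx]
        group
      rw [← he]
      have e : ∀ u p q : G, (u * p)⁻¹ * (u * q) = p⁻¹ * q := fun u p q => by group
      exact (e (I.e (emb ((x * y : I.MonR) : Mon).v)) (I.kk (x * y)) (I.kk x * I.kk y)).symm ▸
        I.norm_unique hz hzP (I.monAct_mul hx hy) (mul_mem hxP hyP)

theorem model_apply (k : I.MonR) : I.model k =
    I.pj ⟨I.e (emb k.1.v) * I.kk k, mul_mem (I.J_le_C3 (I.toFrame.e_mem _)) (I.kk_C3 k)⟩ := rfl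

theorem model_act (k : I.MonR) : I.MonAct (I.e (emb k.1.v) * I.kk k) k.1.a := by
  have := I.monAct_mul (I.monAct_J (I.toFrame.e_mem (emb k.1.v))) (I.kk_spec k).1
  rwa [(Monomial.mulA_one _).1] at this

theorem model_mem_Jb (k : I.MonR) : I.model k ∈ I.Jb ↔ InV (k : Mon) := by
  rw [model_apply, I.mem_Jb]
  exact ⟨fun h => I.monAct_unique (I.model_act k) (I.monAct_J h),
    fun h => I.monAct_ker (show I.MonAct _ oneA from (show k.1.a = oneA from h) ▸ I.model_act k)⟩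

theorem model_injective : Function.Injective I.model := by
  rw [injective_iff_map_eq_one]
  intro k hk
  have ha : k.1.a = oneA := (I.model_mem_Jb k).1 (hk ▸ one_mem _)
  rw [model_apply, I.pj_one] at hk
  have hkk : I.kk k ∈ zpowers (I.e 3) := by
    refine I.P4_J (I.monAct_ker ?_) (I.kk_spec k).2
    exact ha ▸ (I.kk_spec k).1
  have hv : I.e (emb k.1.v) ∈ zpowers (I.e 3) := by
    have := mul_mem hk (inv_mem hkk)
    rwa [mul_inv_cancel_right] at this
  refine Subtype.ext (Monomial.Mon.ext ?_ ha)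
  rw [I.toFrame.mem_line mid_points.1] at hv
  rcases emb_facts.2.2.2.1 k.1.v with h | h
  · exfalso
    rcases hv with r | r | r
    · exact h 0 (r.trans (ad_facts 3).2.2.2.2.2.1.symm)
    · exact h 1 (r.trans (ad_facts 3).2.2.2.2.1.symm)
    · exact h 2 r
  · exact h

theorem model_range : I.model.range = I.Hb := by
  apply le_antisymm
  · rintro _ ⟨k, rfl⟩
    rw [model_apply, I.mem_Hb]
    exact I.monAct_M (I.model_act k)
  · rintro _ ⟨g, hg, rfl⟩
    obtain ⟨m, hm, hga⟩ := I.exists_monAct (mem_subgroupOf.1 hg) (I.C3_comm.1 g.2)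
    obtain ⟨k₀, hk₀, hkP⟩ := I.exists_norm hm
    obtain ⟨x, hx⟩ := (I.memJ _).1 (I.monAct_ker (g := k₀⁻¹ * (g : G)) (by
      have := I.monAct_mul (I.monAct_inv hk₀) hga
      rwa [(Monomial.mulA_one m).2.2] at this))
    refine ⟨⟨⟨actV m (crd x), m⟩, hm⟩, ?_⟩
    rw [model_apply, I.pj_eq]
    obtain ⟨hkk, hkkP⟩ := I.kk_spec ⟨⟨actV m (crd x), m⟩, hm⟩
    show (I.e (emb (actV m (crd x))) * I.kk ⟨⟨actV m (crd x), m⟩, hm⟩)⁻¹ * (g : G) ∈ _
    obtain ⟨j, hj⟩ : ∃ j : Fin 3, j.val = dg x 1 := ⟨⟨_, Nat.mod_lt _ (by norm_num)⟩, rfl⟩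
    have hgk : (g : G) = I.e 3 ^ j.val * I.e (emb (actV m (crd x))) * k₀ := by
      rw [← I.toFrame.e_sc, ← I.e_add, hj, show ad (sc (dg x 1) 3) (emb (actV m (crd x))) = monT m x from rfl,
        ← hk₀ x, hx]
      group
    have hc : Commute (I.e 3 ^ j.val) (I.e (emb (actV m (crd x))) * I.kk ⟨⟨actV m (crd x), m⟩, hm⟩) :=
      (Commute.mul_right (I.toData.J_comm (I.toFrame.e_mem 3) (I.toFrame.e_mem _))
        (show Commute (I.kk ⟨⟨actV m (crd x), m⟩, hm⟩) (I.e 3) from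
          mem_centralizer_singleton_iff.1 (I.kk_C3 _)).symm).pow_left _
    have e : (I.e (emb (actV m (crd x))) * I.kk ⟨⟨actV m (crd x), m⟩, hm⟩)⁻¹ * (g : G) =
        I.e 3 ^ j.val * ((I.kk ⟨⟨actV m (crd x), m⟩, hm⟩)⁻¹ * k₀) := by
      rw [hgk, mul_assoc (I.e 3 ^ j.val), ← mul_assoc _ (I.e 3 ^ j.val), ← hc.inv_right.eq]
      group
    rw [e]
    exact mul_mem (pow_mem (mem_zpowers _) _) (I.norm_unique hkk hkkP hk₀ hkP)

end Inv

end Cfsg.Lib.McLLocal
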