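import Cfsg.Agent.LocalThree.McLLocal.WeakData

/-!
Computations on the middle plane.
-/

set_option autoImplicit false
set_option maxRecDepth 100000
set_option synthInstance.maxSize 4096

namespace Cfsg.Lib.McLLocal

/-- A vector of the middle plane. -/
def InMid (v : Fin 81) : Prop := dg v 0 = 0 ∧ dg v 3 = 0

instance : DecidablePred InMid := fun _ => inferInstanceAs (Decidable (_ ∧ _))

theorem mid_closed : InMid 0 ∧ InMid 3 ∧ InMid 9 ∧ (∀ v, InMid v → InMid (ng v)) ∧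
    (∀ v w, InMid v → InMid w → InMid (ad v w)) ∧ (Finset.univ.filter fun v : Fin 81 => InMid v).card = 9 ∧
    ∀ v, InMid v → v = ad (sc (dg v 1) 3) (sc (dg v 2) 9) := by decide +kernel

theorem mid_points : (3 : Fin 81) ≠ 0 ∧ ¬ Sing (3 : Fin 81) ∧ (9 : Fin 81) ≠ 0 ∧ ¬ Sing (9 : Fin 81) ∧
    ¬ InMid 1 ∧ ¬ InMid 27 ∧ ¬ InMid (ad 1 27) ∧ ¬ InMid (ad 1 (ng 27)) ∧ ¬ InMid (ad 27 (ng 1)) ∧
    ¬ InMid (ad (ad 1 27) (ng 1)) ∧ ¬ InMid (ad (ad 1 27) (ng 27)) ∧ ¬ InMid (ad (ad 1 27) 1) ∧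
    ¬ InMid (ad (ad 1 27) 27) ∧ ¬ InMid (ad (colZ 2) (ng 1)) := by decide +kernel

theorem pair_plane : ∀ v, Sing v → ¬ Sing (ad 3 v) → ¬ Sing (ad 3 (ng v)) → ¬ Sing (ad 9 v) → ¬ Sing (ad 9 (ng v)) →
    v ∈ ([1, 2, 27, 54] : List (Fin 81)) := by decide +kernel

theorem pair_base : ∀ v ∈ ([1, 27] : List (Fin 81)), Sing v ∧ ¬ Sing (ad 3 v) ∧ ¬ Sing (ad 3 (ng v)) ∧
    ¬ Sing (ad 9 v) ∧ ¬ Sing (ad 9 (ng v)) := by decide +kernel

theorem coset_sing : ∀ v, ¬ InMid v → ∃ i j : Fin 3, Sing (ad v (ad (sc i.val 3) (sc j.val 9))) := by decide +kernel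

theorem two_code : (∀ c ∈ codesB, colA c = 3 → colB c = 9 → c = 0 ∨ c = 2) ∧
    ∀ k : Fin 64, kFour k → ∀ c ∈ codesA k, colA c = 3 → colB c = 9 → c = 0 := by decide +kernel

theorem two_inverts : ∀ v, InMid (ad (actH 2 v) v) := by decide +kernel

theorem two_square : mulH 2 2 = 0 ∧ colA 2 = 3 ∧ colB 2 = 9 ∧ (2 : Fin 64) ∈ codesB := by decide +kernel

end Cfsg.Lib.McLLocal
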