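import Cfsg.Agent.LocalThree.McLLocal.WeakFusion
import Cfsg.Agent.LocalThree.McLLocal.WeakPairData
import Cfsg.Agent.LocalThree.RankThree.CoreQuot
import Cfsg.Agent.LocalThree.SymNineLocal.Nine

/-!
The centraliser of an anisotropic plane.
-/

set_option autoImplicit false
set_option linter.unusedSectionVars false
set_option maxRecDepth 100000
set_option synthInstance.maxSize 4096

namespace Cfsg.Lib.McLLocal

open Subgroup
open scoped Pointwise

universe u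

variable {G : Type u} [Group G] [Finite G]

namespace Inv

variable (I : Inv G)

include I

theorem nonsing_acts {g : G} {f : Fin 81 → Fin 81} (hf : I.toFrame.Acts g f) {v : Fin 81} (hv : ¬ Sing v) :
    ¬ Sing (f v) := fun h => hv (I.toFrame.sing_conj (inv_mem (I.toFrame.acts_mem hf)) h (by rw [← hf v]; group))

/-- An element preserving the pair acts by one of the codes that occur. -/
theorem act_code {g : G} {f : Fin 81 → Fin 81} (hf : I.toFrame.Acts g f)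
    (h1 : f 1 ∈ ([1, 2, 27, 54] : List (Fin 81))) (h27 : f 27 ∈ ([1, 2, 27, 54] : List (Fin 81))) :
    ∃ c, I.toFrame.Acts g (actH c) ∧ c ∈ codesB ∧ (I.CaseA → c ∈ codesA I.k₀) := by
  have hinj : Function.Injective f := fun a b h => I.e_inj (by
    have := (hf a).trans ((congrArg I.e h).trans (hf b).symm)
    exact mul_left_cancel (mul_right_cancel this))
  obtain ⟨c, hc⟩ := I.toFrame.pair_acts hf (pair_images _ h1 _ h27 (fun h => absurd (hinj h) (by decide +kernel))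
    fun h => by
      have h2 : f (sc (2 : Fin 3).val 1) = ng (f 1) := I.toFrame.acts_sc hf 2 1
      exact absurd (hinj (h.trans h2.symm)) (by decide +kernel))
  obtain ⟨j, -, hcomm, hact⟩ := I.toFrame.lift_comm I.ht I.hta hc
  exact ⟨c, hc, I.code_mem (mem_inf.2 ⟨I.mem_H hcomm, I.toFrame.acts_mem hact⟩) hact⟩

/-- An element fixing the middle plane acts by one of two codes. -/
theorem plane_code {g : G} (hg : g ∈ I.toData.M) (h3 : g * I.e 3 * g⁻¹ = I.e 3) (h9 : g * I.e 9 * g⁻¹ = I.e 9) :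
    ∃ c, I.toFrame.Acts g (actH c) ∧ (c = 0 ∨ c = 2) ∧ (I.CaseA → c = 0) := by
  obtain ⟨f, hf⟩ := I.toFrame.exists_acts hg
  have f3 : f 3 = 3 := I.e_inj (by rw [← hf 3, h3])
  have f9 : f 9 = 9 := I.e_inj (by rw [← hf 9, h9])
  have fng : ∀ v, f (ng v) = ng (f v) := fun v => I.toFrame.acts_sc hf 2 v
  have hD : ∀ v ∈ ([1, 27] : List (Fin 81)), f v ∈ ([1, 2, 27, 54] : List (Fin 81)) := by
    intro v hv
    obtain ⟨hs, a1, a2, a3, a4⟩ := pair_base v hv
    refine pair_plane _ (I.toFrame.sing_acts hf hs) ?_ ?_ ?_ ?_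
    · have := I.nonsing_acts hf a1
      rwa [I.toFrame.acts_add hf, f3] at this
    · have := I.nonsing_acts hf a2
      rwa [I.toFrame.acts_add hf, f3, fng] at this
    · have := I.nonsing_acts hf a3
      rwa [I.toFrame.acts_add hf, f9] at this
    · have := I.nonsing_acts hf a4
      rwa [I.toFrame.acts_add hf, f9, fng] at this
  obtain ⟨c, hc, hB, hA⟩ := I.act_code hf (hD 1 (by decide)) (hD 27 (by decide))
  obtain ⟨-, c3, c9, -⟩ := named_vectors.2.2.2.2.2.2.2 c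
  have e3 : colA c = 3 := by rw [← c3]; exact I.e_inj (by rw [← hc 3, h3])
  have e9 : colB c = 9 := by rw [← c9]; exact I.e_inj (by rw [← hc 9, h9])
  exact ⟨c, hc, two_code.1 c hB e3 e9, fun h => two_code.2 _ I.hk₀ c (hA h) e3 e9⟩

/-- The middle plane in the group. -/
def midGrp : Subgroup G where
  carrier := {g | ∃ v, InMid v ∧ I.e v = g}
  mul_mem' := by
    rintro _ _ ⟨v, hv, rfl⟩ ⟨w, hw, rfl⟩
    exact ⟨_, mid_closed.2.2.2.2.1 v w hv hw, I.e_add v w⟩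
  one_mem' := ⟨0, mid_closed.1, I.toFrame.e_zero⟩
  inv_mem' := by
    rintro _ ⟨v, hv, rfl⟩
    exact ⟨_, mid_closed.2.2.2.1 v hv, I.toFrame.e_inv v⟩

theorem mem_midGrp {v : Fin 81} : I.e v ∈ I.midGrp ↔ InMid v :=
  ⟨fun ⟨_, hw, e⟩ => I.e_inj e ▸ hw, fun h => ⟨v, h, rfl⟩⟩

theorem midGrp_le : I.midGrp ≤ I.J := by
  rintro _ ⟨v, -, rfl⟩
  exact I.toFrame.e_mem v

theorem card_midGrp : Nat.card I.midGrp = 9 := by
  rw [← mid_closed.2.2.2.2.2.1, ← Nat.card_eq_finsetCard]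
  exact (Nat.card_congr (Equiv.ofBijective
    (fun v : (Finset.univ.filter fun v : Fin 81 => InMid v) => (⟨I.e v.1, ⟨v.1, (Finset.mem_filter.1 v.2).2, rfl⟩⟩ : I.midGrp))
    ⟨fun v w h => Subtype.ext (I.e_inj (congrArg Subtype.val h)), fun ⟨_, v, hv, e⟩ =>
      ⟨⟨v, Finset.mem_filter.2 ⟨Finset.mem_univ _, hv⟩⟩, Subtype.ext e⟩⟩)).symm

/-- The centraliser of the middle plane. -/
abbrev Y : Subgroup G := centralizer ({I.e 3} : Set G) ⊓ centralizer ({I.e 9} : Set G)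

theorem mem_Y {g : G} : g ∈ I.Y ↔ g * I.e 3 * g⁻¹ = I.e 3 ∧ g * I.e 9 * g⁻¹ = I.e 9 := by
  rw [mem_inf, mem_centralizer_singleton_iff, mem_centralizer_singleton_iff, mul_inv_eq_iff_eq_mul, mul_inv_eq_iff_eq_mul]

theorem Y_mid {g m : G} (hg : g ∈ I.Y) (hm : m ∈ I.midGrp) : g * m = m * g := by
  obtain ⟨v, hv, rfl⟩ := hm
  obtain ⟨h3, h9⟩ := I.mem_Y.1 hg
  obtain ⟨i, hi⟩ : ∃ i : Fin 3, i.val = dg v 1 := ⟨⟨_, Nat.mod_lt _ (by norm_num)⟩, rfl⟩
  obtain ⟨j, hj⟩ : ∃ j : Fin 3, j.val = dg v 2 := ⟨⟨_, Nat.mod_lt _ (by norm_num)⟩, rfl⟩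
  rw [mid_closed.2.2.2.2.2.2 v hv, ← hi, ← hj, I.e_add, I.toFrame.e_sc, I.toFrame.e_sc]
  exact (((show Commute g (I.e 3) from mul_inv_eq_iff_eq_mul.1 h3).pow_right i.val).mul_right
    ((show Commute g (I.e 9) from mul_inv_eq_iff_eq_mul.1 h9).pow_right j.val)).eq

theorem J_le_Y : I.J ≤ I.Y := fun j hj => mem_inf.2
  ⟨mem_centralizer_singleton_iff.2 (I.toData.J_comm hj (I.toFrame.e_mem 3)),
    mem_centralizer_singleton_iff.2 (I.toData.J_comm hj (I.toFrame.e_mem 9))⟩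

/-- An element moving a vector off the plane by the plane only lies in the normaliser. -/
theorem plane_move {g : G} (hg : g ∈ I.Y) {v : Fin 81} (hv : ¬ InMid v)
    (h : g * I.e v * g⁻¹ * (I.e v)⁻¹ ∈ I.midGrp) : g ∈ I.toData.M := by
  obtain ⟨i, j, hs⟩ := coset_sing v hv
  refine I.move mid_points.1 mid_points.2.1 hs (I.mem_Y.1 hg).1 ?_
  rw [I.e_add v]
  obtain ⟨m, hm⟩ : ∃ m, m = I.e (ad (sc i.val 3) (sc j.val 9)) := ⟨_, rfl⟩
  have hmM : m ∈ I.midGrp := hm ▸ I.mem_midGrp.2 (mid_closed.2.2.2.2.1 _ _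
    ((show ∀ i : Fin 3, InMid (sc i.val 3) by decide +kernel) i) ((show ∀ i : Fin 3, InMid (sc i.val 9) by decide +kernel) j))
  rw [← hm, show g * (I.e v * m) * g⁻¹ = g * I.e v * g⁻¹ * (g * m * g⁻¹) by group, I.Y_mid hg hmM, mul_inv_cancel_right]
  refine le_normalizer (mul_mem ?_ (I.midGrp_le hmM))
  have := mul_mem (I.midGrp_le h) (I.toFrame.e_mem v)
  rwa [inv_mul_cancel_right] at this

/-- The centraliser of the plane lies in the normaliser. -/
theorem Y_le_M : I.Y ≤ I.toData.M := by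
  classical
  haveI := fact_three
  obtain ⟨Zm, hZm⟩ : ∃ Zm : Subgroup I.Y, Zm = I.midGrp.subgroupOf I.Y := ⟨_, rfl⟩
  haveI : Zm.Normal := ⟨fun n hn g => by
    rw [hZm, mem_subgroupOf] at hn ⊢
    push_cast
    rw [I.Y_mid g.2 hn, mul_inv_cancel_right]
    exact hn⟩
  obtain ⟨π, hπ⟩ : ∃ π : I.Y →* I.Y ⧸ Zm, π = QuotientGroup.mk' Zm := ⟨_, rfl⟩
  have hsurj : Function.Surjective π := hπ ▸ QuotientGroup.mk'_surjective Zm
  have hker : ∀ x : I.Y, π x = 1 ↔ (x : G) ∈ I.midGrp := fun x => by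
    rw [hπ, ← MonoidHom.mem_ker, QuotientGroup.ker_mk', hZm, mem_subgroupOf]
  have hJY := I.J_le_Y
  have hsylow : ∀ x : I.Y, (x : G) ∈ I.toData.M → (∃ k : ℕ, orderOf (x : G) = 3 ^ k) → (x : G) ∈ I.J := by
    rintro x hx ⟨k, hk⟩
    obtain ⟨c, hc, hc02, -⟩ := I.plane_code hx (I.mem_Y.1 x.2).1 (I.mem_Y.1 x.2).2
    rcases hc02 with rfl | rfl
    · exact I.toFrame.acts_zero hc
    have h2 : (x : G) ^ 2 ∈ I.J := I.toFrame.acts_zero (two_square.1 ▸ (pow_two (x : G)).symm ▸ I.toFrame.acts_H_mul hc hc)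
    obtain ⟨m, hm⟩ : ∃ m : ℕ, (x : G) = ((x : G) ^ 2) ^ m := ⟨(3 ^ k + 1) / 2, by
      rw [← pow_mul, Nat.mul_div_cancel' (show 2 ∣ 3 ^ k + 1 by
        rw [Nat.dvd_iff_mod_eq_zero, Nat.add_mod, Nat.pow_mod]; norm_num), pow_succ, ← hk, pow_orderOf_eq_one, one_mul]⟩
    rw [hm]
    exact pow_mem h2 m
  obtain ⟨R, hR⟩ := ((I.S.2.to_le I.hJS).of_equiv (subgroupOfEquivOfLe hJY).symm).exists_le_sylow
  have hRJ : (R : Subgroup I.Y) = I.J.subgroupOf I.Y := by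
    refine le_antisymm ?_ hR
    haveI : Group.IsNilpotent (R : Subgroup I.Y) := R.2.isNilpotent
    suffices h : (I.J.subgroupOf I.Y).subgroupOf (R : Subgroup I.Y) = ⊤ from fun x hx => by
      have : (⟨x, hx⟩ : (R : Subgroup I.Y)) ∈ (I.J.subgroupOf I.Y).subgroupOf (R : Subgroup I.Y) := h ▸ mem_top _
      exact this
    by_contra hne
    have hlt := normalizerCondition_of_isNilpotent _ (lt_top_iff_ne_top.2 hne)
    obtain ⟨x, hx, hxn⟩ := SetLike.exists_of_lt hlt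
    refine hxn (mem_subgroupOf.2 (mem_subgroupOf.2 (hsylow x.1 (mem_normalizer_of_map_mem fun j hj => ?_) ?_)))
    · exact (mem_normalizer_iff.1 hx ⟨⟨j, hJY hj⟩, hR (mem_subgroupOf.2 hj)⟩).1
        (mem_subgroupOf.2 (mem_subgroupOf.2 hj))
    · obtain ⟨k, hk⟩ := IsPGroup.iff_orderOf.1 R.2 x
      exact ⟨k, by rw [orderOf_coe, orderOf_coe, hk]⟩
  obtain ⟨P, hP⟩ : ∃ P : Sylow 3 (I.Y ⧸ Zm), P = R.mapSurjective hsurj := ⟨_, rfl⟩
  have hPc : (P : Subgroup (I.Y ⧸ Zm)) = (I.J.subgroupOf I.Y).map π := by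
    rw [hP, Sylow.coe_mapSurjective, hRJ]
  have memP : ∀ x : I.Y, π x ∈ (P : Subgroup (I.Y ⧸ Zm)) ↔ (x : G) ∈ I.J := by
    intro x
    rw [hPc]
    refine ⟨?_, fun h => mem_map_of_mem π (mem_subgroupOf.2 h)⟩
    rintro ⟨y, hy, e⟩
    have h1 : π (y⁻¹ * x) = 1 := by rw [map_mul, map_inv, e, inv_mul_cancel]
    have := mul_mem (mem_subgroupOf.1 hy) (I.midGrp_le ((hker _).1 h1))
    simpa using this
  have hlift : ∀ q ∈ (P : Subgroup (I.Y ⧸ Zm)), ∃ j : I.Y, (j : G) ∈ I.J ∧ π j = q := by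
    intro q hq
    obtain ⟨j, rfl⟩ := hsurj q
    exact ⟨j, (memP j).1 hq, rfl⟩
  have hcomm : ∀ x ∈ (P : Subgroup (I.Y ⧸ Zm)), ∀ y ∈ (P : Subgroup (I.Y ⧸ Zm)), x * y = y * x := by
    intro x hx y hy
    obtain ⟨a, ha, rfl⟩ := hlift x hx
    obtain ⟨b, hb, rfl⟩ := hlift y hy
    rw [← map_mul, ← map_mul]
    exact congrArg π (Subtype.ext (I.toData.J_comm ha hb))
  have hcube : ∀ x ∈ (P : Subgroup (I.Y ⧸ Zm)), x * (x * x) = 1 := by
    intro x hx
    obtain ⟨a, ha, rfl⟩ := hlift x hx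
    rw [← map_mul, ← map_mul, show a * (a * a) = 1 from Subtype.ext (by
      show (a : G) * (a * a) = 1
      have := I.hJexp _ ha
      rwa [pow_succ', pow_two] at this), map_one]
  have hnormM : ∀ x : I.Y, π x ∈ normalizer ((P : Subgroup (I.Y ⧸ Zm)) : Set (I.Y ⧸ Zm)) → (x : G) ∈ I.toData.M := by
    intro x hx
    refine mem_normalizer_of_map_mem fun j hj => ?_
    have := (mem_normalizer_iff.1 hx (π ⟨j, hJY hj⟩)).1 ((memP _).2 hj)
    rw [← map_inv, ← map_mul, ← map_mul] at this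
    exact (memP _).1 this
  have hMnorm : ∀ x : I.Y, (x : G) ∈ I.toData.M → π x ∈ normalizer ((P : Subgroup (I.Y ⧸ Zm)) : Set (I.Y ⧸ Zm)) := by
    intro x hx
    refine mem_normalizer_of_map_mem fun q hq => ?_
    obtain ⟨j, hj, rfl⟩ := hlift q hq
    rw [← map_inv, ← map_mul, ← map_mul]
    exact (memP _).2 ((mem_normalizer_iff.1 hx _).1 hj)
  have hcentM : ∀ x j : I.Y, (j : G) ∈ I.J → (j : G) ∉ I.midGrp → π x * π j = π j * π x → (x : G) ∈ I.toData.M := by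
    intro x j hj hjm e
    obtain ⟨v, hv⟩ := (I.memJ _).1 hj
    refine I.plane_move x.2 (v := v) (fun h => hjm (hv ▸ I.mem_midGrp.2 h)) ?_
    have h1 : π (x * j * x⁻¹ * j⁻¹) = 1 := by
      rw [map_mul, map_mul, map_mul, map_inv, map_inv, e, mul_inv_cancel_right, mul_inv_cancel]
    rw [hv]
    exact (hker _).1 h1
  obtain ⟨x1, hx1d⟩ : ∃ x : I.Y, x = ⟨I.e 1, hJY (I.toFrame.e_mem 1)⟩ := ⟨_, rfl⟩
  have hself : centralizer ((P : Subgroup (I.Y ⧸ Zm)) : Set (I.Y ⧸ Zm)) = P := by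
    refine le_antisymm (fun q hq => ?_) fun q hq => mem_centralizer_iff.2 fun y hy => hcomm y hy q hq
    obtain ⟨x, rfl⟩ := hsurj q
    have he := (mem_centralizer_iff.1 hq (π x1) ((memP x1).2 (hx1d ▸ I.toFrame.e_mem 1))).symm
    have hxM := hnormM x (centralizer_le_normalizer _ hq)
    obtain ⟨c, hc, hc02, -⟩ := I.plane_code hxM (I.mem_Y.1 x.2).1 (I.mem_Y.1 x.2).2
    rcases hc02 with rfl | rfl
    · exact (memP x).2 (I.toFrame.acts_zero hc)
    exfalso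
    have h1 : π (x * x1 * x⁻¹ * x1⁻¹) = 1 := by
      rw [map_mul, map_mul, map_mul, map_inv, map_inv, he, mul_inv_cancel_right, mul_inv_cancel]
    have h2 : (x : G) * I.e 1 * (x : G)⁻¹ * (I.e 1)⁻¹ ∈ I.midGrp := by
      have := (hker _).1 h1
      rwa [hx1d] at this
    rw [hc 1, (named_vectors.2.2.2.2.2.2.2 2).1, ← I.toFrame.e_inv, ← I.e_add, I.mem_midGrp] at h2
    exact mid_points.2.2.2.2.2.2.2.2.2.2.2.2.2 h2
  have hC : ∀ t ∈ (P : Subgroup (I.Y ⧸ Zm)), t ≠ 1 →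
      centralizer ({t} : Set (I.Y ⧸ Zm)) ≤ normalizer ((P : Subgroup (I.Y ⧸ Zm)) : Set (I.Y ⧸ Zm)) := by
    intro t ht ht1 q hq
    obtain ⟨j, hj, rfl⟩ := hlift t ht
    obtain ⟨x, rfl⟩ := hsurj q
    exact hMnorm x (hcentM x j hj (fun h => ht1 ((hker j).2 h)) (mem_centralizer_singleton_iff.1 hq))
  have h9 : Nat.card (P : Subgroup (I.Y ⧸ Zm)) = 9 := by
    have hle : Zm ≤ I.J.subgroupOf I.Y := hZm ▸ fun z hz => mem_subgroupOf.2 (I.midGrp_le (mem_subgroupOf.1 hz))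
    have hk : (π.domRestrict (I.J.subgroupOf I.Y)).ker = Zm.subgroupOf (I.J.subgroupOf I.Y) := by
      ext z
      rw [MonoidHom.mem_ker, mem_subgroupOf]
      exact (hker z.1).trans ((SetLike.ext_iff.1 hZm z.1).trans mem_subgroupOf).symm
    have h := card_eq_card_quotient_mul_card_subgroup (π.domRestrict (I.J.subgroupOf I.Y)).ker
    rw [Nat.card_congr (QuotientGroup.quotientKerEquivRange _).toEquiv, hk,
      Nat.card_congr (subgroupOfEquivOfLe hle).toEquiv, MonoidHom.domRestrict_range, ← hPc,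
      Nat.card_congr (subgroupOfEquivOfLe hJY).toEquiv, I.hJcard] at h
    have hZc : Nat.card Zm = 9 := (Nat.card_congr (Equiv.setCongr (congrArg SetLike.coe hZm))).trans
      ((Nat.card_congr (subgroupOfEquivOfLe (I.midGrp_le.trans hJY)).toEquiv).trans I.card_midGrp)
    rw [hZc] at h
    omega
  obtain ⟨N, hN⟩ : ∃ N : Cfsg.Lib.SymNineLocal.Nine (I.Y ⧸ Zm), N.P = P := ⟨⟨P, h9, hcube, hself, hC⟩, rfl⟩
  have hcore : Cfsg.pPrimeCore 3 (I.Y ⧸ Zm) = ⊥ :=
    N.sig _ (Cfsg.Lib.Components.coprime_card_pPrimeCore 3) fun q _ => by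
      rw [normalizer_eq_top_iff.2 inferInstance]; exact mem_top q
  suffices htop : ∀ q : I.Y ⧸ Zm, q ∈ normalizer ((P : Subgroup (I.Y ⧸ Zm)) : Set (I.Y ⧸ Zm)) from
    fun g hg => hnormM ⟨g, hg⟩ (htop _)
  by_cases hA : I.CaseA
  · have hle : normalizer ((P : Subgroup (I.Y ⧸ Zm)) : Set (I.Y ⧸ Zm)) ≤ centralizer ((P : Subgroup (I.Y ⧸ Zm)) : Set (I.Y ⧸ Zm)) := by
      intro q hq
      obtain ⟨x, rfl⟩ := hsurj q
      obtain ⟨c, hc, -, hc0⟩ := I.plane_code (hnormM x hq) (I.mem_Y.1 x.2).1 (I.mem_Y.1 x.2).2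
      obtain rfl := hc0 hA
      rw [hself]
      exact (memP x).2 (I.toFrame.acts_zero hc)
    have hK : (MonoidHom.transferSylow P hle).ker = ⊥ := eq_bot_iff.2 (hcore ▸
      Cfsg.Lib.Components.le_pPrimeCore (((Nat.Prime.coprime_iff_not_dvd Nat.prime_three).2
        (MonoidHom.not_dvd_card_ker_transferSylow P hle)).symm))
    have hP' : (P : Subgroup (I.Y ⧸ Zm)) = ⊤ := by
      have h := MonoidHom.ker_transferSylow_isComplement' P hle
      rw [hK] at h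
      exact isComplement'_bot_left.1 h
    intro q
    exact le_normalizer (hP'.symm ▸ mem_top q)
  · obtain ⟨g, hg, hga⟩ := I.exists_B hA 2 two_square.2.2.2
    have hgY : g ∈ I.Y := I.mem_Y.2 ⟨by rw [hga 3, (named_vectors.2.2.2.2.2.2.2 2).2.1, two_square.2.1],
      by rw [hga 9, (named_vectors.2.2.2.2.2.2.2 2).2.2.1, two_square.2.2.1]⟩
    obtain ⟨t, ht⟩ : ∃ t, t = π ⟨g, hgY⟩ := ⟨_, rfl⟩
    have hinv : ∀ x ∈ (P : Subgroup (I.Y ⧸ Zm)), t * x * t⁻¹ = x⁻¹ := by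
      intro x hx
      obtain ⟨j, hj, rfl⟩ := hlift x hx
      obtain ⟨v, hv⟩ := (I.memJ _).1 hj
      rw [ht, ← map_inv, ← map_mul, ← map_mul, ← map_inv, ← mul_inv_eq_one, ← map_inv, ← map_mul, inv_inv, hker]
      show g * (j : G) * g⁻¹ * (j : G) ∈ I.midGrp
      rw [← hv, hga v, ← I.e_add, I.mem_midGrp]
      exact two_inverts v
    obtain ⟨-, -, -, -, m1, m27, m28, d1, d2, d3, d4, d5, d6, -⟩ := mid_points
    let r : Fin 3 → I.Y ⧸ Zm := fun i => π ⟨I.e (![1, 27, ad 1 27] i), hJY (I.toFrame.e_mem _)⟩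
    have hr : ∀ i, r i ∈ (P : Subgroup (I.Y ⧸ Zm)) := fun i => (memP _).2 (I.toFrame.e_mem _)
    have hrne : ∀ v, ¬ InMid v → π ⟨I.e v, hJY (I.toFrame.e_mem _)⟩ ≠ 1 := fun v hv h =>
      hv (I.mem_midGrp.1 ((hker _).1 h))
    have hrsep : ∀ u v, ¬ InMid (ad u (ng v)) → ¬ InMid (ad u v) →
        π ⟨I.e u, hJY (I.toFrame.e_mem _)⟩ ≠ π ⟨I.e v, hJY (I.toFrame.e_mem _)⟩ ∧
        π ⟨I.e u, hJY (I.toFrame.e_mem _)⟩ ≠ (π ⟨I.e v, hJY (I.toFrame.e_mem _)⟩)⁻¹ := by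
      intro u v h1 h2
      constructor <;> intro e
      · refine h1 ?_
        rw [← mul_inv_eq_one, ← map_inv, ← map_mul, hker] at e
        rw [← I.mem_midGrp, I.e_add, I.toFrame.e_inv]
        exact e
      · refine h2 ?_
        rw [← mul_inv_eq_one, inv_inv, ← map_mul, hker] at e
        rw [← I.mem_midGrp, I.e_add]
        exact e
    have hsym : ∀ {a b : I.Y ⧸ Zm}, a ≠ b ∧ a ≠ b⁻¹ → b ≠ a ∧ b ≠ a⁻¹ := fun ⟨h1, h2⟩ =>
      ⟨fun h => h1 h.symm, fun h => h2 (by rw [h, inv_inv])⟩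
    have hsep : ∀ i j, i ≠ j → r i ≠ r j ∧ r i ≠ (r j)⁻¹ := by
      have k1 := hrsep 1 27 d1 m28
      have k2 := hrsep (ad 1 27) 1 d3 d5
      have k3 := hrsep (ad 1 27) 27 d4 d6
      intro i j hij
      fin_cases i <;> fin_cases j
      all_goals first
        | exact absurd rfl hij
        | exact k1
        | exact k2
        | exact k3
        | exact hsym k1
        | exact hsym k2
        | exact hsym k3
    have hone : ∀ q : I.Y ⧸ Zm, q ∈ Cfsg.pPrimeCore 3 (I.Y ⧸ Zm) ↔ q = 1 := fun q => by rw [hcore]; exact mem_bot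
    intro q
    obtain ⟨x, hx, hxq⟩ := Cfsg.Lib.RankThree.core_three P h9 hcomm hcube r
      (by
        show π _ = π _ * π _
        rw [← map_mul]
        exact congrArg π (Subtype.ext (I.e_add 1 27)))
      hr (fun i => by fin_cases i <;> exact hrne _ (by assumption)) hsep t hinv
      (fun i y hy => by
        obtain ⟨z, rfl⟩ := hsurj y
        have hri : r i ≠ 1 := by fin_cases i <;> exact hrne _ (by assumption)
        have hN := hC _ (hr i) hri (mem_centralizer_singleton_iff.2 hy)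
        obtain ⟨c, hc, hc02, -⟩ := I.plane_code (hnormM z hN) (I.mem_Y.1 z.2).1 (I.mem_Y.1 z.2).2
        rcases hc02 with rfl | rfl
        · exact ⟨π z, (memP z).2 (I.toFrame.acts_zero hc), by rw [inv_mul_cancel]; exact one_mem _⟩
        exfalso
        refine hri ?_
        obtain ⟨j, hj, hje⟩ := hlift _ (hr i)
        have hz : π z * π j * (π z)⁻¹ = (π j)⁻¹ := by
          obtain ⟨v, hv⟩ := (I.memJ _).1 hj
          rw [← map_inv, ← map_mul, ← map_mul, ← map_inv, ← mul_inv_eq_one, ← map_inv, ← map_mul, inv_inv, hker]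
          show (z : G) * (j : G) * (z : G)⁻¹ * (j : G) ∈ I.midGrp
          rw [← hv, hc v, ← I.e_add, I.mem_midGrp]
          exact two_inverts v
        rw [hje, hy, mul_inv_cancel_right] at hz
        have h3 := hcube _ (hr i)
        rw [eq_inv_iff_mul_eq_one.1 hz, mul_one] at h3
        exact h3)
      (fun y hy => by
        obtain ⟨z, rfl⟩ := hsurj y
        obtain ⟨c, hc, hc02, -⟩ := I.plane_code (hnormM z hy) (I.mem_Y.1 z.2).1 (I.mem_Y.1 z.2).2
        rcases hc02 with rfl | rfl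
        · exact ⟨π z, (memP z).2 (I.toFrame.acts_zero hc), Or.inl (by rw [inv_mul_cancel]; exact one_mem _)⟩
        · refine ⟨t⁻¹ * π z, ?_, Or.inr (by rw [inv_mul_cancel]; exact one_mem _)⟩
          rw [ht, ← map_inv, ← map_mul]
          refine (memP _).2 (I.toFrame.ker fun v => ?_)
          show g⁻¹ * (z : G) * I.e v * (g⁻¹ * (z : G))⁻¹ = I.e v
          calc g⁻¹ * (z : G) * I.e v * (g⁻¹ * (z : G))⁻¹ = g⁻¹ * ((z : G) * I.e v * (z : G)⁻¹) * g := by group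
            _ = g⁻¹ * (g * I.e v * g⁻¹) * g := by rw [hc v, hga v]
            _ = I.e v := by group)
      q
    rw [(inv_mul_eq_one.1 ((hone _).1 hxq)).symm]
    exact hx

end Inv

end Cfsg.Lib.McLLocal
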