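import Cfsg.Agent.LocalThree.McLLocal.WeakPairData

/-!
Computations on the vectors modulo a nonsingular point.
-/

set_option autoImplicit false
set_option maxRecDepth 100000
set_option synthInstance.maxSize 4096

namespace Cfsg.Lib.McLLocal

theorem point_cases : ∀ v : Fin 81, (∃ k : Fin 3, Sing (ad v (sc k.val 3))) ∨ InMid v ∨
    ∃ p ∈ ([0, 3, 6] : List (Fin 9)), InMid (actU p v) ∨
      ∃ p' ∈ ([0, 3, 6] : List (Fin 9)), InMid (actU p (actH 35 (actU p' v))) := by decide +kernel

theorem point_fixed : (∀ p ∈ ([0, 3, 6] : List (Fin 9)), actU p 3 = 3) ∧ actH 35 3 = 3 := by decide +kernel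

theorem mid_span : ∀ v, InMid v → (∀ k : Fin 3, v ≠ sc k.val 3) → ∃ k l : Fin 3, ad (sc k.val v) (sc l.val 3) = 9 := by
  decide +kernel

end Cfsg.Lib.McLLocal
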