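import Cfsg.Agent.LocalThree.McLLocal.WeakPair
import Cfsg.Agent.LocalThree.McLLocal.WeakPointData

/-!
Fusion inside the centraliser of a nonsingular point.
-/

set_option autoImplicit false
set_option linter.unusedSectionVars false
set_option maxRecDepth 100000
set_option synthInstance.maxSize 4096

namespace Cfsg.Lib.McLLocal

open Subgroup
open scoped Pointwise

universe u

variable {G : Type u} [Group G] [Finite G]

namespace Inv

variable (I : Inv G)

include I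

theorem J_conj_J {g : G} (h : ∀ j ∈ I.J, g * j * g⁻¹ ∈ I.toData.M) : g ∈ I.toData.M := by
  refine mem_normalizer_iff_map_conj_eq.2 (I.toFrame.abelian_eq_M ?_ ?_ ?_)
  · rintro _ ⟨j, hj, rfl⟩; exact h j hj
  · rintro _ ⟨x, hx, rfl⟩ _ ⟨y, hy, rfl⟩
    rw [← map_mul, ← map_mul, I.toData.J_comm hx hy]
  · rw [card_map_of_injective (MulAut.conj g).injective, I.hJcard]

/-- The centraliser of two independent points. -/
theorem cent_two {v : Fin 81} (hv : ∀ k : Fin 3, v ≠ sc k.val 3) {g : G} (h3 : g * I.e 3 * g⁻¹ = I.e 3)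
    (hgv : g * I.e v * g⁻¹ = I.e v) : g ∈ I.toData.M := by
  obtain ⟨e3, e35⟩ := point_fixed
  have c3 : Commute g (I.e 3) := mul_inv_eq_iff_eq_mul.1 h3
  have cv : Commute g (I.e v) := mul_inv_eq_iff_eq_mul.1 hgv
  rcases point_cases v with ⟨k, hk⟩ | hcase
  · refine I.move mid_points.1 mid_points.2.1 hk h3 ?_
    rw [I.e_add, I.toFrame.e_sc, (cv.mul_right (c3.pow_right k.val)).eq, mul_inv_cancel_right]
    exact le_normalizer (mul_mem (I.toFrame.e_mem v) (pow_mem (I.toFrame.e_mem 3) _))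
  have main : ∀ (u : Fin 81) (h : G), InMid u → (∀ k : Fin 3, u ≠ sc k.val 3) → Commute h (I.e 3) →
      Commute h (I.e u) → h ∈ I.toData.M := by
    intro u h hu hk c3 cu
    obtain ⟨k, l, e⟩ := mid_span u hu hk
    refine I.Y_le_M (I.mem_Y.2 ⟨mul_inv_eq_iff_eq_mul.2 c3, mul_inv_eq_iff_eq_mul.2 ?_⟩)
    rw [← e, I.e_add, I.toFrame.e_sc, I.toFrame.e_sc]
    exact (cu.pow_right k.val).mul_right (c3.pow_right l.val)
  -- move the vector into the plane
  have mv : ∀ (m : G) (f : Fin 81 → Fin 81), I.toFrame.Acts m f → f 3 = 3 → InMid (f v) → g ∈ I.toData.M := by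
    intro m f hf f3 hin
    have hinj : Function.Injective f := fun a b h => I.e_inj (by
      have := (hf a).trans ((congrArg I.e h).trans (hf b).symm)
      exact mul_left_cancel (mul_right_cancel this))
    have hk : ∀ k : Fin 3, f v ≠ sc k.val 3 := fun k h => hv k (hinj (by rw [I.toFrame.acts_sc hf, f3]; exact h))
    have e3' : m * I.e 3 * m⁻¹ = I.e 3 := (hf 3).trans (congrArg I.e f3)
    have c3' : Commute (m * g * m⁻¹) (I.e 3) := mem_centralizer_singleton_iff.1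
      (I.toFrame.conj_cent e3' (mem_centralizer_singleton_iff.2 c3.eq))
    have cv' : Commute (m * g * m⁻¹) (I.e (f v)) := mem_centralizer_singleton_iff.1
      (I.toFrame.conj_cent (hf v) (mem_centralizer_singleton_iff.2 cv.eq))
    have hM := main _ _ hin hk c3' cv'
    have hm := I.toFrame.acts_mem hf
    have := mul_mem (mul_mem (inv_mem hm) hM) hm
    rwa [show m⁻¹ * (m * g * m⁻¹) * m = g by group] at this
  rcases hcase with h | ⟨p, hp, h | ⟨p', hp', h⟩⟩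
  · exact main v g h hv c3 cv
  · obtain ⟨q, -, hq⟩ := I.uQ p
    exact mv q _ hq (e3 p hp) h
  · obtain ⟨q, -, hq⟩ := I.uQ p
    obtain ⟨q', -, hq'⟩ := I.uQ p'
    obtain ⟨s, -, hs⟩ := I.toFrame.exists_M₀ 35 (by decide)
    exact mv (q * (s * q')) _ (I.toFrame.acts_mul hq (I.toFrame.acts_mul hs hq'))
      (by show actU p (actH 35 (actU p' 3)) = 3; rw [e3 p' hp', e35, e3 p hp]) h

/-- An element moving a point by the nonsingular one only lies in the normaliser. -/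
theorem cent_coset {v : Fin 81} (hv : ∀ k : Fin 3, v ≠ sc k.val 3) {g : G} (h3 : g * I.e 3 * g⁻¹ = I.e 3)
    {i : Fin 3} (hgv : g * I.e v * g⁻¹ = I.e v * I.e 3 ^ i.val) : g ∈ I.toData.M := by
  refine I.J_conj_J fun j hj => I.cent_two hv ?_ ?_
  · have c3 : Commute g (I.e 3) := mul_inv_eq_iff_eq_mul.1 h3
    have cj : Commute j (I.e 3) := I.toData.J_comm hj (I.toFrame.e_mem 3)
    exact mul_inv_eq_iff_eq_mul.2 (((c3.mul_left cj).mul_left c3.inv_left).eq)
  · obtain ⟨w, hw⟩ : ∃ w, w = g * j * g⁻¹ := ⟨_, rfl⟩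
    have c1 : Commute w (g * I.e v * g⁻¹) := by
      show w * (g * I.e v * g⁻¹) = g * I.e v * g⁻¹ * w
      rw [hw]
      calc g * j * g⁻¹ * (g * I.e v * g⁻¹) = g * (j * I.e v) * g⁻¹ := by group
        _ = g * (I.e v * j) * g⁻¹ := by rw [I.toData.J_comm hj (I.toFrame.e_mem v)]
        _ = _ := by group
    have c2 : Commute w (I.e 3) := by
      have c3 : Commute g (I.e 3) := mul_inv_eq_iff_eq_mul.1 h3
      have cj : Commute j (I.e 3) := I.toData.J_comm hj (I.toFrame.e_mem 3)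
      rw [hw]; exact (c3.mul_left cj).mul_left c3.inv_left
    rw [← hw]
    refine mul_inv_eq_iff_eq_mul.2 ?_
    have := c1.mul_right (c2.pow_right i.val).inv_right
    rwa [hgv, mul_inv_cancel_right] at this

/-- An element of order dividing three in the normaliser commutes with a singular point. -/
theorem exists_sing_comm {w : G} (hw : w ∈ I.toData.M) (hw3 : w ^ 3 = 1) :
    ∃ z, Sing z ∧ w * I.e z * w⁻¹ = I.e z := by
  haveI := fact_three
  obtain ⟨n, -, hn⟩ := (Nat.dvd_prime_pow Nat.prime_three).1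
    (orderOf_dvd_of_pow_eq_one (show w ^ 3 ^ 1 = 1 by rw [pow_one]; exact hw3))
  have hp : IsPGroup 3 (zpowers w) := IsPGroup.of_card (n := n) (by rw [Nat.card_zpowers, hn])
  obtain ⟨P, hP⟩ := (hp.of_equiv (subgroupOfEquivOfLe (zpowers_le.2 hw)).symm).exists_le_sylow
  obtain ⟨⟨m, hm⟩, hmP⟩ := MulAction.exists_smul_eq I.toData.M (I.S.subtype I.toData.S_le_M) P
  have h1 : (⟨w, hw⟩ : I.toData.M) ∈ P := hP (mem_subgroupOf.2 (mem_zpowers w))
  rw [← hmP] at h1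
  obtain ⟨⟨s, hsM⟩, hsS, e⟩ := h1
  have hsw : m * s * m⁻¹ = w := congrArg Subtype.val e
  obtain ⟨p, hp'⟩ := I.toFrame.S_acts (mem_subgroupOf.1 hsS : s ∈ (I.S : Subgroup G))
  obtain ⟨z, hz⟩ := (I.memJ _).1 ((mem_normalizer_iff.1 hm (I.e 1)).1 (I.toFrame.e_mem 1))
  refine ⟨z, I.toFrame.sing_conj hm named_vectors.2.2.2.2.1 hz.symm, ?_⟩
  have e1 : s * I.e 1 * s⁻¹ = I.e 1 := (hp' 1).trans (congrArg I.e (named_vectors.2.2.2.2.2.2.1 p).1)
  rw [hz, ← hsw, show m * s * m⁻¹ * (m * I.e 1 * m⁻¹) * (m * s * m⁻¹)⁻¹ = m * (s * I.e 1 * s⁻¹) * m⁻¹ by group, e1]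

/-- Strong closure. -/
theorem closed {v : Fin 81} {g : G} (h3 : g * I.e 3 * g⁻¹ = I.e 3) (hgv : g * I.e v * g⁻¹ ∈ I.toData.M) :
    g * I.e v * g⁻¹ ∈ I.J := by
  by_cases hv : ∀ k : Fin 3, v ≠ sc k.val 3
  · obtain ⟨w, hw⟩ : ∃ w, w = g * I.e v * g⁻¹ := ⟨_, rfl⟩
    rw [← hw] at hgv ⊢
    obtain ⟨z, hz, hzw⟩ := I.exists_sing_comm hgv (by rw [hw, conj_pow, I.hJexp _ (I.toFrame.e_mem v), mul_one, mul_inv_cancel])
    have c3 : Commute g⁻¹ (I.e 3) := (show Commute g (I.e 3) from mul_inv_eq_iff_eq_mul.1 h3).inv_left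
    have cz : Commute (I.e z) (I.e 3) := I.toData.J_comm (I.toFrame.e_mem z) (I.toFrame.e_mem 3)
    have hx : g⁻¹ * I.e z * g ∈ I.toData.M := by
      refine I.cent_two hv (mul_inv_eq_iff_eq_mul.2 ((c3.mul_left cz).mul_left
        (show Commute g (I.e 3) from mul_inv_eq_iff_eq_mul.1 h3)).eq) ?_
      have czw : I.e z * w * (I.e z)⁻¹ = w :=
        mul_inv_eq_iff_eq_mul.2 (show Commute w (I.e z) from mul_inv_eq_iff_eq_mul.1 hzw).eq.symm
      calc g⁻¹ * I.e z * g * I.e v * (g⁻¹ * I.e z * g)⁻¹ = g⁻¹ * (I.e z * (g * I.e v * g⁻¹) * (I.e z)⁻¹) * g := by group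
        _ = g⁻¹ * (g * I.e v * g⁻¹) * g := by rw [← hw, czw]
        _ = I.e v := by group
    have hg : g⁻¹ ∈ I.toData.M := I.move mid_points.1 mid_points.2.1 hz
      (mul_inv_eq_iff_eq_mul.2 c3.eq) (by rwa [inv_inv])
    rw [hw]
    exact (mem_normalizer_iff.1 (by simpa using inv_mem hg) _).1 (I.toFrame.e_mem v)
  · simp only [not_forall, not_not] at hv
    obtain ⟨k, rfl⟩ := hv
    rw [I.toFrame.e_sc, ← conj_pow, h3]
    exact pow_mem (I.toFrame.e_mem 3) _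

/-- A three-group with a singular point lies in the normaliser. -/
theorem pgroup_sing {P : Subgroup G} (hP : IsPGroup 3 P) (h3 : P ≤ centralizer ({I.e 3} : Set G)) {z : Fin 81}
    (hz : Sing z) (hzP : I.e z ∈ P) : P ≤ I.toData.M := by
  haveI := fact_three
  haveI : Group.IsNilpotent P := hP.isNilpotent
  suffices h : I.toData.M.subgroupOf P = ⊤ from fun x hx => by
    have : (⟨x, hx⟩ : P) ∈ I.toData.M.subgroupOf P := h ▸ mem_top _
    exact mem_subgroupOf.1 this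
  by_contra hne
  have hlt := normalizerCondition_of_isNilpotent (I.toData.M.subgroupOf P) (lt_top_iff_ne_top.2 hne)
  obtain ⟨x, hx, hxn⟩ := SetLike.exists_of_lt hlt
  refine hxn (mem_subgroupOf.2 (I.move mid_points.1 mid_points.2.1 hz ?_ ?_))
  · exact mul_inv_eq_iff_eq_mul.2 (mem_centralizer_singleton_iff.1 (h3 x.2))
  · exact mem_subgroupOf.1 ((mem_normalizer_iff.1 hx ⟨I.e z, hzP⟩).1
      (mem_subgroupOf.2 (le_normalizer (I.toFrame.e_mem z))))

/-- Fusion of elements commuting with the central point is controlled by the normaliser. -/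
theorem fused {q g : G} (hq : q ^ 3 = 1) (hq3 : Commute q (I.e 3)) (hq1 : Commute q (I.e 1))
    (h3 : g * I.e 3 * g⁻¹ = I.e 3) (hgq : g * q * g⁻¹ ∈ I.toData.M) :
    ∃ h ∈ I.toData.M, h * I.e 3 * h⁻¹ = I.e 3 ∧ h * q * h⁻¹ = g * q * g⁻¹ := by
  haveI := fact_three
  obtain ⟨w, hw⟩ : ∃ w, w = g * q * g⁻¹ := ⟨_, rfl⟩
  rw [← hw] at hgq ⊢
  obtain ⟨z, hz, hzw⟩ := I.exists_sing_comm hgq (by rw [hw, conj_pow, hq, mul_one, mul_inv_cancel])
  obtain ⟨K, hK⟩ : ∃ K, K = centralizer ({I.e 3} : Set G) ⊓ centralizer ({w} : Set G) := ⟨_, rfl⟩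
  have hmem : ∀ {x : G}, x ∈ K ↔ Commute x (I.e 3) ∧ Commute x w := fun {x} => by
    rw [hK, mem_inf, mem_centralizer_singleton_iff, mem_centralizer_singleton_iff]; exact Iff.rfl
  have hzK : zpowers (I.e z) ≤ K := zpowers_le.2 (hmem.2 ⟨I.toData.J_comm (I.toFrame.e_mem z) (I.toFrame.e_mem 3),
    (show Commute w (I.e z) from mul_inv_eq_iff_eq_mul.1 hzw).symm⟩)
  obtain ⟨u, hu⟩ : ∃ u, u = g * I.e 1 * g⁻¹ := ⟨_, rfl⟩
  have hu3 : Commute u (I.e 3) := by
    have cg : Commute g (I.e 3) := mul_inv_eq_iff_eq_mul.1 h3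
    rw [hu]
    exact (cg.mul_left (I.toData.J_comm (I.toFrame.e_mem 1) (I.toFrame.e_mem 3))).mul_left cg.inv_left
  have huw : Commute u w := by
    rw [hu, hw]
    show g * I.e 1 * g⁻¹ * (g * q * g⁻¹) = g * q * g⁻¹ * (g * I.e 1 * g⁻¹)
    calc g * I.e 1 * g⁻¹ * (g * q * g⁻¹) = g * (I.e 1 * q) * g⁻¹ := by group
      _ = g * (q * I.e 1) * g⁻¹ := by rw [hq1.eq]
      _ = _ := by group
  have hup : IsPGroup 3 (zpowers u) := IsPGroup.of_card (n := 1) (by
    rw [Nat.card_zpowers, pow_one]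
    refine orderOf_eq_prime (by rw [hu, conj_pow, I.hJexp _ (I.toFrame.e_mem 1), mul_one, mul_inv_cancel]) fun e => ?_
    exact I.toFrame.e_ne named_vectors.1 (conj_eq_one_iff.1 (hu ▸ e)))
  have huK : zpowers u ≤ K := zpowers_le.2 (hmem.2 ⟨hu3, huw⟩)
  obtain ⟨P, hP⟩ := ((I.S.2.to_le I.hJS).to_le (zpowers_le.2 (I.toFrame.e_mem z))
    |>.of_equiv (subgroupOfEquivOfLe hzK).symm).exists_le_sylow
  obtain ⟨R, hR⟩ := (hup.of_equiv (subgroupOfEquivOfLe huK).symm).exists_le_sylow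
  obtain ⟨k, hk⟩ := MulAction.exists_smul_eq K R P
  have hPM : (P : Subgroup K).map K.subtype ≤ I.toData.M := I.pgroup_sing (P.2.map _)
    ((map_subtype_le _).trans (hK ▸ inf_le_left)) hz
    ⟨⟨I.e z, hzK (mem_zpowers _)⟩, hP (mem_subgroupOf.2 (mem_zpowers _)), rfl⟩
  have hku : (k : G) * u * (k : G)⁻¹ ∈ I.toData.M := by
    refine hPM ⟨k * ⟨u, huK (mem_zpowers u)⟩ * k⁻¹, ?_, rfl⟩
    rw [← hk, Sylow.coe_subgroup_smul]
    exact ⟨_, hR (mem_subgroupOf.2 (mem_zpowers u)), rfl⟩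
  obtain ⟨k3, kw⟩ := hmem.1 k.2
  have hkg3 : (k : G) * g * I.e 3 * ((k : G) * g)⁻¹ = I.e 3 :=
    mul_inv_eq_iff_eq_mul.2 (k3.mul_left (show Commute g (I.e 3) from mul_inv_eq_iff_eq_mul.1 h3)).eq
  refine ⟨(k : G) * g, I.move mid_points.1 mid_points.2.1 named_vectors.2.2.2.2.1 hkg3 ?_, hkg3, ?_⟩
  · rw [show (k : G) * g * I.e 1 * ((k : G) * g)⁻¹ = (k : G) * (g * I.e 1 * g⁻¹) * (k : G)⁻¹ by group, ← hu]
    exact hku
  · rw [show (k : G) * g * q * ((k : G) * g)⁻¹ = (k : G) * (g * q * g⁻¹) * (k : G)⁻¹ by group, ← hw]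
    exact mul_inv_eq_iff_eq_mul.2 kw.eq

end Inv

end Cfsg.Lib.McLLocal
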