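import Cfsg.Agent.LocalThree.McLLocal.SLData
import Cfsg.Agent.LocalThree.McLLocal.CodeData
import Cfsg.Agent.Classical.Misc.SmallPSL

/-!
Facts used for the centraliser of the centre in the centraliser of the involution.
-/

set_option autoImplicit false
set_option maxRecDepth 100000
set_option synthInstance.maxSize 4096

namespace Cfsg.Lib.McLLocal

open Matrix

set_option synthInstance.maxHeartbeats 400000 in
theorem q_centre : ∀ a b c d : ZMod 5, qd (a, b, c, d) = 1 →
    qm (a, b, c, d) (1, 1, 0, 1) = qm (1, 1, 0, 1) (a, b, c, d) →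
    qm (a, b, c, d) (1, 0, 1, 1) = qm (1, 0, 1, 1) (a, b, c, d) →
      (a, b, c, d) = (1, 0, 0, 1) ∨ (a, b, c, d) = (4, 0, 0, 4) := by decide +kernel

theorem center_sl5 {g : SL5} : g ∈ Subgroup.center SL5 ↔ g = 1 ∨ g = negOne := by
  constructor
  · intro h
    have key : ∀ (a : Quad5) (ha : qd a = 1), qm (en g) a = qm a (en g) := fun a ha => by
      have := congrArg en (Subgroup.mem_center_iff.1 h (mkq a ha))
      rwa [en_mul, en_mul, en_mkq, eq_comm] at this
    rcases q_centre _ _ _ _ (en_det g) (key (1, 1, 0, 1) (by decide)) (key (1, 0, 1, 1) (by decide)) with r | r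
    · exact Or.inl (en_inj (r.trans en_one.symm))
    · exact Or.inr (en_inj (r.trans (en_mkq _ _).symm))
  · rintro (rfl | rfl)
    · exact Subgroup.one_mem _
    · exact Subgroup.mem_center_iff.2 fun x => (negOne_facts.2.2 x).symm

theorem exists_alt_five : ∃ π : SL5 →* alternatingGroup (Fin 5), Function.Surjective π ∧
    ∀ g, π g = 1 ↔ g = 1 ∨ g = negOne := by
  obtain ⟨e⟩ := Cfsg.Lib.Classical.SmallPSL.psl_five (F := ZMod 5) (ZMod.card 5)
  refine ⟨e.toMonoidHom.comp (QuotientGroup.mk' (Subgroup.center SL5)),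
    e.surjective.comp (QuotientGroup.mk'_surjective _), fun g => ?_⟩
  rw [← center_sl5, MonoidHom.comp_apply]
  exact (e.map_eq_one_iff).trans (QuotientGroup.eq_one_iff g)

theorem outer_code : ∀ k c : Fin 64, kFour k → colZ c = 2 → colW c = 27 → mulH c k = mulH k c → c ∉ codesA k := by
  decide +kernel

theorem sign_inverting : ∀ s g : Equiv.Perm (Fin 3), s ^ 3 = 1 → s ≠ 1 →
    (g * s * g⁻¹ = s⁻¹ → Equiv.Perm.sign g = -1) ∧ (g * s * g⁻¹ = s → Equiv.Perm.sign g = 1) := by decide +kernel

end Cfsg.Lib.McLLocal
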