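import Cfsg.Agent.LocalThree.McLLocal.NormD
import Cfsg.Agent.LocalThree.McLLocal.ZData
import Cfsg.Agent.M12Cent.Gens

/-!
The normaliser of the centre in the centraliser of the involution and its two permutation representations.
-/

set_option autoImplicit false
set_option linter.unusedSectionVars false
set_option maxRecDepth 100000
set_option synthInstance.maxSize 4096

namespace Cfsg.Lib.McLLocal

open Subgroup Equiv
open scoped Pointwise commutatorElement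

universe u

variable {G : Type u} [Group G] [Finite G]

theorem card_index_two {A B : Subgroup G} (hAB : A ≤ B) {g : G} (hg : g ∈ B) (hgA : g ∉ A)
    (h : ∀ b ∈ B, b ∈ A ∨ g * b ∈ A) : Nat.card B = 2 * Nat.card A := by
  have hi : (A.subgroupOf B).index = 2 := Subgroup.index_eq_two_iff'.2 ⟨⟨g, hg⟩, fun b => by
    rcases h b b.2 with hb | hb
    · refine Or.inr ⟨hb, fun h' => hgA ?_⟩
      have := mul_mem (mem_subgroupOf.1 h') (inv_mem hb)
      simpa using this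
    · refine Or.inl ⟨hb, fun h' => hgA ?_⟩
      have := mul_mem hb (inv_mem (mem_subgroupOf.1 h'))
      simpa using this⟩
  have hm := (A.subgroupOf B).card_mul_index
  rw [hi, Nat.card_congr (subgroupOfEquivOfLe hAB).toEquiv] at hm
  rw [← hm, mul_comm]

namespace Inv

variable (I : Inv G)

/-- The normaliser of the centre in the centraliser. -/
def NZ : Subgroup G := I.toTop.H ⊓ I.toData.L

/-- The centraliser of the centre in the centraliser. -/
def C0 : Subgroup G := I.toTop.H ⊓ centralizer (I.Z : Set G)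

theorem C0_le_NZ : I.C0 ≤ I.NZ := inf_le_inf_left _ (centralizer_le_normalizer _)

theorem E0_le_C0 : I.toTop.E0 ≤ I.C0 := fun _ hx =>
  mem_inf.2 ⟨hx.2, I.toData.L₀_le_centralizer hx.1⟩

theorem E1_le_NZ : I.toTop.E1 ≤ I.NZ := I.toTop.E1_le_E0.trans (I.E0_le_C0.trans I.C0_le_NZ)

theorem Z_le_NZ : I.Z ≤ I.NZ := I.toTop.Z_le_E0.trans (I.E0_le_C0.trans I.C0_le_NZ)

theorem D_le_C0 : I.toTop.D ≤ I.C0 := I.toTop.D_le_E0.trans I.E0_le_C0

theorem sign_C0 {x : G} (hx : x ∈ I.C0) : x * I.e 1 * x⁻¹ = I.e 1 := I.toTop.e1_comm_of_cent (mem_inf.1 hx).2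

theorem C0_reduce {x : G} (hx : x ∈ I.C0) : ∃ e ∈ I.toTop.E1, ∃ c ∈ ([0, 8, 16, 24] : List (Fin 64)),
    e * x ∈ I.C0 ⊓ I.toData.M ∧ I.toFrame.Acts (e * x) (actH c) := by
  have hxw : x * I.e 27 * x⁻¹ ∈ I.toTop.E1 := I.norm_E1 (I.C0_le_NZ hx).2 (mem_inf.1 hx).1 I.w_mem
  have hw3 : I.e 27 ^ 3 = 1 := I.hJexp _ (I.toFrame.e_mem 27)
  obtain ⟨w, hw⟩ : ∃ w, w = I.toTop.eq1 ⟨I.e 27, I.w_mem⟩ := ⟨_, rfl⟩
  obtain ⟨w', hw'⟩ : ∃ w', w' = I.toTop.eq1 ⟨_, hxw⟩ := ⟨_, rfl⟩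
  have three : ∀ (v : G) (hv : v ∈ I.toTop.E1), v ^ 3 = 1 → v ≠ 1 →
      I.toTop.eq1 ⟨v, hv⟩ * (I.toTop.eq1 ⟨v, hv⟩ * I.toTop.eq1 ⟨v, hv⟩) = 1 ∧ I.toTop.eq1 ⟨v, hv⟩ ≠ 1 := by
    intro v hv h3 h1
    refine ⟨?_, fun h => h1 (congrArg Subtype.val (I.toTop.eq1.map_eq_one_iff.1 h))⟩
    rw [← map_mul, ← map_mul, show (⟨v, hv⟩ * (⟨v, hv⟩ * ⟨v, hv⟩) : I.toTop.E1) = 1 from
      Subtype.ext (by show v * (v * v) = 1; rw [← h3, pow_succ, pow_two, mul_assoc]), map_one]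
  have hne : I.e 27 ≠ 1 := I.toFrame.e_ne named_vectors.2.1
  obtain ⟨a3, a1⟩ := three _ I.w_mem hw3 hne
  obtain ⟨b3, b1⟩ := three _ hxw (by rw [conj_pow, hw3, mul_one, mul_inv_cancel]) (fun h => hne (conj_eq_one_iff.1 h))
  obtain ⟨g, hg⟩ := three_conj _ a3 a1
  obtain ⟨g', hg'⟩ := three_conj _ b3 b1
  obtain ⟨⟨e, he⟩, hee⟩ := I.toTop.eq1.surjective (g * g'⁻¹)
  have hew : e * (x * I.e 27 * x⁻¹) * e⁻¹ = I.e 27 := by
    have h : (⟨e, he⟩ * ⟨_, hxw⟩ * (⟨e, he⟩ : I.toTop.E1)⁻¹) = ⟨_, I.w_mem⟩ := I.toTop.eq1.injective (by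
      rw [map_mul, map_mul, map_inv, hee, ← hg', ← hg]
      group)
    exact congrArg Subtype.val h
  have hex : e * x ∈ I.C0 := mul_mem (I.E0_le_C0 (I.toTop.E1_le_E0 he)) hx
  have h1 := I.sign_C0 hex
  have h27 : e * x * I.e 27 * (e * x)⁻¹ = I.e 27 := by
    calc e * x * I.e 27 * (e * x)⁻¹ = e * (x * I.e 27 * x⁻¹) * e⁻¹ := by group
      _ = I.e 27 := hew
  have hM : e * x ∈ I.toData.M := by
    refine I.toTop.norm_D_M (I.C0_le_NZ hex).2 fun d hd => ?_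
    obtain ⟨v, rfl⟩ := (I.memJ d).1 hd.1
    obtain ⟨a, b, e'⟩ := I.mem_D_split hd
    rw [e', conj_mul.symm, ← conj_pow, ← conj_pow, h1, h27, ← e']
    exact hd
  have hmem : e * x ∈ I.toTop.H ⊓ I.toData.M := mem_inf.2 ⟨(mem_inf.1 hex).1, hM⟩
  obtain ⟨c, hc⟩ := I.exists_code hmem
  obtain ⟨n1, -, -, n27⟩ := named_vectors.2.2.2.2.2.2.2 c
  have hZ : colZ c = 1 := n1.symm.trans (I.e_inj ((hc 1).symm.trans h1))
  have hW : colW c = 27 := n27.symm.trans (I.e_inj ((hc 27).symm.trans h27))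
  exact ⟨e, he, c, I.fix_code hmem.1 hc hZ hW, mem_inf.2 ⟨hex, hM⟩, hc⟩

theorem t_mem_E0 : I.t ∈ I.toTop.E0 := I.toTop.E1_le_E0 I.t_mem_E1

theorem C0_cases {x : G} (hx : x ∈ I.C0) : x ∈ I.toTop.E0 ∨ ∃ a ∈ I.toTop.E0, I.toFrame.Acts (a * x) (actH 8) := by
  obtain ⟨e, he, c, hc, hmem, hca⟩ := I.C0_reduce hx
  have hH := (mem_inf.1 (mem_inf.1 hmem).1).1
  have heE := I.toTop.E1_le_E0 he
  simp only [List.mem_cons, List.not_mem_nil, or_false] at hc
  have h16 := I.toFrame.acts_H_mul I.hta hca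
  rcases hc with r | r | r | r <;> subst r
  · refine Or.inl ?_
    have := mul_mem (inv_mem heE) (I.toTop.D_le_E0 (I.code_zero hH hca))
    rwa [inv_mul_cancel_left] at this
  · exact Or.inr ⟨e, heE, hca⟩
  · refine Or.inl ?_
    rw [show mulH 16 16 = 0 from base_closed.2.2.2.2.2.2] at h16
    have hd := I.toTop.D_le_E0 (I.code_zero (mul_mem (I.mem_H (Commute.refl _)) hH) h16)
    have := mul_mem (inv_mem (mul_mem I.t_mem_E0 heE)) hd
    rwa [show (I.t * e)⁻¹ * (I.t * (e * x)) = x by group] at this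
  · refine Or.inr ⟨I.t * e, mul_mem I.t_mem_E0 heE, ?_⟩
    rw [show mulH 16 24 = 8 by decide +kernel, ← mul_assoc] at h16
    exact h16

theorem C0_eq_E0 (hA : I.CaseA) : I.C0 = I.toTop.E0 := by
  refine le_antisymm (fun x hx => ?_) I.E0_le_C0
  rcases I.C0_cases hx with h | ⟨a, -, h⟩
  · exact h
  · exact absurd h (hA _ (I.toFrame.acts_mem h))

theorem eight_not_E0 {g : G} (hg : I.toFrame.Acts g (actH 8)) : g ∉ I.toTop.E0 := by
  intro h
  obtain ⟨z, hz, e, he, rfl⟩ := I.toTop.E0_split h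
  have hzJ : z ∈ I.J := (I.Z_le_D hz).1
  have hec : I.toFrame.Acts e (actH 8) := fun v => by
    have := I.toFrame.acts_mul (I.toFrame.acts_J (inv_mem hzJ)) hg v
    rwa [inv_mul_cancel_left] at this
  obtain ⟨h1, -, -, h27⟩ := named_vectors.2.2.2.2.2.2.2 8
  have hw : e * I.e 27 * e⁻¹ = I.e 27 := by rw [hec 27, h27]; rfl
  obtain ⟨w, hw'⟩ : ∃ w, w = I.toTop.eq1 ⟨I.e 27, I.w_mem⟩ := ⟨_, rfl⟩
  have hw3' : I.e 27 ^ 3 = 1 := I.hJexp _ (I.toFrame.e_mem 27)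
  have hw1 : w ≠ 1 := fun h => I.toFrame.e_ne named_vectors.2.1
    (congrArg Subtype.val (I.toTop.eq1.map_eq_one_iff.1 (hw' ▸ h)))
  have hw3 : w * (w * w) = 1 := by
    rw [hw', ← map_mul, ← map_mul, show (⟨I.e 27, I.w_mem⟩ * (⟨I.e 27, I.w_mem⟩ * ⟨I.e 27, I.w_mem⟩) : I.toTop.E1) = 1 from
      Subtype.ext (by show I.e 27 * (I.e 27 * I.e 27) = 1; rw [← hw3', pow_succ, pow_two, mul_assoc]), map_one]
  have hmem := three_cent w hw3 hw1 (I.toTop.eq1 ⟨e, he⟩) (by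
    rw [hw', ← map_mul, ← map_mul]
    exact congrArg I.toTop.eq1 (Subtype.ext (mul_inv_eq_iff_eq_mul.1 hw)))
  have hval : ∀ p : I.toTop.E1, I.toTop.eq1 ⟨e, he⟩ = I.toTop.eq1 p → e = (p : G) := fun p hp =>
    congrArg Subtype.val (I.toTop.eq1.injective hp)
  have hJ : e ∉ I.J := fun hj => absurd (congrFun (I.toFrame.acts_unique hec (I.toFrame.acts_J hj)) 3)
    (by decide +kernel)
  have hT : ∀ j ∈ I.J, e ≠ I.t * j := fun j hj e' => by
    have := congrFun (I.toFrame.acts_unique hec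
      (show I.toFrame.Acts e _ from e' ▸ I.toFrame.acts_mul I.hta (I.toFrame.acts_J hj))) 3
    exact absurd this (by decide +kernel)
  have hwJ := I.toFrame.e_mem 27
  simp only [List.mem_cons, List.not_mem_nil, or_false] at hmem
  rcases hmem with r | r | r | r | r | r
  · exact hJ (hval 1 (r.trans (map_one _).symm) ▸ one_mem _)
  · exact hJ (hval ⟨_, I.w_mem⟩ (r.trans hw') ▸ hwJ)
  · exact hJ (hval (⟨_, I.w_mem⟩ * ⟨_, I.w_mem⟩) (r.trans (by rw [map_mul, hw'])) ▸ mul_mem hwJ hwJ)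
  · exact hT 1 (one_mem _) ((hval ⟨_, I.t_mem_E1⟩ (r.trans I.f1_t.symm)).trans (mul_one _).symm)
  · exact hT _ hwJ (hval (⟨_, I.t_mem_E1⟩ * ⟨_, I.w_mem⟩) (r.trans (by rw [map_mul, I.f1_t, hw'])))
  · exact hT _ (mul_mem hwJ hwJ) (hval (⟨_, I.t_mem_E1⟩ * (⟨_, I.w_mem⟩ * ⟨_, I.w_mem⟩))
      (r.trans (by rw [map_mul, map_mul, I.f1_t, hw'])))

theorem eight_C0 {g : G} (hg : g ∈ I.toTop.H) (h : I.toFrame.Acts g (actH 8)) : g ∈ I.C0 := by
  refine mem_inf.2 ⟨hg, mem_centralizer_iff.2 fun z hz => ?_⟩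
  obtain ⟨k, rfl⟩ := (I.eZ _).1 hz
  rw [I.toFrame.e_sc]
  have h1 : g * I.e 1 * g⁻¹ = I.e 1 := by rw [h 1, (named_vectors.2.2.2.2.2.2.2 8).1]; rfl
  exact ((show Commute g (I.e 1) from mul_inv_eq_iff_eq_mul.1 h1).pow_right k.val).eq.symm

theorem card_C0_B (hB : ¬ I.CaseA) : Nat.card I.C0 = 720 := by
  obtain ⟨g, hg, hga⟩ := I.exists_eight hB
  have hgC := I.eight_C0 hg.1 hga
  have h88 := I.toFrame.acts_H_mul hga hga
  rw [four_facts.1] at h88
  rw [card_index_two I.E0_le_C0 hgC (I.eight_not_E0 hga) fun b hb => ?_, I.toTop.card_E0]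
  rcases I.C0_cases hb with h | ⟨a, ha, h⟩
  · exact Or.inl h
  refine Or.inr ?_
  have h2 := I.toFrame.acts_H_mul hga h
  rw [four_facts.1] at h2
  have h0 := I.toFrame.acts_H_mul I.hta h2
  rw [base_closed.2.2.2.2.2.2] at h0
  have hd := I.toTop.D_le_E0 (I.code_zero
    (mul_mem (I.mem_H (Commute.refl _)) (mul_mem hg.1 (mul_mem ha.2 (mem_inf.1 hb).1))) h0)
  -- move the element of the subgroup to the left
  obtain ⟨a', ha', hga'⟩ : ∃ a' ∈ I.toTop.E0, g * a = a' * g := ⟨g * a * g⁻¹,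
    I.norm_E0 (I.C0_le_NZ hgC).2 hg.1 ha, by group⟩
  have hm := mul_mem (inv_mem (mul_mem I.t_mem_E0 ha')) hd
  rwa [← mul_assoc g, hga', show (I.t * a')⁻¹ * (I.t * (a' * g * b)) = g * b by group] at hm

theorem exists_ten : ∃ r ∈ I.NZ, r * I.e 1 * r⁻¹ = (I.e 1)⁻¹ ∧ r ∈ I.toData.M ∧ I.toFrame.Acts r (actH 10) := by
  obtain ⟨r, hr, hra⟩ := I.exists_A 10 (List.mem_append_left _ (by decide))
  have h1 : r * I.e 1 * r⁻¹ = (I.e 1)⁻¹ := by
    rw [hra 1, (named_vectors.2.2.2.2.2.2.2 10).1, ← I.toFrame.e_inv]; exact congrArg I.e (by decide +kernel)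
  refine ⟨r, mem_inf.2 ⟨hr.1, mem_normalizer_of_map_mem fun z hz => ?_⟩, h1, hr.2, hra⟩
  obtain ⟨k, rfl⟩ := (I.eZ _).1 hz
  rw [I.toFrame.e_sc, ← conj_pow, h1, ← I.toFrame.e_inv, ← I.toFrame.e_sc]
  exact (I.eZ _).2 ⟨⟨(2 * k.val) % 3, Nat.mod_lt _ (by norm_num)⟩, congrArg I.e
    ((show ∀ k : Fin 3, sc ((2 * k.val) % 3) 1 = sc k.val (ng 1) by decide +kernel) k)⟩

theorem NZ_sign {x : G} (hx : x ∈ I.NZ) : x * I.e 1 * x⁻¹ = I.e 1 ∨ x * I.e 1 * x⁻¹ = (I.e 1)⁻¹ := by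
  have hz : I.e 1 ∈ I.Z := (I.eZ _).2 ⟨1, rfl⟩
  obtain ⟨k, hk⟩ := (I.eZ _).1 ((mem_normalizer_iff.1 (mem_inf.1 hx).2 _).1 hz)
  rw [← hk]
  rcases pure_vectors k with r | r | r <;> rw [r]
  · exfalso
    rw [r, I.toFrame.e_zero] at hk
    exact I.toFrame.e_ne named_vectors.1 (conj_eq_one_iff.1 hk.symm)
  · exact Or.inl rfl
  · exact Or.inr (by rw [← named_vectors.2.2.1, I.toFrame.e_inv])

theorem mem_C0_of_fix {x : G} (hx : x ∈ I.NZ) (h : x * I.e 1 * x⁻¹ = I.e 1) : x ∈ I.C0 := by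
  refine mem_inf.2 ⟨(mem_inf.1 hx).1, mem_centralizer_iff.2 fun z hz => ?_⟩
  obtain ⟨k, rfl⟩ := (I.eZ _).1 hz
  rw [I.toFrame.e_sc]
  exact ((show Commute x (I.e 1) from mul_inv_eq_iff_eq_mul.1 h).pow_right k.val).eq.symm

theorem e1_ne_inv : I.e 1 ≠ (I.e 1)⁻¹ := by
  rw [← I.toFrame.e_inv]
  intro h
  exact absurd (I.e_inj h) (by decide +kernel)

theorem card_NZ : Nat.card I.NZ = 2 * Nat.card I.C0 := by
  obtain ⟨r, hr, hr1, -⟩ := I.exists_ten
  refine card_index_two I.C0_le_NZ hr (fun h => I.e1_ne_inv ((I.sign_C0 h).symm.trans hr1)) fun b hb => ?_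
  rcases I.NZ_sign hb with h | h
  · exact Or.inl (I.mem_C0_of_fix hb h)
  · refine Or.inr (I.mem_C0_of_fix (mul_mem hr hb) ?_)
    calc r * b * I.e 1 * (r * b)⁻¹ = r * (b * I.e 1 * b⁻¹) * r⁻¹ := by group
      _ = I.e 1 := by rw [h, ← conj_inv, hr1, inv_inv]

theorem card_NZ_cases : (I.CaseA → Nat.card I.NZ = 720) ∧ (¬ I.CaseA → Nat.card I.NZ = 1440) :=
  ⟨fun h => by rw [I.card_NZ, I.C0_eq_E0 h, I.toTop.card_E0], fun h => by rw [I.card_NZ, I.card_C0_B h]⟩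

/-- Conjugation on the derived subgroup. -/
noncomputable def cj (x : I.NZ) : I.toTop.E1 →* I.toTop.E1 where
  toFun e := ⟨x * e * (x : G)⁻¹, I.norm_E1 (mem_inf.1 x.2).2 (mem_inf.1 x.2).1 e.2⟩
  map_one' := Subtype.ext (by simp)
  map_mul' a b := Subtype.ext (by simp only [coe_mul]; group)

theorem cj_mul (x y : I.NZ) (e : I.toTop.E1) : I.cj (x * y) e = I.cj x (I.cj y e) :=
  Subtype.ext (by simp only [cj, MonoidHom.coe_mk, OneHom.coe_mk, coe_mul]; group)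

/-- The map onto the alternating group. -/
noncomputable def piE : I.toTop.E1 →* alternatingGroup (Fin 5) :=
  exists_alt_five.choose.comp I.toTop.eq1.toMonoidHom

theorem piE_surj : Function.Surjective I.piE :=
  exists_alt_five.choose_spec.1.comp I.toTop.eq1.surjective

theorem piE_ker {e : I.toTop.E1} : I.piE e = 1 ↔ (e : G) = 1 ∨ (e : G) = I.t := by
  show exists_alt_five.choose (I.toTop.eq1 e) = 1 ↔ _
  rw [exists_alt_five.choose_spec.2]
  refine or_congr ⟨fun h => congrArg Subtype.val (I.toTop.eq1.map_eq_one_iff.1 h),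
    fun h => by rw [show e = 1 from Subtype.ext h, map_one]⟩ ⟨fun h => ?_, fun h => ?_⟩
  · exact congrArg Subtype.val (I.toTop.eq1.injective (h.trans I.f1_t.symm))
  · rw [show e = ⟨I.t, I.t_mem_E1⟩ from Subtype.ext h, I.f1_t]

theorem piE_eq_iff {a b : I.toTop.E1} : I.piE a = I.piE b ↔ (a : G) = b ∨ (a : G) = b * I.t := by
  have h : I.piE a = I.piE b ↔ I.piE (b⁻¹ * a) = 1 := by rw [map_mul, map_inv, inv_mul_eq_one, eq_comm]
  rw [h, I.piE_ker]
  simp only [coe_mul, coe_inv, inv_mul_eq_iff_eq_mul, mul_one]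

theorem piE_cj (x : I.NZ) {a b : I.toTop.E1} (h : I.piE a = I.piE b) : I.piE (I.cj x a) = I.piE (I.cj x b) := by
  rcases I.piE_eq_iff.1 h with h | h
  · rw [show a = b from Subtype.ext h]
  · refine I.piE_eq_iff.2 (Or.inr ?_)
    show (x : G) * a * (x : G)⁻¹ = x * b * (x : G)⁻¹ * I.t
    rw [h, mul_assoc ((x : G) * b), ((I.comm_H (mem_inf.1 x.2).1).inv_left).eq]
    group

/-- The induced endomorphism. -/
noncomputable def barMap (x : I.NZ) : alternatingGroup (Fin 5) →* alternatingGroup (Fin 5) where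
  toFun a := I.piE (I.cj x (Function.surjInv I.piE_surj a))
  map_one' := by
    rw [I.piE_cj x (b := 1) (by rw [Function.surjInv_eq I.piE_surj, map_one]), map_one, map_one]
  map_mul' a b := by
    rw [← map_mul, ← map_mul]
    exact I.piE_cj x (by rw [map_mul, Function.surjInv_eq I.piE_surj, Function.surjInv_eq I.piE_surj,
      Function.surjInv_eq I.piE_surj])

theorem barMap_pi (x : I.NZ) (e : I.toTop.E1) : I.barMap x (I.piE e) = I.piE (I.cj x e) :=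
  I.piE_cj x (Function.surjInv_eq I.piE_surj _)

theorem barMap_mul (x y : I.NZ) (a : alternatingGroup (Fin 5)) : I.barMap (x * y) a = I.barMap x (I.barMap y a) := by
  obtain ⟨e, rfl⟩ := I.piE_surj a
  rw [I.barMap_pi, I.barMap_pi, I.barMap_pi, I.cj_mul]

theorem barMap_one (a : alternatingGroup (Fin 5)) : I.barMap 1 a = a := by
  obtain ⟨e, rfl⟩ := I.piE_surj a
  rw [I.barMap_pi]
  exact congrArg I.piE (Subtype.ext (by simp [cj]))

/-- The induced automorphisms. -/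
noncomputable def barAut : I.NZ →* MulAut (alternatingGroup (Fin 5)) where
  toFun x :=
    { toFun := I.barMap x
      invFun := I.barMap x⁻¹
      left_inv := fun a => by rw [← I.barMap_mul, inv_mul_cancel, I.barMap_one]
      right_inv := fun a => by rw [← I.barMap_mul, mul_inv_cancel, I.barMap_one]
      map_mul' := map_mul _ }
  map_one' := MulEquiv.ext I.barMap_one
  map_mul' x y := MulEquiv.ext (I.barMap_mul x y)

/-- The representation on five points. -/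
noncomputable def rho5 : I.NZ →* Perm (Fin 5) := Cfsg.Lib.M12Cent.conjAlt.symm.toMonoidHom.comp I.barAut

theorem rho5_E1 (e : I.toTop.E1) : I.rho5 ⟨e, I.E1_le_NZ e.2⟩ = (I.piE e : Perm (Fin 5)) := by
  refine Cfsg.Lib.M12Cent.conjAlt.symm_apply_eq.2 (MulEquiv.ext fun a => ?_)
  obtain ⟨f, rfl⟩ := I.piE_surj a
  show I.barMap _ (I.piE f) = MulAut.conjNormal (I.piE e : Perm (Fin 5)) (I.piE f)
  rw [I.barMap_pi]
  refine Subtype.ext ?_
  rw [MulAut.conjNormal_apply, show I.cj ⟨e, I.E1_le_NZ e.2⟩ f = e * f * e⁻¹ from Subtype.ext (by simp [cj]),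
    map_mul, map_mul, map_inv]
  rfl

theorem rho5_ker {x : I.NZ} : I.rho5 x = 1 ↔ ∀ e ∈ I.toTop.E1, Commute (x : G) e := by
  constructor
  · intro h e he
    have hb : I.barAut x = 1 := (Cfsg.Lib.M12Cent.conjAlt.symm.map_eq_one_iff).1 h
    have hc : ∀ f : I.toTop.E1, (x : G) * f * (x : G)⁻¹ = f ∨ (x : G) * f * (x : G)⁻¹ = f * I.t := fun f => by
      have h2 : I.piE (I.cj x f) = I.piE f := (I.barMap_pi x f).symm.trans (by
        show (I.barAut x) (I.piE f) = _; rw [hb]; rfl)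
      exact I.piE_eq_iff.1 h2
    -- the twisting sign vanishes on commutators
    have hsub : commutator I.toTop.E1 ≤ (centralizer ({(x : G)} : Set G)).comap I.toTop.E1.subtype := by
      rw [_root_.commutator_def, commutator_le]
      rintro a - b -
      refine mem_centralizer_singleton_iff.2 ?_
      show ((⁅a, b⁆ : I.toTop.E1) : G) * x = x * ((⁅a, b⁆ : I.toTop.E1) : G)
      have ht : ∀ f : I.toTop.E1, Commute I.t (f : G) := fun f => (I.toTop.E1_comm_t f.2).symm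
      have e1 : (x : G) * ((⁅a, b⁆ : I.toTop.E1) : G) * (x : G)⁻¹ =
          ⁅(x : G) * a * (x : G)⁻¹, (x : G) * b * (x : G)⁻¹⁆ := by
        simp only [commutatorElement_def, coe_mul, coe_inv]; group
      have e2 : ∀ p q : G, (p = (a : G) ∨ p = a * I.t) → (q = (b : G) ∨ q = b * I.t) → ⁅p, q⁆ = ⁅(a : G), (b : G)⁆ := by
        intro p q hp hq
        have hl : ∀ q' : G, Commute I.t q' → ⁅(a : G) * I.t, q'⁆ = ⁅(a : G), q'⁆ := fun q' hq' => by
          simp only [commutatorElement_def, mul_inv_rev, mul_assoc]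
          rw [← mul_assoc I.t q', hq'.eq, mul_assoc q', mul_inv_cancel_left]
        have hr : ∀ p' : G, Commute I.t p' → ⁅p', (b : G) * I.t⁆ = ⁅p', (b : G)⁆ := fun p' hp' => by
          simp only [commutatorElement_def, mul_inv_rev, mul_assoc]
          rw [← mul_assoc I.t p'⁻¹, hp'.inv_right.eq, mul_assoc p'⁻¹, mul_inv_cancel_left]
        rcases hp with rfl | rfl <;> rcases hq with rfl | rfl
        · rfl
        · exact hr _ (ht a)
        · exact hl _ (ht b)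
        · rw [hl _ ((ht b).mul_right (Commute.refl _)), hr _ (ht a)]
      have e3 := e2 _ _ (hc a) (hc b)
      rw [← e1] at e3
      exact (mul_inv_eq_iff_eq_mul.1 (e3.trans (by simp only [commutatorElement_def, coe_mul, coe_inv]))).symm
    have htop : commutator I.toTop.E1 = ⊤ := by
      refine Subgroup.map_injective (f := I.toTop.eq1.toMonoidHom) I.toTop.eq1.injective ?_
      rw [_root_.commutator_def, map_commutator,
        map_top_of_surjective I.toTop.eq1.toMonoidHom I.toTop.eq1.surjective, ← _root_.commutator_def, sl5_perfect]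
    exact (mem_centralizer_singleton_iff.1 (hsub (htop.symm ▸ mem_top (⟨e, he⟩ : I.toTop.E1)))).symm
  · intro h
    refine (Cfsg.Lib.M12Cent.conjAlt.symm.map_eq_one_iff).2 (MulEquiv.ext fun a => ?_)
    obtain ⟨e, rfl⟩ := I.piE_surj a
    show I.barMap x (I.piE e) = _
    rw [I.barMap_pi]
    exact congrArg I.piE (Subtype.ext (by
      show (x : G) * e * (x : G)⁻¹ = e
      rw [(h e e.2).eq, mul_inv_cancel_right]))

/-- Elements fixing the derived subgroup and the centre. -/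
theorem cent_E1_fix {x : G} (hx : x ∈ I.C0) (h : ∀ e ∈ I.toTop.E1, Commute x e) : x ∈ I.Z ∨ I.t * x ∈ I.Z := by
  have h1 := I.sign_C0 hx
  have hM : x ∈ I.toData.M := I.toTop.norm_D_M (I.C0_le_NZ hx).2 fun d hd => by
    obtain ⟨v, rfl⟩ := (I.memJ d).1 hd.1
    obtain ⟨a, b, e'⟩ := I.mem_D_split hd
    have h27 : x * I.e 27 * x⁻¹ = I.e 27 := mul_inv_eq_iff_eq_mul.2 (h _ I.w_mem).eq
    rw [e', conj_mul.symm, ← conj_pow, ← conj_pow, h1, h27, ← e']
    exact hd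
  have hmem : x ∈ I.toTop.H ⊓ I.toData.M := mem_inf.2 ⟨(mem_inf.1 hx).1, hM⟩
  obtain ⟨c, hc⟩ := I.exists_code hmem
  obtain ⟨n1, -, -, n27⟩ := named_vectors.2.2.2.2.2.2.2 c
  have hZ : colZ c = 1 := n1.symm.trans (I.e_inj ((hc 1).symm.trans h1))
  have hW : colW c = 27 := n27.symm.trans (I.e_inj ((hc 27).symm.trans (mul_inv_eq_iff_eq_mul.2 (h _ I.w_mem).eq)))
  have hcomm : mulH c I.k₀ = mulH I.k₀ c := I.toFrame.code_unique (I.toFrame.acts_H_mul hc I.y_acts)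
    ((h _ I.y_mem).eq.symm ▸ I.toFrame.acts_H_mul I.y_acts hc)
  have finish : ∀ d ∈ I.toTop.D, Commute d I.y → d ∈ I.Z := by
    intro d hd hdy
    obtain ⟨v, rfl⟩ := (I.memJ d).1 hd.1
    obtain ⟨a, b, e'⟩ := I.mem_D_split hd
    have hy : I.y * I.e v * I.y⁻¹ = I.e v := mul_inv_eq_iff_eq_mul.2 hdy.symm.eq
    rw [e', conj_mul.symm, ← conj_pow, ← conj_pow, I.y_fix_z, I.y_inv_w, mul_left_cancel_iff, inv_pow] at hy
    have hb : (I.e 27 ^ b.val) ^ 2 = 1 := by rw [pow_two]; exact inv_eq_iff_mul_eq_one.1 hy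
    have hb3 : (I.e 27 ^ b.val) ^ 3 = 1 := I.hJexp _ (pow_mem (I.toFrame.e_mem 27) _)
    rw [pow_succ, hb, one_mul] at hb3
    rw [e', hb3, mul_one]
    exact pow_mem ((I.eZ _).2 ⟨1, rfl⟩) _
  rcases iso_commute I.k₀ c I.hk₀ hZ hW hcomm with r | r <;> subst r
  · exact Or.inl (finish x (I.code_zero hmem.1 hc) (h _ I.y_mem))
  · have h0 := I.toFrame.acts_H_mul I.hta hc
    rw [base_closed.2.2.2.2.2.2] at h0
    exact Or.inr (finish _ (I.code_zero (mul_mem (I.mem_H (Commute.refl _)) hmem.1) h0)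
      (I.y_comm.symm.mul_left (h _ I.y_mem)))

/-- Without the extra element nothing inverting the centre fixes the derived subgroup. -/
theorem cent_E1_invert (hA : I.CaseA) {x : G} (hx : x ∈ I.NZ) (h1 : x * I.e 1 * x⁻¹ = (I.e 1)⁻¹)
    (h : ∀ e ∈ I.toTop.E1, Commute x e) : False := by
  have h27 : x * I.e 27 * x⁻¹ = I.e 27 := mul_inv_eq_iff_eq_mul.2 (h _ I.w_mem).eq
  have hM : x ∈ I.toData.M := I.toTop.norm_D_M (mem_inf.1 hx).2 fun d hd => by
    obtain ⟨v, rfl⟩ := (I.memJ d).1 hd.1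
    obtain ⟨a, b, e'⟩ := I.mem_D_split hd
    rw [e', conj_mul.symm, ← conj_pow, ← conj_pow, h1, h27]
    exact mul_mem (pow_mem (inv_mem I.toTop.e1_mem_D) _) (pow_mem I.toTop.e27_mem_D _)
  have hmem : x ∈ I.toTop.H ⊓ I.toData.M := mem_inf.2 ⟨(mem_inf.1 hx).1, hM⟩
  obtain ⟨c, hc⟩ := I.exists_code hmem
  obtain ⟨n1, -, -, n27⟩ := named_vectors.2.2.2.2.2.2.2 c
  rw [← I.toFrame.e_inv, named_vectors.2.2.1] at h1
  have hZ : colZ c = 2 := n1.symm.trans (I.e_inj ((hc 1).symm.trans h1))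
  have hW : colW c = 27 := n27.symm.trans (I.e_inj ((hc 27).symm.trans h27))
  have hcomm : mulH c I.k₀ = mulH I.k₀ c := I.toFrame.code_unique (I.toFrame.acts_H_mul hc I.y_acts)
    ((h _ I.y_mem).eq.symm ▸ I.toFrame.acts_H_mul I.y_acts hc)
  exact outer_code I.k₀ c I.hk₀ hZ hW hcomm ((I.code_mem hmem hc).2 hA)

theorem exists_rho3 : ∃ f : I.NZ →* Perm (Fin 3), (∀ e : I.NZ, (e : G) ∈ I.toTop.E1 → f e = 1) ∧
    (∀ z : I.NZ, (z : G) ∈ I.Z → (z : G) ≠ 1 → f z ≠ 1) := by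
  haveI : Fact (Nat.Prime 2) := ⟨Nat.prime_two⟩
  obtain ⟨E, hEd⟩ : ∃ E, E = I.toTop.E1.subgroupOf I.NZ := ⟨_, rfl⟩
  haveI hEn : E.Normal := hEd ▸ ⟨fun a ha x => mem_subgroupOf.2 (by
    have := I.norm_E1 (mem_inf.1 x.2).2 (mem_inf.1 x.2).1 (mem_subgroupOf.1 ha)
    simpa using this)⟩
  obtain ⟨P⟩ : Nonempty (Sylow 2 I.NZ) := inferInstance
  have hEc : Nat.card E = 120 := by
    rw [hEd, Nat.card_congr (subgroupOfEquivOfLe I.E1_le_NZ).toEquiv, Nat.card_congr I.toTop.eq1.toEquiv]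
    haveI : Fact (Nat.Prime 5) := ⟨by norm_num⟩
    rw [Cfsg.Lib.Classical.SLTwoTori.card_SL2, ZMod.card]
    norm_num
  obtain ⟨H3, hH3⟩ : ∃ H3, H3 = E ⊔ (P : Subgroup I.NZ) := ⟨_, rfl⟩
  have hcard : Nat.card I.NZ = 720 ∨ Nat.card I.NZ = 1440 := by
    by_cases h : I.CaseA
    · exact Or.inl (I.card_NZ_cases.1 h)
    · exact Or.inr (I.card_NZ_cases.2 h)
  have hEle : E ≤ H3 := hH3 ▸ le_sup_left
  have h15 : 120 ∣ Nat.card H3 := hEc ▸ card_dvd_of_le hEle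
  have hPd : Nat.card P ∣ Nat.card H3 := card_dvd_of_le (hH3 ▸ le_sup_right)
  have hdvd := Cfsg.Lib.Coprime.card_sup_mul_card_inf (H := (P : Subgroup I.NZ)) (N := E)
    (fun g _ => by rw [normalizer_eq_top]; exact mem_top g)
  rw [← hH3] at hdvd
  have hHd : Nat.card H3 ∣ 120 * Nat.card P := Dvd.intro _ (hdvd.trans (by rw [hEc]))
  have hPp := P.card_eq_multiplicity
  obtain ⟨hH, hidx⟩ : (Nat.card H3 = 240 ∧ Nat.card I.NZ = 720 ∨ Nat.card H3 = 480 ∧ Nat.card I.NZ = 1440) ∧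
      H3.index = 3 := by
    have hm := H3.card_mul_index
    rcases hcard with h | h <;> rw [h] at hPp hm
    · have h16 : Nat.card P = 16 := by
        rw [hPp, show (720 : ℕ) = 2 ^ 4 * 45 by norm_num, Nat.factorization_mul (by norm_num) (by norm_num),
          Finsupp.add_apply, Nat.Prime.factorization_pow Nat.prime_two, Finsupp.single_eq_same,
          Nat.factorization_eq_zero_of_not_dvd (by norm_num : ¬ 2 ∣ 45)]
        norm_num
      rw [h16] at hPd hHd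
      have h240 : 240 ∣ Nat.card H3 := (show (240 : ℕ) = Nat.lcm 120 16 by norm_num) ▸ Nat.lcm_dvd h15 hPd
      have hd : Nat.card H3 ∣ 240 := by
        have h' := Nat.dvd_gcd hHd (Dvd.intro _ hm : Nat.card H3 ∣ 720)
        rwa [show Nat.gcd (120 * 16) 720 = 240 by norm_num] at h'
      have e := Nat.dvd_antisymm hd h240
      exact ⟨Or.inl ⟨e, h⟩, by rw [e] at hm; omega⟩
    · have h32 : Nat.card P = 32 := by
        rw [hPp, show (1440 : ℕ) = 2 ^ 5 * 45 by norm_num, Nat.factorization_mul (by norm_num) (by norm_num),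
          Finsupp.add_apply, Nat.Prime.factorization_pow Nat.prime_two, Finsupp.single_eq_same,
          Nat.factorization_eq_zero_of_not_dvd (by norm_num : ¬ 2 ∣ 45)]
        norm_num
      rw [h32] at hPd hHd
      have h480 : 480 ∣ Nat.card H3 := (show (480 : ℕ) = Nat.lcm 120 32 by norm_num) ▸ Nat.lcm_dvd h15 hPd
      have hd : Nat.card H3 ∣ 480 := by
        have h' := Nat.dvd_gcd hHd (Dvd.intro _ hm : Nat.card H3 ∣ 1440)
        rwa [show Nat.gcd (120 * 32) 1440 = 480 by norm_num] at h'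
      have e := Nat.dvd_antisymm hd h480
      exact ⟨Or.inr ⟨e, h⟩, by rw [e] at hm; omega⟩
  have hcQ : Nat.card (I.NZ ⧸ H3) = 3 := by rw [← H3.index_eq_card, hidx]
  obtain ⟨ε⟩ : Nonempty ((I.NZ ⧸ H3) ≃ Fin 3) := ⟨(Finite.equivFinOfCardEq hcQ)⟩
  obtain ⟨f, hfd⟩ : ∃ f : I.NZ →* Perm (Fin 3),
      ∀ g, f g = 1 ↔ MulAction.toPermHom I.NZ (I.NZ ⧸ H3) g = 1 :=
    ⟨ε.permCongrHom.toMonoidHom.comp (MulAction.toPermHom I.NZ (I.NZ ⧸ H3)), fun g =>
      ε.permCongrHom.map_eq_one_iff⟩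
  have hker : ∀ g, f g = 1 → g ∈ H3 := fun g h => by
    have h' : g • ((1 : I.NZ) : I.NZ ⧸ H3) = ((1 : I.NZ) : I.NZ ⧸ H3) := by
      have := congrArg (fun σ : Perm (I.NZ ⧸ H3) => σ ((1 : I.NZ) : I.NZ ⧸ H3)) ((hfd g).1 h)
      exact this
    have h'' := QuotientGroup.eq.1 h'
    simpa using h''
  refine ⟨f, fun e he => (hfd e).2 (Perm.ext fun q => ?_), fun z hz hz1 h => ?_⟩
  · obtain ⟨x, rfl⟩ := QuotientGroup.mk_surjective q
    show e • (x : I.NZ ⧸ H3) = x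
    refine (QuotientGroup.eq.2 (hEle ?_)).symm
    show x⁻¹ * (e * x) ∈ E
    rw [← mul_assoc]
    exact hEn.conj_mem' e (hEd ▸ mem_subgroupOf.2 he) x
  · -- otherwise the subgroup would have order divisible by nine
    have hzH := hker z h
    have hd : Disjoint E (zpowers z) := disjoint_iff_inf_le.2 fun a ha => by
      obtain ⟨n, rfl⟩ := mem_zpowers_iff.1 ha.2
      exact Subtype.ext (I.toTop.E1_inf_Z (mem_subgroupOf.1 (hEd ▸ ha.1)) (by
        rw [SubgroupClass.coe_zpow]; exact zpow_mem hz n))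
    let μ : E × zpowers z → H3 := fun p => ⟨p.1 * p.2, mul_mem (hEle p.1.2) (zpowers_le.2 hzH p.2.2)⟩
    have hμ : Function.Injective μ := fun p q h => Subgroup.mul_injective_of_disjoint hd (congrArg Subtype.val h)
    have hsub : E ⊔ zpowers z ≤ H3 := sup_le hEle (zpowers_le.2 hzH)
    have hc' := Cfsg.Lib.Coprime.card_sup_mul_card_inf (H := zpowers z) (N := E)
      (fun g _ => by rw [normalizer_eq_top]; exact mem_top g)
    rw [disjoint_iff.1 hd, card_bot, mul_one, hEc] at hc'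
    haveI := fact_three
    have hz3 : orderOf z = 3 := by
      rw [← orderOf_coe]
      exact orderOf_eq_prime (I.hQexp _ (I.toData.Z_le_Q hz)) hz1
    rw [Nat.card_zpowers, hz3] at hc'
    have h360 := card_dvd_of_le hsub
    rw [hc'] at h360
    rcases hH with ⟨e, -⟩ | ⟨e, -⟩ <;> rw [e] at h360 <;> norm_num at h360

/-- The representation on three points. -/
noncomputable def rho3 : I.NZ →* Perm (Fin 3) := I.exists_rho3.choose

/-- Both representations. -/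
noncomputable def rho : I.NZ →* Perm (Fin 3) × Perm (Fin 5) := I.rho3.prod I.rho5

theorem rho3_z : I.rho3 ⟨I.e 1, I.Z_le_NZ ((I.eZ _).2 ⟨1, rfl⟩)⟩ ≠ 1 :=
  I.exists_rho3.choose_spec.2 _ ((I.eZ _).2 ⟨1, rfl⟩) (I.toFrame.e_ne named_vectors.1)

theorem rho3_sign {x : I.NZ} : ((x : G) ∈ I.C0 → Perm.sign (I.rho3 x) = 1) ∧
    ((x : G) * I.e 1 * (x : G)⁻¹ = (I.e 1)⁻¹ → Perm.sign (I.rho3 x) = -1) := by
  obtain ⟨z, hz⟩ : ∃ z : I.NZ, z = ⟨I.e 1, I.Z_le_NZ ((I.eZ _).2 ⟨1, rfl⟩)⟩ := ⟨_, rfl⟩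
  have h3 : I.rho3 z ^ 3 = 1 := by
    rw [← map_pow, show z ^ 3 = 1 from Subtype.ext (by
      rw [SubgroupClass.coe_pow, hz]; exact I.hJexp _ (I.toFrame.e_mem 1)), map_one]
  obtain ⟨h1, h2⟩ := sign_inverting (I.rho3 z) (I.rho3 x) h3 (hz ▸ I.rho3_z)
  refine ⟨fun h => h2 ?_, fun h => h1 ?_⟩
  · rw [← map_inv, ← map_mul, ← map_mul]
    exact congrArg I.rho3 (Subtype.ext (by subst hz; exact I.sign_C0 h))
  · rw [← map_inv, ← map_mul, ← map_mul, ← map_inv]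
    exact congrArg I.rho3 (Subtype.ext (by subst hz; exact h))

/-- The kernel is generated by the involution. -/
theorem rho_ker {x : I.NZ} : I.rho x = 1 ↔ (x : G) = 1 ∨ (x : G) = I.t := by
  constructor
  · intro h
    have h3 : I.rho3 x = 1 := congrArg Prod.fst h
    have hc := (I.rho5_ker).1 (congrArg Prod.snd h)
    have hx : (x : G) ∈ I.C0 := by
      rcases I.NZ_sign x.2 with r | r
      · exact I.mem_C0_of_fix x.2 r
      · exact absurd (I.rho3_sign.2 r) (by rw [h3]; simp)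
    have ht : (I.t : G) ∈ I.NZ := I.E1_le_NZ I.t_mem_E1
    rcases I.cent_E1_fix hx hc with r | r
    · refine Or.inl ?_
      by_contra hne
      exact I.exists_rho3.choose_spec.2 x r hne h3
    · refine Or.inr ?_
      by_contra hne
      have hne' : I.t * (x : G) ≠ 1 := fun h' => hne (by rw [eq_inv_of_mul_eq_one_right h', I.toTop.t_inv])
      refine I.exists_rho3.choose_spec.2 (⟨I.t, ht⟩ * x) r hne' ?_
      show I.rho3 _ = 1
      rw [map_mul, h3, mul_one]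
      exact I.exists_rho3.choose_spec.1 ⟨I.t, ht⟩ I.t_mem_E1
  · intro h
    rcases h with r | r
    · rw [show x = 1 from Subtype.ext r, map_one]
    · refine Prod.ext (I.exists_rho3.choose_spec.1 x (r ▸ I.t_mem_E1)) (I.rho5_ker.2 fun e he => r ▸ ?_)
      exact (I.toTop.E1_comm_t he).symm

theorem sign_match (hA : I.CaseA) (x : I.NZ) : Perm.sign (I.rho3 x) = Perm.sign (I.rho5 x) := by
  rcases I.NZ_sign x.2 with h | h
  · have hx := I.mem_C0_of_fix x.2 h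
    rw [I.rho3_sign.1 hx]
    rw [I.C0_eq_E0 hA] at hx
    obtain ⟨z, hz, e, he, hze⟩ := I.toTop.E0_split hx
    rw [show x = ⟨z, I.Z_le_NZ hz⟩ * ⟨e, I.E1_le_NZ he⟩ from Subtype.ext hze, map_mul, map_mul,
      show I.rho5 ⟨z, I.Z_le_NZ hz⟩ = 1 from I.rho5_ker.2 fun f hf =>
        (show Commute z f from mem_centralizer_iff.1 (I.toTop.E1_cent_Z hf) z hz), map_one, one_mul,
      I.rho5_E1 ⟨e, he⟩]
    exact (Perm.mem_alternatingGroup.1 (I.piE _).2).symm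
  · rw [I.rho3_sign.2 h]
    rcases Int.units_eq_one_or (Perm.sign (I.rho5 x)) with h5 | h5
    swap
    · rw [h5]
    exfalso
    obtain ⟨e, he⟩ := I.piE_surj ⟨I.rho5 x, Perm.mem_alternatingGroup.2 h5⟩
    have hy : (⟨(e : G), I.E1_le_NZ e.2⟩ : I.NZ)⁻¹ * x ∈ I.rho5.ker := by
      rw [MonoidHom.mem_ker, map_mul, map_inv, I.rho5_E1, he, inv_mul_cancel]
    refine I.cent_E1_invert hA (mul_mem (inv_mem (I.E1_le_NZ e.2)) x.2) ?_ (I.rho5_ker.1 hy)
    calc (e : G)⁻¹ * x * I.e 1 * ((e : G)⁻¹ * x)⁻¹ = (e : G)⁻¹ * ((x : G) * I.e 1 * (x : G)⁻¹) * (e : G)⁻¹⁻¹ := by group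
      _ = ((e : G)⁻¹ * I.e 1 * (e : G)⁻¹⁻¹)⁻¹ := by rw [h]; group
      _ = (I.e 1)⁻¹ := by rw [I.toTop.e1_comm_of_cent (inv_mem (I.toTop.E1_cent_Z e.2))]

end Inv

end Cfsg.Lib.McLLocal
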